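import Mathlib

/-! Sets of element orders (spectra): small alternating groups, fibre powers. -/

namespace Cfsg.Agent.Spectrum

/-- The possible pairs (lcm, parity of sum + count) of multisets of at most `fuel` numbers `≥ 2`
with sum `≤ n`. -/
def reach : ℕ → ℕ → List (ℕ × ℕ)
  | 0, _ => [(1, 0)]
  | fuel + 1, n => (1, 0) :: (List.range (n + 1)).flatMap
      (fun a => if 2 ≤ a then (reach fuel (n - a)).map
        (fun x => (Nat.lcm a x.1, (a + 1 + x.2) % 2)) else [])

theorem mem_reach : ∀ (fuel n : ℕ) (s : Multiset ℕ), (∀ a ∈ s, 2 ≤ a) → s.sum ≤ n →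
    Multiset.card s ≤ fuel → (s.lcm, (s.sum + Multiset.card s) % 2) ∈ reach fuel n := by
  intro fuel
  induction fuel with
  | zero =>
    intro n s _ _ hc
    obtain rfl : s = 0 := Multiset.card_eq_zero.mp (by omega)
    simp [reach]
  | succ fuel ih =>
    intro n s hs hn hc
    induction s using Multiset.induction with
    | empty => simp [reach]
    | cons a t _ =>
      have ha : 2 ≤ a := hs a (Multiset.mem_cons_self a t)
      simp only [Multiset.sum_cons, Multiset.card_cons] at hn hc
      have h1 := ih (n - a) t (fun b hb => hs b (Multiset.mem_cons_of_mem hb)) (by omega) (by omega)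
      simp only [reach, List.mem_cons, List.mem_flatMap, List.mem_range]
      right
      refine ⟨a, by omega, ?_⟩
      rw [if_pos ha, List.mem_map]
      refine ⟨_, h1, ?_⟩
      simp only [Multiset.lcm_cons, Multiset.sum_cons, Multiset.card_cons, Prod.mk.injEq]
      refine ⟨rfl, ?_⟩
      omega

theorem orderOf_alternating_mem {n : ℕ} (fuel : ℕ) (hf : n ≤ 2 * fuel + 1) (S : List ℕ)
    (hS : ((reach fuel n).all fun x => x.2 == 1 || S.contains x.1) = true)
    (σ : alternatingGroup (Fin n)) : orderOf σ ∈ S := by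
  have h2 : ∀ a ∈ (σ : Equiv.Perm (Fin n)).cycleType, 2 ≤ a :=
    fun a ha => Equiv.Perm.two_le_of_mem_cycleType ha
  have hsum : (σ : Equiv.Perm (Fin n)).cycleType.sum ≤ n := by
    rw [Equiv.Perm.sum_cycleType]
    exact le_trans (Finset.card_le_univ _) (by simp)
  have hcard : Multiset.card (σ : Equiv.Perm (Fin n)).cycleType * 2 ≤
      (σ : Equiv.Perm (Fin n)).cycleType.sum := by
    simpa [smul_eq_mul] using Multiset.card_nsmul_le_sum h2
  have hpar : ((σ : Equiv.Perm (Fin n)).cycleType.sum +
      Multiset.card (σ : Equiv.Perm (Fin n)).cycleType) % 2 = 0 := by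
    have h := Equiv.Perm.mem_alternatingGroup.mp σ.2
    rw [Equiv.Perm.sign_of_cycleType, neg_one_pow_eq_one_iff_even (by decide)] at h
    exact Nat.even_iff.mp h
  have h := List.all_eq_true.mp hS _ (mem_reach fuel n _ h2 hsum (by omega))
  simp only [hpar, Equiv.Perm.lcm_cycleType] at h
  rw [← orderOf_injective (alternatingGroup (Fin n)).subtype Subtype.val_injective σ]
  simpa using h

/-- A finite set of positive integers that is closed under divisors and is realised. -/
theorem range_orderOf_eq {G : Type*} [Group G] (S : List ℕ)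
    (h1 : ∀ g : G, orderOf g ∈ S) (h2 : ∀ n ∈ S, ∃ g : G, orderOf g = n) :
    Set.range (orderOf : G → ℕ) = {n | n ∈ S} := by
  ext n
  constructor
  · rintro ⟨g, rfl⟩; exact h1 g
  · exact h2 n

theorem exists_orderOf_of_dvd {G : Type*} [Group G] (M : List ℕ) (hpos : ∀ m ∈ M, m ≠ 0)
    (hM : ∀ m ∈ M, ∃ g : G, orderOf g = m) {n : ℕ} (hn : ∃ m ∈ M, n ∣ m) :
    ∃ g : G, orderOf g = n := by
  obtain ⟨m, hm, hd⟩ := hn
  obtain ⟨g, hg⟩ := hM m hm
  obtain ⟨c, rfl⟩ := hd
  refine ⟨g ^ c, ?_⟩
  have hc : c ≠ 0 := fun h => hpos _ hm (by simp [h])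
  rw [orderOf_pow' g hc, hg, Nat.gcd_eq_right (dvd_mul_left c n)]
  exact Nat.mul_div_cancel n (Nat.pos_of_ne_zero hc)

theorem mem_of_pow_eq_one {G : Type*} [Group G] {S : List ℕ}
    (hS : (S.all fun m => m != 0 && (List.range (m + 1)).all fun d => m % d != 0 || S.contains d) = true)
    {g : G} {N : ℕ} (hN : N ∈ S) (hg : g ^ N = 1) : orderOf g ∈ S := by
  have h := List.all_eq_true.mp hS N hN
  simp only [Bool.and_eq_true, bne_iff_ne, ne_eq, List.all_eq_true, List.mem_range,
    Bool.or_eq_true, List.contains_eq_mem, decide_eq_true_eq] at h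
  have hd := orderOf_dvd_of_pow_eq_one hg
  rcases h.2 (orderOf g) (Nat.lt_succ_of_le (Nat.le_of_dvd (Nat.pos_of_ne_zero h.1) hd)) with h' | h'
  · exact absurd (Nat.mod_eq_zero_of_dvd hd) h'
  · exact h'

variable {B Q : Type*} [Group B] [Group Q]

/-- The tuples all of whose entries have the same image under `π`. -/
def fibrePower (π : B →* Q) (k : ℕ) : Subgroup (Fin k → B) where
  carrier := {f | ∀ i j, π (f i) = π (f j)}
  one_mem' := by simp
  mul_mem' := fun {f g} hf hg i j => by
    simp only [Pi.mul_apply, map_mul, hf i j, hg i j]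
  inv_mem' := fun {f} hf i j => by simp only [Pi.inv_apply, map_inv, hf i j]

/-- If every coset of `ker π` has an exponent from `S`, then arbitrarily large groups have
spectrum `S`. -/
theorem exists_large {B Q : Type} [Group B] [Finite B] [Group Q] (π : B →* Q)
    (hker : ∃ b : B, b ≠ 1 ∧ π b = 1) (S : List ℕ)
    (hdiv : (S.all fun m => m != 0 && (List.range (m + 1)).all fun d => m % d != 0 || S.contains d) = true)
    (hS : ∀ q : Q, ∃ N ∈ S, ∀ b : B, π b = q → b ^ N = 1)
    (hreal : ∀ n ∈ S, ∃ b : B, orderOf b = n) (N : ℕ) :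
    ∃ (H : Type) (_ : Group H) (_ : Fintype H),
      N < Fintype.card H ∧ Set.range (orderOf : H → ℕ) = {n | n ∈ S} := by
  classical
  let H := fibrePower π (N + 1)
  haveI : Fintype H := Fintype.ofFinite _
  refine ⟨H, inferInstance, inferInstance, ?_, range_orderOf_eq S ?_ ?_⟩
  · obtain ⟨b, hb, hπ⟩ := hker
    let e : (Fin (N + 1) → Bool) → H := fun x =>
      ⟨fun i => if x i then b else 1, fun i j => by
        show π (if x i then b else 1) = π (if x j then b else 1)
        split_ifs <;> simp [hπ]⟩
    have he : Function.Injective e := by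
      intro x y hxy
      funext i
      have h := congrFun (Subtype.ext_iff.mp hxy) i
      simp only [e] at h
      cases hx : x i <;> cases hy : y i <;> simp [hx, hy] at h <;>
        first | rfl | exact absurd h hb | exact absurd h.symm hb
    have h := Fintype.card_le_of_injective e he
    rw [Fintype.card_fun, Fintype.card_bool, Fintype.card_fin] at h
    have := @Nat.lt_two_pow_self (N + 1)
    omega
  · rintro ⟨f, hf⟩
    obtain ⟨m, hm, hpow⟩ := hS (π (f 0))
    refine mem_of_pow_eq_one hdiv hm ?_
    apply Subtype.ext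
    funext i
    exact hpow (f i) (hf i 0)
  · intro n hn
    obtain ⟨b, hb⟩ := hreal n hn
    refine ⟨⟨fun _ => b, fun _ _ => rfl⟩, ?_⟩
    rw [← orderOf_injective H.subtype Subtype.val_injective, ← hb]
    exact orderOf_eq_orderOf_iff.mpr fun m => by
      simp [funext_iff, Fin.forall_fin_succ]

end Cfsg.Agent.Spectrum
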