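import Cfsg.Agent.Lib.Spectrum.MatrixWitness

/-!
# Fast kernel arithmetic for `2 × 2` matrices over a quadratic algebra on `ZMod p`

Matrices are encoded by natural numbers, so that checks on explicit lists are cheap.
-/

set_option autoImplicit false

namespace Cfsg.Agent.Spectrum

open scoped QuadraticAlgebra

/-- A quadratic number encoded by two naturals. -/
abbrev QN : Type := ℕ × ℕ

/-- A `2 × 2` matrix encoded by four quadratic numbers, row by row. -/
abbrev MN : Type := QN × QN × QN × QN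

variable (p a : ℕ)

/-- The value of an encoded number. -/
def qVal (x : QN) : QuadraticAlgebra (ZMod p) (a : ZMod p) 0 := ⟨(x.1 : ZMod p), (x.2 : ZMod p)⟩

/-- Sum of encoded numbers. -/
def qAdd (x y : QN) : QN := ((x.1 + y.1) % p, (x.2 + y.2) % p)

/-- Product of encoded numbers. -/
def qMul (x y : QN) : QN := ((x.1 * y.1 + a * (x.2 * y.2)) % p, (x.1 * y.2 + x.2 * y.1) % p)

/-- The value of an encoded matrix. -/
def mVal (M : MN) : Matrix (Fin 2) (Fin 2) (QuadraticAlgebra (ZMod p) (a : ZMod p) 0) :=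
  !![qVal p a M.1, qVal p a M.2.1; qVal p a M.2.2.1, qVal p a M.2.2.2]

/-- Product of encoded matrices. -/
def mMul (M N : MN) : MN :=
  (qAdd p (qMul p a M.1 N.1) (qMul p a M.2.1 N.2.2.1),
    qAdd p (qMul p a M.1 N.2.1) (qMul p a M.2.1 N.2.2.2),
    qAdd p (qMul p a M.2.2.1 N.1) (qMul p a M.2.2.2 N.2.2.1),
    qAdd p (qMul p a M.2.2.1 N.2.1) (qMul p a M.2.2.2 N.2.2.2))

/-- The encoded identity. -/
def mOne : MN := ((1, 0), (0, 0), (0, 0), (1, 0))

/-- Powers of an encoded matrix. -/
def mPow (M : MN) : ℕ → MN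
  | 0 => mOne
  | k + 1 => mMul p a (mPow M k) M

/-- Reduction of an encoded matrix. -/
def mRed (M : MN) : MN :=
  ((M.1.1 % p, M.1.2 % p), (M.2.1.1 % p, M.2.1.2 % p), (M.2.2.1.1 % p, M.2.2.1.2 % p),
    (M.2.2.2.1 % p, M.2.2.2.2 % p))

/-- The norm of `det (M - 1)`. -/
def mFpf (M : MN) : ℕ :=
  let x : QN := qAdd p M.1 (p - 1, 0)
  let y : QN := qAdd p M.2.2.2 (p - 1, 0)
  let d : QN := qAdd p (qMul p a x y) (qMul p a (p - 1, 0) (qMul p a M.2.1 M.2.2.1))
  (d.1 * d.1 + (p - 1) * (a * (d.2 * d.2))) % p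

theorem qVal_add (x y : QN) : qVal p a (qAdd p x y) = qVal p a x + qVal p a y := by
  ext <;> simp [qVal, qAdd]

theorem qVal_mul (x y : QN) : qVal p a (qMul p a x y) = qVal p a x * qVal p a y := by
  ext <;> simp [qVal, qMul, QuadraticAlgebra.re_mul, QuadraticAlgebra.im_mul] <;> ring

theorem mVal_mul (M N : MN) : mVal p a (mMul p a M N) = mVal p a M * mVal p a N := by
  ext1 i j
  fin_cases i <;> fin_cases j <;>
    simp [mVal, mMul, qVal_add, qVal_mul, Matrix.mul_apply, Fin.sum_univ_two]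

theorem qVal_one : qVal p a (1, 0) = 1 := by ext <;> simp [qVal]

theorem qVal_zero : qVal p a (0, 0) = 0 := by ext <;> simp [qVal]

theorem mVal_one : mVal p a mOne = 1 := by
  ext1 i j
  fin_cases i <;> fin_cases j <;> simp [mVal, mOne, qVal_one, qVal_zero]

theorem mVal_pow (M : MN) (k : ℕ) : mVal p a (mPow p a M k) = mVal p a M ^ k := by
  induction k with
  | zero => rw [mPow, mVal_one, pow_zero]
  | succ k ih => rw [mPow, mVal_mul, ih, pow_succ]

theorem mVal_inj [NeZero p] {M N : MN} (h : mVal p a M = mVal p a N) : mRed p M = mRed p N := by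
  have key : ∀ x y : QN, qVal p a x = qVal p a y → x.1 % p = y.1 % p ∧ x.2 % p = y.2 % p :=
    fun x y h => ⟨(ZMod.natCast_eq_natCast_iff' _ _ _).1 (congrArg QuadraticAlgebra.re h),
      (ZMod.natCast_eq_natCast_iff' _ _ _).1 (congrArg QuadraticAlgebra.im h)⟩
  have h00 := key M.1 N.1 (congrFun (congrFun h 0) 0)
  have h01 := key M.2.1 N.2.1 (congrFun (congrFun h 0) 1)
  have h10 := key M.2.2.1 N.2.2.1 (congrFun (congrFun h 1) 0)
  have h11 := key M.2.2.2 N.2.2.2 (congrFun (congrFun h 1) 1)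
  simp [mRed, h00, h01, h10, h11]

theorem det_sub_one_unit [Fact p.Prime] (M : MN) (h : mFpf p a M ≠ 0) :
    ∃ e, (mVal p a M - 1).det * e = 1 := by
  have h1 : ((p - 1 : ℕ) : ZMod p) = -1 := by
    rw [Nat.cast_sub (Fact.out : p.Prime).one_le, ZMod.natCast_self, Nat.cast_one, zero_sub]
  have hm1 : qVal p a (p - 1, 0) = -1 := by
    ext
    · simp [qVal, h1]
    · simp [qVal]
  set x : QN := qAdd p M.1 (p - 1, 0) with hx
  set y : QN := qAdd p M.2.2.2 (p - 1, 0) with hy
  set d : QN := qAdd p (qMul p a x y) (qMul p a (p - 1, 0) (qMul p a M.2.1 M.2.2.1)) with hd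
  have hdet : (mVal p a M - 1).det = qVal p a d := by
    rw [Matrix.det_fin_two]
    simp [mVal, hd, hx, hy, qVal_add, qVal_mul, hm1]
    ring
  set N : ZMod p := (d.1 : ZMod p) * d.1 - (a : ZMod p) * ((d.2 : ZMod p) * d.2) with hN'
  have hN : N ≠ 0 := by
    intro hc
    apply h
    have hdvd : (((d.1 * d.1 + (p - 1) * (a * (d.2 * d.2))) : ℕ) : ZMod p) = 0 := by
      rw [← hc, Nat.cast_add, Nat.cast_mul, Nat.cast_mul (p - 1), h1]
      push_cast
      ring
    exact Nat.mod_eq_zero_of_dvd ((ZMod.natCast_eq_zero_iff _ _).1 hdvd)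
  refine ⟨⟨(d.1 : ZMod p) * N⁻¹, -(d.2 : ZMod p) * N⁻¹⟩, ?_⟩
  rw [hdet]
  ext
  · have hi := mul_inv_cancel₀ hN
    simp [qVal, QuadraticAlgebra.re_mul]
    linear_combination hi
  · simp [qVal, QuadraticAlgebra.im_mul]
    ring

/-- Each of the lists in a chain is closed, and commutators fall into the next. -/
def chainOK : List (List MN) → Bool
  | [] => false
  | [L] => L == [mOne]
  | L :: L' :: t =>
    L.contains mOne && L.all (fun x => L.all fun y => L.contains (mMul p a x y)) &&
      L.all (fun x => L.all fun y =>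
        L'.any fun z => mMul p a x y == mMul p a z (mMul p a y x)) && chainOK (L' :: t)

/-- Spectrum conditions on the top list. -/
def topOK (L : List MN) (K : List ℕ) : Bool :=
  L.all (fun x => (x == mOne || mFpf p a x != 0) && K.any fun k => mPow p a x k == mOne) &&
    K.all fun k => decide (1 < k) && L.any fun x => mPow p a x k == mOne &&
      (List.range k).all fun m => m == 0 || mRed p (mPow p a x m) != mRed p mOne

theorem solvable_of_chainOK [Fact p.Prime]
    [Finite (Matrix (Fin 2) (Fin 2) (QuadraticAlgebra (ZMod p) (a : ZMod p) 0))] :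
    ∀ (L : List MN) (t : List (List MN)), chainOK p a (L :: t) = true →
    ∃ h1 hmul, Group.IsSolvable (listSubgroup (L.map (mVal p a)) h1 hmul)
  | L, [], h => by
    simp only [chainOK, beq_iff_eq] at h
    subst h
    refine ⟨by simp [mVal_one], by simp [mVal_one], ?_⟩
    have : Subsingleton (listSubgroup ([mOne].map (mVal p a)) (by simp [mVal_one])
        (by simp [mVal_one])) := ⟨fun x y => by
      have hx := x.2
      have hy := y.2
      simp only [mem_listSubgroup, List.map_cons, List.map_nil, List.mem_singleton] at hx hy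
      exact Subtype.ext (Units.ext (hx.trans hy.symm))⟩
    infer_instance
  | L, L' :: t, h => by
    simp only [chainOK, Bool.and_eq_true, List.contains_iff_mem, List.all_eq_true, List.any_eq_true,
      beq_iff_eq] at h
    obtain ⟨⟨⟨h1, hmul⟩, hcomm⟩, ht⟩ := h
    obtain ⟨h1', hmul', hs⟩ := solvable_of_chainOK L' t ht
    have g1 : (1 : Matrix (Fin 2) (Fin 2) (QuadraticAlgebra (ZMod p) (a : ZMod p) 0)) ∈
        L.map (mVal p a) := List.mem_map.2 ⟨_, h1, mVal_one p a⟩
    refine ⟨g1, ?_, ?_⟩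
    · intro x hx y hy
      obtain ⟨x', hx', rfl⟩ := List.mem_map.1 hx
      obtain ⟨y', hy', rfl⟩ := List.mem_map.1 hy
      exact List.mem_map.2 ⟨_, hmul x' hx' y' hy', mVal_mul p a _ _⟩
    · refine solvable_listSubgroup_step _ _ h1' hmul' ?_ hs
      intro x hx y hy
      obtain ⟨x', hx', rfl⟩ := List.mem_map.1 hx
      obtain ⟨y', hy', rfl⟩ := List.mem_map.1 hy
      obtain ⟨z, hz, he⟩ := hcomm x' hx' y' hy'
      refine ⟨mVal p a z, List.mem_map.2 ⟨z, hz, rfl⟩, ?_⟩
      rw [← mVal_mul, he, mVal_mul, mVal_mul]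

/-- A solvable witness from a checked chain of lists. -/
theorem exists_quad_witness [Fact p.Prime] (L : List MN) (t : List (List MN)) (K : List ℕ)
    (hchain : chainOK p a (L :: t) = true) (htop : topOK p a L K = true) :
    ∃ (H : Type) (_ : Group H) (_ : Fintype H), Group.IsSolvable H ∧
      Set.range (orderOf : H → ℕ) = {d | ∃ k ∈ insert p K.toFinset, d ∣ k} := by
  classical
  let _ : Fintype (QuadraticAlgebra (ZMod p) (a : ZMod p) 0) :=
    Fintype.ofEquiv _ (QuadraticAlgebra.equivProd _ _).symm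
  have : Nontrivial (ZMod p) := inferInstance
  obtain ⟨h1, hmul, hs⟩ := solvable_of_chainOK p a L t hchain
  simp only [topOK, Bool.and_eq_true, Bool.or_eq_true, List.all_eq_true, List.any_eq_true,
    beq_iff_eq, bne_iff_ne, decide_eq_true_eq, List.mem_range] at htop
  obtain ⟨hall, hK⟩ := htop
  refine exists_solvable_witness (p := p) Fact.out ?_ (by norm_num) _ h1 hmul hs ?_ K.toFinset ?_ ?_
  · rw [← map_natCast (algebraMap (ZMod p) (QuadraticAlgebra (ZMod p) (a : ZMod p) 0)), ZMod.natCast_self,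
      map_zero]
  · intro c hc hc1
    obtain ⟨x, hx, rfl⟩ := List.mem_map.1 hc
    refine det_sub_one_unit p a x ((hall x hx).1.resolve_left fun h => hc1 ?_)
    rw [h, mVal_one]
  · intro c hc
    obtain ⟨x, hx, rfl⟩ := List.mem_map.1 hc
    obtain ⟨k, hk, hxk⟩ := (hall x hx).2
    exact ⟨k, List.mem_toFinset.2 hk, by rw [← mVal_pow, hxk, mVal_one]⟩
  · intro k hk
    obtain ⟨hk1, x, hx, hxk, hmin⟩ := hK k (List.mem_toFinset.1 hk)
    refine ⟨hk1, _, List.mem_map.2 ⟨x, hx, rfl⟩, by rw [← mVal_pow, hxk, mVal_one], fun m hm hm0 h => ?_⟩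
    have := (hmin m hm).resolve_left hm0.ne'
    rw [← mVal_pow, ← mVal_one p a] at h
    exact this (mVal_inj p a h)

end Cfsg.Agent.Spectrum
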