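import Cfsg.Agent.Lib.GL.UnitaryOrders

/-!
Element orders in three dimensional unitary groups: the roots of the characteristic polynomial are permuted by
`x ↦ (x ^ q)⁻¹`, and in every case one of four exponents sends the matrix to a scalar.
-/

set_option autoImplicit false

open Matrix Polynomial

namespace Cfsg.Agent.Spectrum.PSU3

open Cfsg.Agent.GL
open Cfsg.Agent.Forms (qEnd qEnd_apply qEnd_qEnd one_lt_q exists_prime_pow_q)

section Arith

variable {q : ℕ}

theorem gcd_three_dvd_sub (hq : 2 ≤ q) : Nat.gcd 3 (q + 1) ∣ q - 2 := by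
  have h1 := Nat.gcd_dvd_left 3 (q + 1)
  have h2 := Nat.gcd_dvd_right 3 (q + 1)
  have := Nat.dvd_sub h2 h1
  rwa [show q + 1 - 3 = q - 2 by omega] at this

theorem gcd_three_dvd_sq_sub_add (q : ℕ) : Nat.gcd 3 (q + 1) ∣ q ^ 2 - q + 1 := by
  rcases Nat.lt_or_ge q 2 with hq | hq
  · interval_cases q <;> decide
  · have h := gcd_three_dvd_sub hq
    have h1 := Nat.gcd_dvd_left 3 (q + 1)
    obtain ⟨t, rfl⟩ : ∃ t, q = t + 2 := ⟨q - 2, by omega⟩
    rw [Nat.add_sub_cancel] at h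
    rw [show (t + 2) ^ 2 - (t + 2) + 1 = t * (t + 3) + 3 by
      rw [show (t + 2) ^ 2 = t * (t + 3) + 2 + (t + 2) by ring, Nat.add_sub_cancel]]
    exact dvd_add (h.mul_right _) h1

theorem dvd_three_mul_div (q : ℕ) : q + 1 ∣ 3 * ((q + 1) / Nat.gcd 3 (q + 1)) := by
  obtain ⟨a, ha⟩ := Nat.gcd_dvd_right 3 (q + 1)
  obtain ⟨b, hb⟩ := Nat.gcd_dvd_left 3 (q + 1)
  have hg : 0 < Nat.gcd 3 (q + 1) := Nat.gcd_pos_of_pos_left _ (by norm_num)
  generalize Nat.gcd 3 (q + 1) = g at *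
  rw [ha, Nat.mul_div_cancel_left _ hg]
  exact ⟨b, by rw [hb]; ring⟩

theorem gcd_three_dvd_sq_sub_one (q : ℕ) : Nat.gcd 3 (q + 1) ∣ q ^ 2 - 1 :=
  (Nat.gcd_dvd_right 3 (q + 1)).trans ⟨q - 1, by rw [← one_pow 2, Nat.sq_sub_sq, one_pow]⟩

theorem sq_sub_one_dvd_three_mul (q : ℕ) : q ^ 2 - 1 ∣ 3 * ((q ^ 2 - 1) / Nat.gcd 3 (q + 1)) := by
  obtain ⟨a, ha⟩ := gcd_three_dvd_sq_sub_one q
  obtain ⟨b, hb⟩ := Nat.gcd_dvd_left 3 (q + 1)
  have hg : 0 < Nat.gcd 3 (q + 1) := Nat.gcd_pos_of_pos_left _ (by norm_num)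
  generalize Nat.gcd 3 (q + 1) = g at *
  rw [ha, Nat.mul_div_cancel_left _ hg]
  exact ⟨b, by rw [hb]; ring⟩

theorem dvd_div_mul_succ {N : ℕ} (h : Nat.gcd 3 (q + 1) ∣ N) : N ∣ N / Nat.gcd 3 (q + 1) * (q + 1) := by
  obtain ⟨a, ha⟩ := h
  obtain ⟨b, hb⟩ := Nat.gcd_dvd_right 3 (q + 1)
  have hg : 0 < Nat.gcd 3 (q + 1) := Nat.gcd_pos_of_pos_left _ (by norm_num)
  generalize Nat.gcd 3 (q + 1) = g at *
  rw [ha, Nat.mul_div_cancel_left _ hg]
  exact ⟨b, by rw [hb]; ring⟩

end Arith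

variable {F : Type*} [Field F] [Fintype F] {q : ℕ} (hF : Fintype.card F = q ^ 2)

include hF in
theorem transpose_mul_map {A : Matrix (Fin 3) (Fin 3) F} (h : Preserves (hermForm 3 F q) A) :
    Aᵀ * A.map (qEnd hF) = 1 := by
  ext i j
  have := h (Pi.single i 1) (Pi.single j 1)
  rw [Matrix.mulVec_single_one, Matrix.mulVec_single_one] at this
  simp only [hermForm, Matrix.col_apply, Pi.single_apply] at this
  rw [Matrix.mul_apply]
  simp only [Matrix.transpose_apply, Matrix.map_apply, qEnd_apply hF]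
  rw [this, Matrix.one_apply]
  have hq : q ≠ 0 := by have := one_lt_q hF; omega
  simp [ite_pow, zero_pow hq, eq_comm]

local notation "K" => AlgebraicClosure F

include hF in
/-- Exponents sending an isometry to a scalar. -/
theorem exists_scalar_exponent (p : ℕ) [Fact p.Prime] [CharP F p] (hp : p ≠ 2) {A : Matrix (Fin 3) (Fin 3) F}
    (hdet : A.det = 1) (hA : Preserves (hermForm 3 F q) A) :
    ∃ k, (k = q + 1 ∨ k = (q + 1) / Nat.gcd 3 (q + 1) * p ∨ k = (q ^ 2 - 1) / Nat.gcd 3 (q + 1) ∨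
        k = (q ^ 2 - q + 1) / Nat.gcd 3 (q + 1)) ∧ ∃ c : F, A ^ k = c • 1 := by
  classical
  have hq1 : 1 < q := one_lt_q hF
  obtain ⟨p', a', hp', hchar', hqp⟩ := exists_prime_pow_q hF
  obtain rfl : p' = p := CharP.eq F hchar' ‹CharP F p›
  have : CharP K p' := charP_of_injective_algebraMap (algebraMap F K).injective p'
  let φ : K →+* K := iterateFrobenius K p' a'
  have hφ : ∀ x, φ x = x ^ q := fun x => by rw [hqp]; exact iterateFrobenius_def ..
  let ι := algebraMap F K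
  let M : Matrix (Fin 3) (Fin 3) K := A.map ι
  have hMdet : M.det = 1 := by
    show (ι.mapMatrix A).det = 1
    rw [← RingHom.map_det, hdet, map_one]
  have hrel : Mᵀ * M.map φ = 1 := by
    have h := congrArg (fun X : Matrix (Fin 3) (Fin 3) F => X.map ι) (transpose_mul_map hF hA)
    rw [Matrix.map_mul, Matrix.map_one ι (map_zero ι) (map_one ι)] at h
    rw [← h]
    congr 1
    ext i j
    simp [M, hφ, qEnd_apply hF]
  -- the roots
  set R := M.charpoly.roots with hR
  have hsplit : M.charpoly.Splits := IsAlgClosed.splits _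
  have hprodP : M.charpoly = (R.map fun x => X - C x).prod :=
    hsplit.eq_prod_roots_of_monic (Matrix.charpoly_monic M)
  have hcard : R.card = 3 := by
    rw [hR, ← hsplit.natDegree_eq_card_roots, Matrix.charpoly_natDegree_eq_dim, Fintype.card_fin]
  have hprod : R.prod = 1 := by rw [hR, ← Matrix.det_eq_prod_roots_charpoly, hMdet]
  have hmem : ∀ x, x ∈ R ↔ (Matrix.scalar (Fin 3) x - M).det = 0 := fun x => by
    rw [hR, Polynomial.mem_roots (Matrix.charpoly_monic M).ne_zero, IsRoot.def, Matrix.eval_charpoly]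
  have hne : ∀ x ∈ R, x ≠ 0 := fun x hx h => by
    have := Multiset.prod_eq_zero (h ▸ hx)
    rw [hprod] at this
    exact one_ne_zero this
  let τ : K → K := fun x => (x ^ q)⁻¹
  have hτinj : Function.Injective τ := fun x y h => φ.injective (by rw [hφ, hφ]; exact inv_injective h)
  have hτ : ∀ x ∈ R, τ x ∈ R := by
    intro x hx
    have h1 := congrArg φ ((hmem x).1 hx)
    rw [map_zero, RingHom.map_det] at h1
    have h2 : φ.mapMatrix (Matrix.scalar (Fin 3) x - M) = x ^ q • (1 : Matrix (Fin 3) (Fin 3) K) - M.map φ := by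
      rw [map_sub]
      congr 1
      ext i j
      by_cases hij : i = j
      · subst hij; simp [hφ]
      · simp [hij]
    rw [h2] at h1
    have h3 := congrArg (fun d => (Mᵀ).det * d) h1
    simp only [mul_zero, ← Matrix.det_mul, Matrix.mul_sub, hrel] at h3
    rw [Matrix.mul_smul, Matrix.mul_one, show x ^ q • Mᵀ - 1 = (-(x ^ q)) • (τ x • 1 - M)ᵀ by
        rw [Matrix.transpose_sub, Matrix.transpose_smul, Matrix.transpose_one, smul_sub, smul_smul]
        show _ = (-(x ^ q) * (x ^ q)⁻¹) • (1 : Matrix (Fin 3) (Fin 3) K) - _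
        rw [neg_mul, mul_inv_cancel₀ (pow_ne_zero _ (hne x hx)), neg_one_smul, neg_smul]; abel,
      Matrix.det_smul, Matrix.det_transpose] at h3
    rw [hmem, show Matrix.scalar (Fin 3) (τ x) = τ x • (1 : Matrix (Fin 3) (Fin 3) K) by
      rw [Matrix.scalar_apply, Matrix.smul_one_eq_diagonal]]
    exact (mul_eq_zero.1 h3).resolve_left (pow_ne_zero _ (neg_ne_zero.2 (pow_ne_zero _ (hne x hx))))
  -- from a divisibility to a scalar power
  have hscal : ∀ (k : ℕ) (c : K), M.charpoly ∣ X ^ k - C c → ∃ c : F, A ^ k = c • 1 := by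
    intro k c ⟨w, hw⟩
    have h := congrArg (aeval M) hw
    rw [map_mul, Matrix.aeval_self_charpoly, zero_mul, map_sub, map_pow, aeval_X, aeval_C, sub_eq_zero,
      Algebra.algebraMap_eq_smul_one] at h
    refine ⟨(A ^ k) 0 0, Matrix.ext fun i j => ι.injective ?_⟩
    have h' : ∀ i j, ι ((A ^ k) i j) = (c • (1 : Matrix (Fin 3) (Fin 3) K)) i j := fun i j => by
      rw [← h]
      show ι ((A ^ k) i j) = ((ι.mapMatrix A) ^ k) i j
      rw [← map_pow]
      rfl
    rw [Matrix.smul_apply, smul_eq_mul, map_mul, h', h', Matrix.smul_apply, Matrix.smul_apply,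
      Matrix.one_apply_eq, smul_eq_mul, smul_eq_mul, mul_one]
    by_cases hij : i = j
    · subst hij; simp
    · simp [Matrix.one_apply_ne hij]
  have hdistinct : R.Nodup → ∀ (k : ℕ) (c : K), 0 < k → (∀ x ∈ R, x ^ k = c) → ∃ c : F, A ^ k = c • 1 := by
    intro hnd k c hk hx
    refine hscal k c ?_
    rw [hprodP, Multiset.prod_X_sub_C_dvd_iff_le_roots (Polynomial.X_pow_sub_C_ne_zero hk c)]
    refine (Multiset.le_iff_subset hnd).2 fun x hxR => ?_
    rw [Polynomial.mem_roots (Polynomial.X_pow_sub_C_ne_zero hk c), IsRoot.def]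
    simp [hx x hxR]
  have hd0 : 0 < Nat.gcd 3 (q + 1) := Nat.gcd_pos_of_pos_left _ (by norm_num)
  have hd3 : Nat.gcd 3 (q + 1) ≤ 3 := Nat.le_of_dvd (by norm_num) (Nat.gcd_dvd_left _ _)
  obtain ⟨x, y, z, hxyz⟩ := Multiset.card_eq_three.1 hcard
  have hmem3 : ∀ w, w ∈ R ↔ w = x ∨ w = y ∨ w = z := fun w => by rw [hxyz]; simp
  have hx0 := hne x ((hmem3 x).2 (by simp))
  have hy0 := hne y ((hmem3 y).2 (by simp))
  have hz0 := hne z ((hmem3 z).2 (by simp))
  have hp3 : x * y * z = 1 := by rw [← hprod, hxyz]; simp [mul_assoc]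
  -- repeated root
  have hrep : ∀ b a : K, b ≠ 0 → R = {b, b, a} → ∃ c : F, A ^ ((q + 1) / Nat.gcd 3 (q + 1) * p') = c • 1 := by
    intro b a hb hba
    have hm : ∀ w, w ∈ R ↔ w = b ∨ w = a := fun w => by rw [hba]; simp
    have hprod' : b * b * a = 1 := by rw [← hprod, hba]; simp [mul_assoc]
    have hfix : τ b = b := by
      rcases (hm _).1 (hτ b ((hm b).2 (Or.inl rfl))) with h | h
      · exact h
      rcases eq_or_ne a b with rfl | hab
      · exact h
      rcases (hm _).1 (hτ a ((hm a).2 (Or.inr rfl))) with h' | h'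
      · exfalso
        rw [← h] at hprod' h'
        have e1 : b ^ q ^ 2 = b := by
          simp only [τ, inv_pow, inv_inv] at h'
          rw [pow_two, pow_mul]; exact h'
        have e2 : b ^ q = b ^ 2 := by
          simp only [τ] at hprod'
          rw [mul_inv_eq_one₀ (pow_ne_zero _ hb)] at hprod'
          rw [← hprod', sq]
        have e3 : b ^ 3 = 1 := by
          have e4 : b ^ q ^ 2 = b ^ 4 := by rw [pow_two, pow_mul, e2, ← pow_mul, mul_comm, pow_mul, e2, ← pow_mul]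
          rw [e1] at e4
          exact mul_left_cancel₀ hb (by rw [mul_one, ← pow_succ']; exact e4.symm)
        refine hab ?_
        rw [← h]
        show (b ^ q)⁻¹ = b
        rw [e2]
        exact inv_eq_of_mul_eq_one_left (by rw [← pow_succ', e3])
      · exact absurd (hτinj (h.trans h'.symm)) hab.symm
    have hb1 : b ^ (q + 1) = 1 := by
      have h : (b ^ q)⁻¹ = b := hfix
      rw [pow_succ]
      nth_rw 2 [← h]
      exact mul_inv_cancel₀ (pow_ne_zero _ hb)
    set k := (q + 1) / Nat.gcd 3 (q + 1) with hk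
    have hb3 : b ^ (3 * k) = 1 := by
      obtain ⟨t, ht⟩ := dvd_three_mul_div q
      rw [hk, ht, pow_mul, hb1, one_pow]
    have hak : a ^ k = b ^ k := by
      have e : b ^ k * b ^ k * a ^ k = 1 := by rw [← mul_pow, ← mul_pow, hprod', one_pow]
      refine mul_left_cancel₀ (mul_ne_zero (pow_ne_zero k hb) (pow_ne_zero k hb)) ?_
      rw [e, ← pow_add, ← pow_add, show k + k + k = 3 * k by ring, hb3]
    refine hscal _ ((b ^ k) ^ p') ?_
    have e : (X : K[X]) ^ (k * p') - C ((b ^ k) ^ p') = (X ^ k - C (b ^ k)) ^ p' := by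
      simp only [sub_pow_char, map_pow, ← pow_mul]
    rw [e, hprodP, hba]
    simp only [Multiset.insert_eq_cons, Multiset.map_cons, Multiset.map_singleton, Multiset.prod_cons,
      Multiset.prod_singleton]
    have h3 : 3 ≤ p' := by have := (Fact.out : p'.Prime).two_le; omega
    refine dvd_trans ?_ (pow_dvd_pow _ h3)
    rw [pow_succ', pow_two]
    have hdiv : ∀ w : K, w ^ k = b ^ k → (X - C w) ∣ (X ^ k - C (b ^ k) : K[X]) := fun w hw => by
      rw [dvd_iff_isRoot, IsRoot.def]; simp [hw]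
    exact mul_dvd_mul (hdiv b rfl) (mul_dvd_mul (hdiv b rfl) (hdiv a hak))
  by_cases hxy : x = y
  · exact ⟨_, Or.inr (Or.inl rfl), hrep x z hx0 (by rw [hxyz, hxy])⟩
  by_cases hxz : x = z
  · refine ⟨_, Or.inr (Or.inl rfl), hrep x y hx0 ?_⟩
    rw [hxyz, ← hxz]
    simp only [Multiset.insert_eq_cons, ← Multiset.cons_zero]
    rw [Multiset.cons_swap y]
  by_cases hyz : y = z
  · refine ⟨_, Or.inr (Or.inl rfl), hrep y x hy0 ?_⟩
    rw [hxyz, ← hyz]
    simp only [Multiset.insert_eq_cons, ← Multiset.cons_zero]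
    rw [Multiset.cons_swap x, Multiset.cons_swap x]
  have hnd : R.Nodup := by rw [hxyz]; simp [hxy, hxz, hyz]
  have hswap : ∀ a b c : K, b ≠ 0 → τ b = c → τ c = b → a * b * c = 1 → (∀ w ∈ R, w = a ∨ w = b ∨ w = c) →
      ∃ c : F, A ^ ((q ^ 2 - 1) / Nat.gcd 3 (q + 1)) = c • 1 := by
    intro a b c hb hbc hcb habc hall
    set k := (q ^ 2 - 1) / Nat.gcd 3 (q + 1) with hk
    have hk0 : 0 < k := Nat.div_pos (by
      have : 2 ^ 2 ≤ q ^ 2 := Nat.pow_le_pow_left hq1 2
      omega) hd0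
    have hb1 : b ^ (q ^ 2 - 1) = 1 := by
      refine mul_left_cancel₀ hb ?_
      rw [mul_one, ← pow_succ', Nat.sub_add_cancel (Nat.one_le_pow _ _ (by omega))]
      simp only [τ] at hbc hcb
      rw [← hbc, inv_pow, inv_inv, ← pow_mul] at hcb
      rw [pow_two]; exact hcb
    have h2 : b ^ (k * (q + 1)) = 1 := by
      obtain ⟨t, ht⟩ := dvd_div_mul_succ (gcd_three_dvd_sq_sub_one q)
      rw [hk, ht, pow_mul, hb1, one_pow]
    have h3 : b ^ (3 * k) = 1 := by
      obtain ⟨t, ht⟩ := sq_sub_one_dvd_three_mul q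
      rw [hk, ht, pow_mul, hb1, one_pow]
    have hck : c ^ k = b ^ k := by
      rw [← hbc]
      show ((b ^ q)⁻¹) ^ k = b ^ k
      rw [inv_pow]
      exact inv_eq_of_mul_eq_one_left (by rw [← pow_mul, ← pow_add, ← h2]; congr 1; ring)
    have hak : a ^ k = b ^ k := by
      have e : a ^ k * b ^ k * c ^ k = 1 := by rw [← mul_pow, ← mul_pow, habc, one_pow]
      rw [hck] at e
      refine mul_right_cancel₀ (pow_ne_zero k hb) (mul_right_cancel₀ (pow_ne_zero k hb) ?_)
      rw [e, ← pow_add, ← pow_add, show k + k + k = 3 * k by ring, h3]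
    exact hdistinct hnd k (b ^ k) hk0 fun w hw => by
      rcases hall w hw with rfl | rfl | rfl
      exacts [hak, rfl, hck]
  have hcyc : ∀ a b c : K, a ≠ 0 → τ a = b → τ b = c → τ c = a → a * b * c = 1 → (∀ w ∈ R, w = a ∨ w = b ∨ w = c) →
      ∃ c : F, A ^ ((q ^ 2 - q + 1) / Nat.gcd 3 (q + 1)) = c • 1 := by
    intro a b c ha hab hbc hca habc hall
    set k := (q ^ 2 - q + 1) / Nat.gcd 3 (q + 1) with hk
    have hk0 : 0 < k := Nat.div_pos (Nat.le_of_dvd (Nat.succ_pos _) (gcd_three_dvd_sq_sub_add q)) hd0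
    have ha1 : a ^ (q ^ 2 - q + 1) = 1 := by
      rw [← hbc, ← hab] at habc
      simp only [τ, inv_pow, inv_inv, ← pow_mul] at habc
      have e : a ^ (q * q + 1) = a ^ q := by
        rw [pow_succ]
        field_simp at habc
        linear_combination habc
      refine mul_left_cancel₀ (pow_ne_zero q ha) ?_
      rw [mul_one, ← pow_add, ← pow_two] at *
      rw [show q + (q ^ 2 - q + 1) = q ^ 2 + 1 by have := Nat.le_self_pow two_ne_zero q; omega]
      exact e
    have h2 : a ^ (k * (q + 1)) = 1 := by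
      obtain ⟨t, ht⟩ := dvd_div_mul_succ (gcd_three_dvd_sq_sub_add q)
      rw [hk, ht, pow_mul, ha1, one_pow]
    have key : ∀ w : K, w ^ k = a ^ k → (τ w) ^ k = a ^ k := fun w hw => by
      show ((w ^ q)⁻¹) ^ k = a ^ k
      rw [inv_pow, pow_right_comm, hw]
      exact inv_eq_of_mul_eq_one_left (by rw [← pow_mul, ← pow_add, ← h2]; congr 1; ring)
    have hbk : b ^ k = a ^ k := hab ▸ key a rfl
    exact hdistinct hnd k (a ^ k) hk0 fun w hw => by
      rcases hall w hw with rfl | rfl | rfl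
      exacts [rfl, hbk, hbc ▸ key b hbk]
  have hX := (hmem3 _).1 (hτ x ((hmem3 x).2 (by simp)))
  have hY := (hmem3 _).1 (hτ y ((hmem3 y).2 (by simp)))
  have hZ := (hmem3 _).1 (hτ z ((hmem3 z).2 (by simp)))
  have hall3 := fun w hw => (hmem3 w).1 hw
  rcases hX with hX | hX | hX <;> rcases hY with hY | hY | hY <;> rcases hZ with hZ | hZ | hZ
  all_goals first
    | exact absurd (hτinj (hX.trans hY.symm)) hxy
    | exact absurd (hτinj (hX.trans hZ.symm)) hxz
    | exact absurd (hτinj (hY.trans hZ.symm)) hyz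
    | exact ⟨_, Or.inr (Or.inr (Or.inl rfl)), hswap x y z hy0 hY hZ hp3 hall3⟩
    | exact ⟨_, Or.inr (Or.inr (Or.inl rfl)), hswap y x z hx0 hX hZ (by rw [← hp3]; ring)
        fun w hw => by have := hall3 w hw; tauto⟩
    | exact ⟨_, Or.inr (Or.inr (Or.inl rfl)), hswap z x y hx0 hX hY (by rw [← hp3]; ring)
        fun w hw => by have := hall3 w hw; tauto⟩
    | exact ⟨_, Or.inr (Or.inr (Or.inr rfl)), hcyc x y z hx0 hX hY hZ hp3 hall3⟩
    | exact ⟨_, Or.inr (Or.inr (Or.inr rfl)), hcyc x z y hx0 hX hZ hY (by rw [← hp3]; ring)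
        fun w hw => by have := hall3 w hw; tauto⟩
    | skip
  refine ⟨_, Or.inl rfl, hdistinct hnd (q + 1) 1 (Nat.succ_pos q) fun w hw => ?_⟩
  have fixed : ∀ v : K, v ≠ 0 → τ v = v → v ^ (q + 1) = 1 := fun v hv h => by
    have h' : (v ^ q)⁻¹ = v := h
    rw [pow_succ]
    nth_rw 2 [← h']
    exact mul_inv_cancel₀ (pow_ne_zero _ hv)
  rcases hall3 w hw with rfl | rfl | rfl
  exacts [fixed _ hx0 hX, fixed _ hy0 hY, fixed _ hz0 hZ]

end Cfsg.Agent.Spectrum.PSU3
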