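import Mathlib
import Cfsg.Agent.Lib.Spectrum.Basic

/-! The affine group `F₄² ⋊ SL₂(4)` as 3×3 matrices, and the spectrum of `A₆`. -/

namespace Cfsg.Agent.Spectrum.AffineSL2F4

def S : List ℕ := [1, 2, 3, 4, 5]

theorem mem_of_dvd_max {n : ℕ} (h : n ∈ S) : ∃ m ∈ [3, 4, 5], n ∣ m := by
  revert n; decide

theorem orderOf_of_pow {G : Type*} [Monoid G] {x : G} {n : ℕ} (hn : 0 < n) (h1 : x ^ n = 1)
    (h2 : ∀ m < n, 0 < m → n % m = 0 → x ^ m ≠ 1) : orderOf x = n := by
  have hd := orderOf_dvd_of_pow_eq_one h1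
  by_contra hne
  have hlt : orderOf x < n := lt_of_le_of_ne (Nat.le_of_dvd hn hd) hne
  exact h2 _ hlt (Nat.pos_of_dvd_of_pos hd hn) (Nat.mod_eq_zero_of_dvd hd) (pow_orderOf_eq_one x)

theorem range_A6 : Set.range (orderOf : alternatingGroup (Fin 6) → ℕ) = {n | n ∈ S} := by
  refine range_orderOf_eq S (fun g => orderOf_alternating_mem 3 (by omega) S (by decide +kernel) g)
    (fun n hn => exists_orderOf_of_dvd [3, 4, 5] (by decide) ?_ (mem_of_dvd_max hn))
  have key : ∀ (σ : Equiv.Perm (Fin 6)) (m : ℕ), Equiv.Perm.sign σ = 1 → 0 < m →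
      σ ^ m = 1 → (∀ k < m, 0 < k → m % k = 0 → σ ^ k ≠ 1) →
      ∃ g : alternatingGroup (Fin 6), orderOf g = m := fun σ m hσ hm h1 h2 => by
    refine ⟨⟨σ, Equiv.Perm.mem_alternatingGroup.mpr hσ⟩, ?_⟩
    rw [← orderOf_injective (alternatingGroup (Fin 6)).subtype Subtype.val_injective]
    exact orderOf_of_pow hm h1 h2
  intro m hm
  simp only [List.mem_cons, List.not_mem_nil, or_false] at hm
  rcases hm with rfl | rfl | rfl
  · exact key [0, 1, 2].formPerm _ (by decide +kernel) (by omega) (by decide +kernel) (by decide +kernel)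
  · exact key ([0, 1, 2, 3].formPerm * [4, 5].formPerm) _ (by decide +kernel) (by omega)
      (by decide +kernel) (by decide +kernel)
  · exact key [0, 1, 2, 3, 4].formPerm _ (by decide +kernel) (by omega) (by decide +kernel)
      (by decide +kernel)

variable (F : Type*) [Field F]

open Matrix

/-- The matrices of determinant one with last row `(0, 0, 1)`. -/
def affine : Subgroup (Matrix.SpecialLinearGroup (Fin 3) F) where
  carrier := {M | (M : Matrix (Fin 3) (Fin 3) F) 2 0 = 0 ∧ (M : Matrix (Fin 3) (Fin 3) F) 2 1 = 0 ∧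
    (M : Matrix (Fin 3) (Fin 3) F) 2 2 = 1}
  one_mem' := by simp
  mul_mem' := by
    rintro A B ⟨a0, a1, a2⟩ ⟨b0, b1, b2⟩
    simp only [Set.mem_setOf_eq, Matrix.SpecialLinearGroup.coe_mul, Matrix.mul_apply,
      Fin.sum_univ_three]
    rw [a0, a1, a2, b0, b1, b2]; simp
  inv_mem' := by
    rintro A ⟨a0, a1, a2⟩
    have hd := A.2
    rw [Matrix.det_fin_three] at hd
    simp only [Set.mem_setOf_eq, Matrix.SpecialLinearGroup.coe_inv, Matrix.adjugate_fin_three,
      Matrix.of_apply, Matrix.cons_val', Matrix.cons_val_zero, Matrix.cons_val_one,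
      Matrix.cons_val, a0, a1]
    refine ⟨by ring, by ring, ?_⟩
    rw [a0, a1, a2] at hd
    linear_combination hd

theorem closure_eq : Subgroup.closure {M : Matrix.SpecialLinearGroup (Fin 3) F |
    (M : Matrix (Fin 3) (Fin 3) F) 2 0 = 0 ∧ (M : Matrix (Fin 3) (Fin 3) F) 2 1 = 0 ∧
      (M : Matrix (Fin 3) (Fin 3) F) 2 2 = 1} = affine F :=
  le_antisymm ((Subgroup.closure_le _).mpr (fun _ h => h)) (fun _ h => Subgroup.subset_closure h)

/-- The linear part. -/
def linearPart : affine F →* Matrix.SpecialLinearGroup (Fin 2) F where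
  toFun M := ⟨!![M.1.1 0 0, M.1.1 0 1; M.1.1 1 0, M.1.1 1 1], by
    have hM := M.1.2
    obtain ⟨a0, a1, a2⟩ := M.2
    rw [Matrix.det_fin_three, a0, a1, a2] at hM
    rw [Matrix.det_fin_two_of]
    linear_combination hM⟩
  map_one' := by apply Subtype.ext; simp [Matrix.one_fin_two]
  map_mul' A B := by
    apply Subtype.ext
    have b0 := B.2.1
    have b1 := B.2.2.1
    show _ = !![A.1.1 0 0, A.1.1 0 1; A.1.1 1 0, A.1.1 1 1] *
      !![B.1.1 0 0, B.1.1 0 1; B.1.1 1 0, B.1.1 1 1]
    rw [Matrix.mul_fin_two]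
    ext i j
    fin_cases i <;> fin_cases j <;>
      simp [Matrix.mul_apply, Fin.sum_univ_three, Matrix.SpecialLinearGroup.coe_mul, b0, b1]

variable {F}

/-- The exponent belonging to a trace. -/
theorem exponent_of_trace [Fintype F] (hF : Fintype.card F = 4) (t : F) :
    ∃ N ∈ S, ∀ M ∈ affine F, (M : Matrix (Fin 3) (Fin 3) F) 0 0 + (M : Matrix (Fin 3) (Fin 3) F) 1 1 = t →
      M ^ N = 1 := by
  haveI : CharP F 2 := by
    obtain ⟨p, hp⟩ := CharP.exists F
    obtain ⟨n, hpp, hn⟩ := FiniteField.card F p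
    rw [hF] at hn
    have : p = 2 := (Nat.prime_dvd_prime_iff_eq hpp Nat.prime_two).mp
      (hpp.dvd_of_dvd_pow (show p ∣ 2 ^ 2 by rw [show (2 : ℕ) ^ 2 = 4 by rfl, hn]; exact dvd_pow_self p n.ne_zero))
    exact this ▸ hp
  have h2 : (2 : F) = 0 := CharTwo.two_eq_zero
  have ht4 : t ^ 4 = t := hF ▸ FiniteField.pow_card t
  have hcases : t = 0 ∨ t = 1 ∨ t ^ 2 + t + 1 = 0 := by
    have : t * (t - 1) * (t ^ 2 + t + 1) = 0 := by linear_combination ht4
    rcases mul_eq_zero.mp this with h | h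
    · rcases mul_eq_zero.mp h with h | h
      · exact Or.inl h
      · exact Or.inr (Or.inl (sub_eq_zero.mp h))
    · exact Or.inr (Or.inr h)
  -- the cubic relation
  have rel : ∀ M ∈ affine F, (M : Matrix (Fin 3) (Fin 3) F) 0 0 + (M : Matrix (Fin 3) (Fin 3) F) 1 1 = t →
      (M : Matrix (Fin 3) (Fin 3) F) ^ 3 = (1 + t) • (M : Matrix (Fin 3) (Fin 3) F) ^ 2
        + (1 + t) • (M : Matrix (Fin 3) (Fin 3) F) + 1 := by
    rintro ⟨M, hM⟩ ⟨a0, a1, a2⟩ htr
    simp only at a0 a1 a2 htr ⊢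
    rw [Matrix.det_fin_three, a0, a1, a2] at hM
    set a := M 0 0 with ha
    set b := M 0 1 with hb
    set c := M 1 0 with hc
    set d := M 1 1 with hd
    set x := M 0 2 with hx
    set y := M 1 2 with hy
    have hK : M * M - t • M + 1 = !![0, 0, (a + 1 - t) * x + b * y; 0, 0, c * x + (d + 1 - t) * y;
        0, 0, 2 - t] := by
      ext i j
      fin_cases i <;> fin_cases j <;>
        simp [Matrix.mul_apply, Fin.sum_univ_three, a0, a1, a2, ← ha, ← hb, ← hc, ← hd, ← hx, ← hy, ← htr]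
      · linear_combination -hM
      · ring
      · ring
      · ring
      · linear_combination -hM
      · ring
      · norm_num
        ring
    have hz : (M - 1) * (M * M - t • M + 1) = 0 := by
      rw [hK]
      ext i j
      fin_cases i <;> fin_cases j <;>
        simp [Matrix.mul_apply, Fin.sum_univ_three, a0, a1, a2, ← ha, ← hb, ← hc, ← hd, ← hx, ← hy]
      · rw [← htr]; linear_combination -x * hM
      · rw [← htr]; linear_combination -y * hM
    rw [sub_mul, one_mul, sub_eq_zero, mul_add, mul_sub, mul_one, mul_smul_comm] at hz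
    have e : M ^ 3 = M * (M * M) := by rw [pow_succ', pow_two]
    have e' : M * (M * M) = M * M - t • M + 1 + t • (M * M) - M :=
      (eq_sub_iff_add_eq.mpr (by rw [← hz]; abel))
    rw [e, e', pow_two]
    have hn : ∀ X : Matrix (Fin 3) (Fin 3) F, -X = X := fun X => by
      ext i j; exact CharTwo.neg_eq (X i j)
    simp only [sub_eq_add_neg, hn, add_smul, one_smul]
    abel
  have hzero : ∀ X : Matrix (Fin 3) (Fin 3) F, X + X = 0 := fun X => by
    ext i j; exact CharTwo.add_self_eq_zero (X i j)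
  rcases hcases with rfl | rfl | hω
  · refine ⟨4, by decide, fun M hM htr => Subtype.ext ?_⟩
    have h := rel M hM htr
    simp only [add_zero, one_smul] at h
    rw [Matrix.SpecialLinearGroup.coe_pow, Matrix.SpecialLinearGroup.coe_one, pow_succ, h, add_mul,
      add_mul, one_mul, ← pow_succ, ← pow_two, h]
    set X := (M : Matrix (Fin 3) (Fin 3) F)
    calc X ^ 2 + X + 1 + X ^ 2 + X = (X ^ 2 + X ^ 2) + (X + X) + 1 := by abel
      _ = 1 := by rw [hzero, hzero, zero_add, zero_add]
  · refine ⟨3, by decide, fun M hM htr => Subtype.ext ?_⟩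
    rw [Matrix.SpecialLinearGroup.coe_pow, Matrix.SpecialLinearGroup.coe_one, rel M hM htr,
      show (1 : F) + 1 = 0 from CharTwo.add_self_eq_zero 1, zero_smul, zero_smul, zero_add, zero_add]
  · refine ⟨5, by decide, fun M hM htr => Subtype.ext ?_⟩
    have h := rel M hM htr
    set X := (M : Matrix (Fin 3) (Fin 3) F)
    set s := 1 + t with hs
    have s1 : s * s + s = 1 := by
      rw [hs]; linear_combination hω + (t + 0) * h2
    have s2 : s * s + 1 = s := by linear_combination s1 + (1 - s) * h2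
    have h4 : X ^ 4 = X ^ 2 + s • X + s • (1 : Matrix (Fin 3) (Fin 3) F) := by
      rw [pow_succ, h, add_mul, add_mul, smul_mul_assoc, smul_mul_assoc, one_mul, ← pow_succ,
        ← pow_two, h]
      rw [show X ^ 2 + s • X + s • (1 : Matrix (Fin 3) (Fin 3) F) =
        (s * s + s) • X ^ 2 + (s * s + 1) • X + s • (1 : Matrix (Fin 3) (Fin 3) F) by
          rw [s1, s2, one_smul]]
      module
    rw [Matrix.SpecialLinearGroup.coe_pow, Matrix.SpecialLinearGroup.coe_one, pow_succ, h4, add_mul,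
      add_mul, smul_mul_assoc, smul_mul_assoc, one_mul, ← pow_succ, ← pow_two, h]
    calc _ = (s • X ^ 2 + s • X ^ 2) + (s • X + s • X) + 1 := by abel
      _ = 1 := by rw [hzero, hzero, zero_add, zero_add]

theorem exponent [Fintype F] (hF : Fintype.card F = 4) (A : Matrix.SpecialLinearGroup (Fin 2) F) :
    ∃ N ∈ S, ∀ M : affine F, linearPart F M = A → M ^ N = 1 := by
  obtain ⟨N, hN, h⟩ := exponent_of_trace hF ((A : Matrix (Fin 2) (Fin 2) F) 0 0 + (A : Matrix (Fin 2) (Fin 2) F) 1 1)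
  refine ⟨N, hN, fun M hMA => Subtype.ext (h M.1 M.2 ?_)⟩
  subst hMA
  rfl

theorem realised [Fintype F] (hF : Fintype.card F = 4) (n : ℕ) (hn : n ∈ S) :
    ∃ M : affine F, orderOf M = n := by
  classical
  have hω : ∃ w : F, w ≠ 0 ∧ w ≠ 1 := by
    by_contra hcon
    push_neg at hcon
    have : (Finset.univ : Finset F) ⊆ {0, 1} := fun w _ => by
      by_cases h : w = 0
      · simp [h]
      · simp [hcon w h]
    have := Finset.card_le_card this
    rw [Finset.card_univ, hF] at this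
    exact absurd (this.trans Finset.card_le_two) (by omega)
  obtain ⟨w, hw0, hw1⟩ := hω
  haveI : CharP F 2 := by
    obtain ⟨p, hp⟩ := CharP.exists F
    obtain ⟨n, hpp, hn⟩ := FiniteField.card F p
    rw [hF] at hn
    have : p = 2 := (Nat.prime_dvd_prime_iff_eq hpp Nat.prime_two).mp
      (hpp.dvd_of_dvd_pow (show p ∣ 2 ^ 2 by rw [show (2 : ℕ) ^ 2 = 4 by rfl, hn]; exact dvd_pow_self p n.ne_zero))
    exact this ▸ hp
  refine exists_orderOf_of_dvd [3, 4, 5] (by decide) ?_ (mem_of_dvd_max hn)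
  intro m hm
  simp only [List.mem_cons, List.not_mem_nil, or_false] at hm
  have mk : ∀ (A : Matrix (Fin 3) (Fin 3) F), A.det = 1 → A 2 0 = 0 → A 2 1 = 0 → A 2 2 = 1 →
      ∃ M : affine F, (M.1 : Matrix (Fin 3) (Fin 3) F) = A := fun A h a0 a1 a2 =>
    ⟨⟨⟨A, h⟩, a0, a1, a2⟩, rfl⟩
  have prime_case : ∀ (p : ℕ) [Fact p.Prime] (t : F) (A : Matrix (Fin 3) (Fin 3) F), A.det = 1 →
      A 2 0 = 0 → A 2 1 = 0 → A 2 2 = 1 → A 0 0 + A 1 1 = t → A ≠ 1 →
      (∀ N ∈ S, (∀ M ∈ affine F, (M : Matrix (Fin 3) (Fin 3) F) 0 0 +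
        (M : Matrix (Fin 3) (Fin 3) F) 1 1 = t → M ^ N = 1) → A ^ p = 1) →
      ∃ M : affine F, orderOf M = p := by
    intro p _ t A h a0 a1 a2 htr hne hpow
    obtain ⟨M, hM⟩ := mk A h a0 a1 a2
    refine ⟨M, orderOf_eq_prime ?_ ?_⟩
    · obtain ⟨N, hN, hN'⟩ := exponent_of_trace hF t
      exact Subtype.ext (Subtype.ext (by simpa [hM] using hpow N hN hN'))
    · rintro rfl
      exact hne (by simpa using hM.symm)
  rcases hm with rfl | rfl | rfl
  · haveI := Fact.mk Nat.prime_three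
    refine prime_case 3 1 !![0, 1, 0; 1, 1, 0; 0, 0, 1]
      (by simp [Matrix.det_fin_three, CharTwo.neg_eq]) (by simp) (by simp) (by simp) (by simp)
      (fun h => by simpa using congrFun (congrFun h 0) 0) (fun _ _ _ => ?_)
    ext i j
    fin_cases i <;> fin_cases j <;>
      simp [pow_succ, Matrix.mul_apply, Fin.sum_univ_three, CharTwo.add_self_eq_zero]
  · obtain ⟨M, hM⟩ := mk !![1, 1, 0; 0, 1, 1; 0, 0, 1] (by simp [Matrix.det_fin_three]) (by simp)
      (by simp) (by simp)
    refine ⟨M, ?_⟩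
    haveI := Fact.mk Nat.prime_two
    refine orderOf_eq_prime_pow (p := 2) (n := 1) ?_ ?_
    · intro h
      have h' := congrArg (fun M : affine F => (M.1 : Matrix (Fin 3) (Fin 3) F) 0 2) h
      simp [hM, pow_succ, Matrix.mul_apply, Fin.sum_univ_three] at h'
    · apply Subtype.ext; apply Subtype.ext
      show ((M.1 : Matrix (Fin 3) (Fin 3) F)) ^ 2 ^ (1 + 1) = 1
      rw [hM]
      ext i j
      fin_cases i <;> fin_cases j <;>
        simp [pow_succ, Matrix.mul_apply, Fin.sum_univ_three, CharTwo.add_self_eq_zero]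
  · haveI := Fact.mk (by norm_num : Nat.Prime 5)
    have hw : w ^ 2 + w + 1 = 0 := by
      have h4 : w ^ 4 = w := hF ▸ FiniteField.pow_card w
      have : w * (w - 1) * (w ^ 2 + w + 1) = 0 := by linear_combination h4
      simpa [hw0, sub_ne_zero.mpr hw1] using this
    refine prime_case 5 w !![0, 1, 0; 1, w, 0; 0, 0, 1]
      (by simp [Matrix.det_fin_three, CharTwo.neg_eq]) (by simp) (by simp) (by simp) (by simp)
      (fun h => by simpa using congrFun (congrFun h 0) 0) (fun _ _ _ => ?_)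
    have h2 : (2 : F) = 0 := CharTwo.two_eq_zero
    ext i j
    fin_cases i <;> fin_cases j <;> simp [pow_succ, Matrix.mul_apply, Fin.sum_univ_three]
    all_goals first
      | linear_combination (w - 1) * hw + w * h2
      | linear_combination (w ^ 2 - w + 1) * hw + w ^ 2 * h2
      | linear_combination (w ^ 3 - w ^ 2 + 4 * w - 3) * hw + (w + 1) * h2

theorem range_affine [Fintype F] (hF : Fintype.card F = 4) :
    Set.range (orderOf : affine F → ℕ) = {n | n ∈ S} :=
  range_orderOf_eq S (fun M => by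
    obtain ⟨N, hN, h⟩ := exponent hF (linearPart F M)
    exact mem_of_pow_eq_one (by decide +kernel) hN (h M rfl)) (realised hF)

end Cfsg.Agent.Spectrum.AffineSL2F4
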