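import Mathlib

/-!
# Element orders: generic helpers

Spectra generated by a finite set of orders, and spectra and solvability of semidirect products
with a fixed-point-free complement given as an explicit finite matrix group.
-/

set_option autoImplicit false

namespace Cfsg.Agent.Spectrum

open scoped commutatorElement

/-- Transfer of a spectrum along an isomorphism. -/
theorem range_orderOf_congr {G H : Type*} [Group G] [Group H] (e : G ≃* H) :
    Set.range (orderOf : G → ℕ) = Set.range (orderOf : H → ℕ) := by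
  ext n
  constructor
  · rintro ⟨x, rfl⟩
    exact ⟨e x, e.orderOf_eq x⟩
  · rintro ⟨x, rfl⟩
    exact ⟨e.symm x, e.symm.orderOf_eq x⟩

/-- The element orders are the divisors of the numbers in `K` as soon as every element is killed by
some member of `K` and every member of `K` is an element order. -/
theorem range_orderOf_eq_divisors {G : Type*} [Monoid G] (K : Finset ℕ)
    (hall : ∀ x : G, ∃ k ∈ K, x ^ k = 1) (hK : ∀ k ∈ K, 0 < k ∧ ∃ x : G, orderOf x = k) :
    Set.range (orderOf : G → ℕ) = {n | ∃ k ∈ K, n ∣ k} := by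
  ext n
  constructor
  · rintro ⟨x, rfl⟩
    obtain ⟨k, hk, hx⟩ := hall x
    exact ⟨k, hk, orderOf_dvd_of_pow_eq_one hx⟩
  · rintro ⟨k, hk, hn⟩
    obtain ⟨hk0, x, hx⟩ := hK k hk
    refine ⟨x ^ (k / n), ?_⟩
    rw [orderOf_pow' x (Nat.div_pos (Nat.le_of_dvd hk0 hn) (Nat.pos_of_dvd_of_pos hn hk0)).ne', hx,
      Nat.gcd_eq_right (Nat.div_dvd_of_dvd hn), Nat.div_div_self hn hk0.ne']

/-- `orderOf x = n` from `x ^ n = 1` and no smaller positive power being `1`. -/
theorem orderOf_eq_of_forall {G : Type*} [Monoid G] {x : G} {n : ℕ} (hn : 0 < n) (h : x ^ n = 1)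
    (h' : ∀ m < n, 0 < m → x ^ m ≠ 1) : orderOf x = n :=
  (orderOf_eq_iff hn).2 ⟨h, h'⟩

variable {M : Type*} [Monoid M] [DecidableEq M]

/-- The subgroup of units given by a finite list closed under multiplication. -/
def listSubgroup [Finite M] (L : List M) (h1 : (1 : M) ∈ L)
    (hmul : ∀ a ∈ L, ∀ b ∈ L, a * b ∈ L) : Subgroup Mˣ where
  carrier := {u | (u : M) ∈ L}
  one_mem' := h1
  mul_mem' {a b} ha hb := by
    change ((a * b : Mˣ) : M) ∈ L
    rw [Units.val_mul]
    exact hmul _ ha _ hb
  inv_mem' {a} ha := by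
    have hpow : ∀ n : ℕ, ((a ^ n : Mˣ) : M) ∈ L := by
      intro n
      induction n with
      | zero => rwa [pow_zero, Units.val_one]
      | succ n ih =>
        rw [pow_succ, Units.val_mul]
        exact hmul _ ih _ ha
    change ((a⁻¹ : Mˣ) : M) ∈ L
    rw [inv_eq_of_mul_eq_one_right (show a * a ^ (orderOf a - 1) = 1 by
      rw [← pow_succ', Nat.sub_add_cancel (orderOf_pos a), pow_orderOf_eq_one])]
    exact hpow _

theorem mem_listSubgroup [Finite M] {L : List M} {h1 : (1 : M) ∈ L}
    {hmul : ∀ a ∈ L, ∀ b ∈ L, a * b ∈ L} {u : Mˣ} :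
    u ∈ listSubgroup L h1 hmul ↔ (u : M) ∈ L := Iff.rfl

/-- One step down: if every commutator of `L` lies in `L'` and `L'` is solvable, so is `L`. -/
theorem solvable_listSubgroup_step [Finite M] {L L' : List M} (h1 : (1 : M) ∈ L)
    (hmul : ∀ a ∈ L, ∀ b ∈ L, a * b ∈ L) (h1' : (1 : M) ∈ L')
    (hmul' : ∀ a ∈ L', ∀ b ∈ L', a * b ∈ L')
    (hcomm : ∀ a ∈ L, ∀ b ∈ L, ∃ c ∈ L', a * b = c * (b * a))
    (hs : Group.IsSolvable (listSubgroup L' h1' hmul')) :
    Group.IsSolvable (listSubgroup L h1 hmul) := by
  set C := listSubgroup L h1 hmul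
  set C' := listSubgroup L' h1' hmul'
  have hle : ⁅C, C⁆ ≤ C' := Subgroup.commutator_le.2 fun a ha b hb => by
    obtain ⟨c, hc, he⟩ := hcomm _ ha _ hb
    change ((⁅a, b⁆ : Mˣ) : M) ∈ L'
    have : ((⁅a, b⁆ : Mˣ) : M) = c := by
      rw [commutatorElement_def, Units.val_mul, Units.val_mul, Units.val_mul, he]
      simp [mul_assoc]
    rwa [this]
  have hnest : (commutator C).map C.subtype ≤ C' := by
    rw [commutator_def, Subgroup.map_commutator, ← MonoidHom.range_eq_map, Subgroup.range_subtype]
    exact hle
  have : Group.IsSolvable (commutator C) := by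
    have e := (commutator C).equivMapOfInjective C.subtype C.subtype_injective
    have := Group.isSolvable_of_isSolvable_injective (f := Subgroup.inclusion hnest)
      (Subgroup.inclusion_injective hnest)
    exact Group.isSolvable_of_surjective (f := e.symm.toMonoidHom) e.symm.surjective
  exact Group.isSolvable_of_ker_le_range (commutator C).subtype (Abelianization.of (G := C))
    (by rw [Abelianization.ker_of, Subgroup.range_subtype])

/-- The trivial list subgroup is solvable. -/
theorem solvable_listSubgroup_one [Finite M] (h1 : (1 : M) ∈ [(1 : M)])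
    (hmul : ∀ a ∈ [(1 : M)], ∀ b ∈ [(1 : M)], a * b ∈ [(1 : M)]) :
    Group.IsSolvable (listSubgroup [(1 : M)] h1 hmul) := by
  have : Subsingleton (listSubgroup [(1 : M)] h1 hmul) := ⟨fun x y => by
    have hx := x.2
    have hy := y.2
    rw [mem_listSubgroup, List.mem_singleton] at hx hy
    exact Subtype.ext (Units.ext (hx.trans hy.symm))⟩
  infer_instance

omit [DecidableEq M]

section Frobenius

variable {V C : Type*} [AddCommGroup V] [Group C]

/-- The action of `C` on `Multiplicative V` attached to an additive action. -/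
def mulAutHom [DistribMulAction C V] : C →* MulAut (Multiplicative V) where
  toFun c := AddEquiv.toMultiplicative (DistribMulAction.toAddEquiv V c)
  map_one' := MulEquiv.ext fun v => congrArg Multiplicative.ofAdd (one_smul C v.toAdd)
  map_mul' c d := MulEquiv.ext fun v => congrArg Multiplicative.ofAdd (mul_smul c d v.toAdd)

theorem mulAutHom_apply [DistribMulAction C V] (c : C) (v : Multiplicative V) :
    mulAutHom c v = Multiplicative.ofAdd (c • v.toAdd) := rfl

/-- In `V ⋊ C` with `C` fixed-point-free, an element outside `V` has the order of its image. -/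
theorem orderOf_eq_right [DistribMulAction C V] (hfpf : ∀ c : C, c ≠ 1 → ∀ v : V, c • v = v → v = 0)
    (x : Multiplicative V ⋊[mulAutHom] C) (hx : x.right ≠ 1) : orderOf x = orderOf x.right := by
  refine Nat.dvd_antisymm ?_ (orderOf_map_dvd SemidirectProduct.rightHom x)
  set o := orderOf x.right
  have hr : (x ^ o).right = 1 := by
    rw [← SemidirectProduct.rightHom_eq_right, map_pow]
    exact pow_orderOf_eq_one _
  have hc : x * x ^ o = x ^ o * x := (Commute.self_pow x o).eq
  have hl : x.right • (x ^ o).left.toAdd = (x ^ o).left.toAdd := by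
    have := congrArg SemidirectProduct.left hc
    rw [SemidirectProduct.mul_left, SemidirectProduct.mul_left, hr, map_one, MulAut.one_apply,
      mul_comm (x ^ o).left x.left, mul_left_cancel_iff, mulAutHom_apply] at this
    exact congrArg Multiplicative.toAdd this
  apply orderOf_dvd_of_pow_eq_one
  refine SemidirectProduct.ext ?_ hr
  exact congrArg Multiplicative.ofAdd (hfpf _ hx _ hl)

/-- Spectrum of a Frobenius-type semidirect product. -/
theorem range_orderOf_semidirect [DistribMulAction C V] [Finite C]
    (hfpf : ∀ c : C, c ≠ 1 → ∀ v : V, c • v = v → v = 0) {p : ℕ} (hp : p.Prime)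
    (hV : ∀ v : V, p • v = 0) (hne : ∃ v : V, v ≠ 0) (K : Finset ℕ)
    (hC : Set.range (orderOf : C → ℕ) = {n | ∃ k ∈ K, n ∣ k}) (h1 : ∀ k ∈ K, 1 < k) :
    Set.range (orderOf : Multiplicative V ⋊[mulAutHom] C → ℕ) = {n | ∃ k ∈ insert p K, n ∣ k} := by
  refine range_orderOf_eq_divisors _ (fun x => ?_) (fun k hk => ?_)
  · by_cases hx : x.right = 1
    · refine ⟨p, Finset.mem_insert_self _ _, ?_⟩
      have h : x = SemidirectProduct.inl x.left := by
        refine SemidirectProduct.ext ?_ ?_ <;> simp [hx]
      rw [h, ← map_pow]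
      have : x.left ^ p = 1 := congrArg Multiplicative.ofAdd (hV x.left.toAdd)
      rw [this, map_one]
    · obtain ⟨k, hk, hk'⟩ : ∃ k ∈ K, orderOf x.right ∣ k := by
        have := hC.le ⟨x.right, rfl⟩
        exact this
      refine ⟨k, Finset.mem_insert_of_mem hk, ?_⟩
      rw [← orderOf_eq_right hfpf x hx] at hk'
      exact orderOf_dvd_iff_pow_eq_one.1 hk'
  · rcases Finset.mem_insert.1 hk with rfl | hk
    · obtain ⟨v, hv⟩ := hne
      refine ⟨hp.pos, SemidirectProduct.inl (Multiplicative.ofAdd v), ?_⟩
      rw [orderOf_injective _ SemidirectProduct.inl_injective]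
      have := Fact.mk hp
      refine orderOf_eq_prime (congrArg Multiplicative.ofAdd (hV v)) ?_
      exact fun e => hv (congrArg Multiplicative.toAdd e)
    · obtain ⟨c, hc⟩ := hC.ge (show k ∈ {n | ∃ k' ∈ K, n ∣ k'} from ⟨k, hk, dvd_rfl⟩)
      refine ⟨(h1 k hk).le, SemidirectProduct.inr c, ?_⟩
      rw [orderOf_injective _ SemidirectProduct.inr_injective, hc]

/-- A semidirect product of an abelian group with a solvable group is solvable. -/
theorem solvable_semidirect [DistribMulAction C V] [Group.IsSolvable C] :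
    Group.IsSolvable (Multiplicative V ⋊[mulAutHom] C) :=
  Group.isSolvable_of_ker_le_range SemidirectProduct.inl SemidirectProduct.rightHom
    SemidirectProduct.range_inl_eq_ker_rightHom.ge

end Frobenius

end Cfsg.Agent.Spectrum
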