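import Cfsg.Agent.Lib.GL.PSLOrders
import Cfsg.Agent.Lib.Spectrum.Frobenius

/-!
# Element orders of `PGL₂(q)`

They are the divisors of `p`, `q - 1` and `q + 1`, where `p` is the characteristic.
-/

set_option autoImplicit false

open Matrix Polynomial
open scoped MatrixGroups

namespace Cfsg.Agent.Spectrum

variable {F : Type*} [Field F]

/-- A power of an element of `PGL₂` is trivial iff that power of a representative is scalar. -/
theorem pgl_two_pow_eq_one_iff (A : GL (Fin 2) F) (k : ℕ) :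
    (QuotientGroup.mk' (Subgroup.center (GL (Fin 2) F)) A) ^ k = 1 ↔
      ∃ c : F, (A : Matrix (Fin 2) (Fin 2) F) ^ k = c • 1 := by
  rw [← map_pow, QuotientGroup.mk'_apply, QuotientGroup.eq_one_iff,
    Matrix.GeneralLinearGroup.mem_center_iff_val_eq_scalar, Set.mem_range, Units.val_pow_eq_pow_val]
  simp only [Matrix.scalar_apply, Matrix.smul_one_eq_diagonal, eq_comm]

variable [Fintype F]

/-- Every matrix in `GL₂` has a power `p`, `q - 1` or `q + 1` that is scalar. -/
theorem gl_two_exists_scalar_pow (p : ℕ) [Fact p.Prime] [CharP F p] (A : GL (Fin 2) F) :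
    ∃ k ∈ ({p, Fintype.card F - 1, Fintype.card F + 1} : Finset ℕ),
      ∃ c : F, (A : Matrix (Fin 2) (Fin 2) F) ^ k = c • 1 := by
  set M := (A : Matrix (Fin 2) (Fin 2) F) with hM
  have hdeg : M.charpoly.natDegree = 2 := by simp [Matrix.charpoly_natDegree_eq_dim]
  have hmon := Matrix.charpoly_monic M
  by_cases hirr : Irreducible M.charpoly
  · refine ⟨Fintype.card F + 1, by simp, ?_⟩
    have h0 := GL.root_ne_zero_of_dvd_charpoly A hirr (dvd_refl _)
    have hroot := GL.root_pow_normIndex_mul hmon hirr h0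
    rw [GL.normIndex_mul, hdeg] at hroot
    have hL : AdjoinRoot.root M.charpoly ^ ((Fintype.card F + 1) * (Fintype.card F - 1)) = 1 := by
      have := Fintype.one_lt_card (α := F)
      have e : (Fintype.card F + 1) * (Fintype.card F - 1) = Fintype.card F ^ 2 - 1 := by
        rw [← Nat.sq_sub_sq, one_pow]
      rw [e]
      exact hroot
    have hA : minpoly F M ∣ M.charpoly ^ 1 := by
      rw [pow_one]
      exact Matrix.minpoly_dvd_charpoly M
    obtain ⟨c, hc⟩ := GL.exists_pow_eq_scalar p M hirr (m := 1) (e := 0) (by simp) hA hL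
    exact ⟨c, by simpa using hc⟩
  · obtain ⟨r, hr⟩ : ∃ r, M.charpoly.IsRoot r := by
      have hne : M.charpoly.roots ≠ 0 := fun h => hirr <|
        (hmon.irreducible_iff_roots_eq_zero_of_degree_le_three (by omega) (by omega)).2 h
      obtain ⟨r, hr⟩ := Multiset.exists_mem_of_ne_zero hne
      exact ⟨r, isRoot_of_mem_roots hr⟩
    obtain ⟨g, hg⟩ := (dvd_iff_isRoot.2 hr : (X - C r) ∣ M.charpoly)
    have hgm : g.Monic := (monic_X_sub_C r).of_mul_monic_left (hg ▸ hmon)
    have hgd : g.natDegree = 1 := by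
      have := congrArg natDegree hg
      rw [(monic_X_sub_C r).natDegree_mul hgm, natDegree_X_sub_C, hdeg] at this
      omega
    obtain ⟨s, hs⟩ : ∃ s, g = X - C s := ⟨-g.coeff 0, by
      conv_lhs => rw [hgm.eq_X_add_C hgd]
      simp⟩
    subst hs
    have hdet : M.det ≠ 0 := ((Matrix.isUnit_iff_isUnit_det _).1 A.isUnit).ne_zero
    rw [Matrix.det_eq_sign_charpoly_coeff, hg] at hdet
    simp only [mul_coeff_zero, coeff_sub, coeff_X_zero, coeff_C_zero, zero_sub, neg_mul_neg,
      Fintype.card_fin, neg_one_sq, one_mul, mul_ne_zero_iff] at hdet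
    have hCH := Matrix.aeval_self_charpoly M
    by_cases hrs : r = s
    · subst hrs
      refine ⟨p, by simp, r ^ p, ?_⟩
      have h2 : M.charpoly ∣ X ^ p - C (r ^ p) := by
        rw [hg, ← sq, map_pow, ← sub_pow_char]
        exact pow_dvd_pow _ (Fact.out : p.Prime).two_le
      obtain ⟨u, hu⟩ := h2
      have h3 := congrArg (aeval M) hu
      rw [map_mul, hCH, zero_mul, map_sub, map_pow, aeval_X, aeval_C, sub_eq_zero] at h3
      rw [h3, Algebra.algebraMap_eq_smul_one]
    · refine ⟨Fintype.card F - 1, by simp, 1, ?_⟩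
      have hdvd : ∀ t : F, t ≠ 0 → (X - C t : F[X]) ∣ X ^ (Fintype.card F - 1) - 1 := fun t ht => by
        refine dvd_iff_isRoot.2 ?_
        simp [FiniteField.pow_card_sub_one_eq_one t ht]
      have h2 : M.charpoly ∣ X ^ (Fintype.card F - 1) - 1 := by
        rw [hg]
        exact (isCoprime_X_sub_C_of_isUnit_sub (sub_ne_zero.2 hrs).isUnit).mul_dvd
          (hdvd r hdet.1) (hdvd s hdet.2)
      obtain ⟨u, hu⟩ := h2
      have h3 := congrArg (aeval M) hu
      rw [map_mul, hCH, zero_mul, map_sub, map_pow, aeval_X, map_one, sub_eq_zero] at h3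
      rw [h3, one_smul]

/-- Element orders of `PGL₂(q)`. -/
theorem range_orderOf_pgl_two (p : ℕ) [hp : Fact p.Prime] [CharP F p] (hq : 3 ≤ Fintype.card F) :
    Set.range (orderOf : GL (Fin 2) F ⧸ Subgroup.center (GL (Fin 2) F) → ℕ) =
      {n | ∃ k ∈ ({p, Fintype.card F - 1, Fintype.card F + 1} : Finset ℕ), n ∣ k} := by
  classical
  set q := Fintype.card F with hqd
  have hpq : p ≤ q := Nat.le_of_dvd (by omega) (by
    rw [← CharP.cast_eq_zero_iff F p]; exact Nat.cast_card_eq_zero F)
  have hall : ∀ x : GL (Fin 2) F ⧸ Subgroup.center (GL (Fin 2) F),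
      ∃ k ∈ ({p, q - 1, q + 1} : Finset ℕ), x ^ k = 1 := by
    intro x
    obtain ⟨A, rfl⟩ := QuotientGroup.mk'_surjective _ x
    obtain ⟨k, hk, hc⟩ := gl_two_exists_scalar_pow p A
    exact ⟨k, hk, (pgl_two_pow_eq_one_iff A k).2 hc⟩
  refine range_orderOf_eq_divisors _ hall fun k hk => ?_
  simp only [Finset.mem_insert, Finset.mem_singleton] at hk
  rcases hk with hk | hk | hk <;> rw [hk]
  · refine ⟨hp.out.pos, ?_⟩
    let A : GL (Fin 2) F := Matrix.GeneralLinearGroup.mkOfDetNeZero !![1, 1; 0, 1] (by simp)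
    refine ⟨QuotientGroup.mk' _ A, orderOf_eq_prime ?_ fun h => ?_⟩
    · rw [pgl_two_pow_eq_one_iff]
      refine ⟨1, ?_⟩
      have : ∀ n : ℕ, (!![1, 1; 0, 1] : Matrix (Fin 2) (Fin 2) F) ^ n = !![1, (n : F); 0, 1] := by
        intro n
        induction n with
        | zero => simp [Matrix.one_fin_two]
        | succ n ih =>
          rw [pow_succ, ih]
          ext i j
          fin_cases i <;> fin_cases j <;> simp [Matrix.mul_apply, Fin.sum_univ_two, add_comm]
      change (!![1, 1; 0, 1] : Matrix (Fin 2) (Fin 2) F) ^ p = _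
      rw [this, CharP.cast_eq_zero F p, one_smul, Matrix.one_fin_two]
    · obtain ⟨c, hc⟩ := (pgl_two_pow_eq_one_iff A 1).1 (by rw [pow_one]; exact h)
      rw [pow_one] at hc
      have := congrFun (congrFun hc 0) 1
      simp [A] at this
  · refine ⟨by omega, ?_⟩
    obtain ⟨w, hw⟩ := IsCyclic.exists_ofOrder_eq_natCard (α := Fˣ)
    rw [Nat.card_units, Nat.card_eq_fintype_card, ← hqd] at hw
    let A : GL (Fin 2) F :=
      Matrix.GeneralLinearGroup.mkOfDetNeZero (Matrix.diagonal ![(w : F), 1]) (by simp [Matrix.det_diagonal])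
    refine ⟨QuotientGroup.mk' _ A, ?_⟩
    have key : ∀ n : ℕ, QuotientGroup.mk' (Subgroup.center (GL (Fin 2) F)) A ^ n = 1 ↔ w ^ n = 1 := by
      intro n
      rw [pgl_two_pow_eq_one_iff]
      change (∃ c : F, Matrix.diagonal ![(w : F), 1] ^ n = c • 1) ↔ _
      rw [Matrix.diagonal_pow]
      simp only [Matrix.smul_one_eq_diagonal, Matrix.diagonal_eq_diagonal_iff, Fin.forall_fin_two,
        Pi.pow_apply, Matrix.cons_val_zero, Matrix.cons_val_one, one_pow, Units.ext_iff,
        Units.val_pow_eq_pow_val, Units.val_one]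
      exact ⟨fun ⟨c, h, h'⟩ => h.trans h'.symm, fun h => ⟨1, h, rfl⟩⟩
    rw [← hw]
    exact orderOf_eq_orderOf_iff.2 key
  · refine ⟨by omega, ?_⟩
    obtain ⟨A, hA⟩ := GL.exists_orderOf_card_pow_sub_one (F := F) (d := 2) (n := 2) two_pos le_rfl
    set x := QuotientGroup.mk' (Subgroup.center (GL (Fin 2) F)) A with hx
    refine ⟨x, ?_⟩
    obtain ⟨c, hc⟩ := (pgl_two_pow_eq_one_iff A _).1 (pow_orderOf_eq_one x)
    have hc0 : c ≠ 0 := fun h => by
      rw [h, zero_smul, ← Units.val_pow_eq_pow_val] at hc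
      exact (A ^ orderOf x).ne_zero hc
    have hd : q + 1 ∣ orderOf x := by
      have h1 : A ^ (orderOf x * (q - 1)) = 1 := Units.ext (by
        rw [Units.val_pow_eq_pow_val, pow_mul, hc, _root_.smul_pow, one_pow,
          FiniteField.pow_card_sub_one_eq_one c hc0, one_smul, Units.val_one])
      have h2 := orderOf_dvd_of_pow_eq_one h1
      rw [hA, ← hqd, show q ^ 2 - 1 = (q + 1) * (q - 1) by rw [← Nat.sq_sub_sq, one_pow]] at h2
      exact Nat.dvd_of_mul_dvd_mul_right (by omega) h2
    obtain ⟨k, hk, hkx⟩ := hall x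
    have hpos : 0 < k := by
      simp only [Finset.mem_insert, Finset.mem_singleton] at hk
      have := hp.out.pos
      omega
    have hle : orderOf x ≤ q + 1 := by
      refine (Nat.le_of_dvd hpos (orderOf_dvd_of_pow_eq_one hkx)).trans ?_
      simp only [Finset.mem_insert, Finset.mem_singleton] at hk
      omega
    exact le_antisymm hle (Nat.le_of_dvd (orderOf_pos_iff.2
      (isOfFinOrder_of_finite x)) hd)

end Cfsg.Agent.Spectrum
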