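import Mathlib

/-! Element orders of alternating groups through cycle types. -/

set_option autoImplicit false

namespace Cfsg.Agent.Spectrum

variable {n : ℕ}

/-- A prime dividing the lcm of a multiset divides a member. -/
theorem exists_mem_dvd_of_prime_dvd_lcm {p : ℕ} (hp : p.Prime) (m : Multiset ℕ) (h : p ∣ m.lcm) :
    ∃ a ∈ m, p ∣ a := by
  induction m using Multiset.induction with
  | empty => simp at h; exact absurd h hp.ne_one
  | cons a t ih =>
    rw [Multiset.lcm_cons] at h
    rcases hp.dvd_mul.mp (h.trans (Nat.lcm_dvd_mul a t.lcm)) with h' | h'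
    · exact ⟨a, Multiset.mem_cons_self a t, h'⟩
    · obtain ⟨b, hb, hpb⟩ := ih h'
      exact ⟨b, Multiset.mem_cons_of_mem hb, hpb⟩

/-- The cycle type of an element of `alternatingGroup (Fin n)`. -/
theorem cycleType_of_mem (σ : alternatingGroup (Fin n)) :
    (σ : Equiv.Perm (Fin n)).cycleType.sum ≤ n ∧
      Even ((σ : Equiv.Perm (Fin n)).cycleType.sum + (σ : Equiv.Perm (Fin n)).cycleType.card) ∧
      (σ : Equiv.Perm (Fin n)).cycleType.lcm = orderOf σ := by
  refine ⟨by simpa using Equiv.Perm.sum_cycleType_le (σ : Equiv.Perm (Fin n)), ?_, ?_⟩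
  · have h := Equiv.Perm.mem_alternatingGroup.mp σ.2
    rwa [Equiv.Perm.sign_of_cycleType, neg_one_pow_eq_one_iff_even (by decide)] at h
  · rw [Equiv.Perm.lcm_cycleType, Subgroup.orderOf_coe]

/-- Realisation of an order in the alternating group by a cycle type. -/
theorem exists_orderOf_alternating (m : Multiset ℕ) (h2 : ∀ a ∈ m, 2 ≤ a) (hsum : m.sum ≤ n)
    (heven : Even (m.sum + m.card)) :
    ∃ σ : alternatingGroup (Fin n), orderOf σ = m.lcm := by
  obtain ⟨σ, hσ⟩ := (Equiv.Perm.exists_with_cycleType_iff (Fin n) (m := m)).mpr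
    ⟨by simpa using hsum, h2⟩
  refine ⟨⟨σ, Equiv.Perm.mem_alternatingGroup.mpr ?_⟩, ?_⟩
  · rw [Equiv.Perm.sign_of_cycleType, hσ]
    exact heven.neg_one_pow
  · rw [← Subgroup.orderOf_coe, ← Equiv.Perm.lcm_cycleType, hσ]

/-- In a multiset with even `sum + card`, an even member has an even companion. -/
theorem exists_mem_even_erase (m : Multiset ℕ) (heven : Even (m.sum + m.card)) {a : ℕ} (ha : a ∈ m)
    (ha2 : Even a) : ∃ b ∈ m.erase a, Even b := by
  by_contra hcon
  push Not at hcon
  have key : ∀ t : Multiset ℕ, (∀ b ∈ t, ¬ Even b) → Even (t.sum + t.card) := by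
    intro t
    induction t using Multiset.induction with
    | empty => simp
    | cons b t ih =>
      intro h
      have h1 := h b (Multiset.mem_cons_self b t)
      have h2 := ih fun c hc => h c (Multiset.mem_cons_of_mem hc)
      simp only [Multiset.sum_cons, Multiset.card_cons]
      rw [Nat.even_iff] at h1 h2 ⊢
      omega
  have h := key _ hcon
  rw [← Multiset.cons_erase ha, Multiset.sum_cons, Multiset.card_cons] at heven
  rw [Nat.even_iff] at h heven ha2
  omega

/-- Two different members contribute to the sum. -/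
theorem add_le_sum {m : Multiset ℕ} {a b : ℕ} (ha : a ∈ m) (hb : b ∈ m.erase a) : a + b ≤ m.sum := by
  rw [← Multiset.cons_erase ha, Multiset.sum_cons]
  exact Nat.add_le_add_left (Multiset.le_sum_of_mem hb) a

end Cfsg.Agent.Spectrum
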