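import Cfsg.Agent.Lib.Spectrum.Basic

/-! The element orders of the alternating group of degree 10. -/

set_option autoImplicit false

namespace Cfsg.Agent.Spectrum.AlternatingTen

def S : List ℕ := [1, 2, 3, 4, 5, 6, 7, 8, 9, 10, 12, 15, 21]

theorem orderOf_of_pow {G : Type*} [Monoid G] {x : G} {n : ℕ} (hn : 0 < n) (h1 : x ^ n = 1)
    (h2 : ∀ m < n, 0 < m → n % m = 0 → x ^ m ≠ 1) : orderOf x = n := by
  have hd := orderOf_dvd_of_pow_eq_one h1
  by_contra hne
  have hlt : orderOf x < n := lt_of_le_of_ne (Nat.le_of_dvd hn hd) hne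
  exact h2 _ hlt (Nat.pos_of_dvd_of_pos hd hn) (Nat.mod_eq_zero_of_dvd hd) (pow_orderOf_eq_one x)

theorem mem_of_dvd_max {n : ℕ} (h : n ∈ S) : ∃ m ∈ [8, 9, 10, 12, 15, 21], n ∣ m := by
  revert n; decide

theorem range_A10 : Set.range (orderOf : alternatingGroup (Fin 10) → ℕ) = {n | n ∈ S} := by
  refine range_orderOf_eq S (fun g => orderOf_alternating_mem 5 (by omega) S (by decide +kernel) g)
    (fun n hn => exists_orderOf_of_dvd [8, 9, 10, 12, 15, 21] (by decide) ?_ (mem_of_dvd_max hn))
  have key : ∀ (σ : Equiv.Perm (Fin 10)) (m : ℕ), Equiv.Perm.sign σ = 1 → 0 < m →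
      σ ^ m = 1 → (∀ k < m, 0 < k → m % k = 0 → σ ^ k ≠ 1) →
      ∃ g : alternatingGroup (Fin 10), orderOf g = m := fun σ m hσ hm h1 h2 => by
    refine ⟨⟨σ, Equiv.Perm.mem_alternatingGroup.mpr hσ⟩, ?_⟩
    rw [← orderOf_injective (alternatingGroup (Fin 10)).subtype Subtype.val_injective]
    exact orderOf_of_pow hm h1 h2
  intro m hm
  simp only [List.mem_cons, List.not_mem_nil, or_false] at hm
  rcases hm with rfl | rfl | rfl | rfl | rfl | rfl
  · exact key ([0, 1, 2, 3, 4, 5, 6, 7].formPerm * [8, 9].formPerm) _ (by decide +kernel)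
      (by omega) (by decide +kernel) (by decide +kernel)
  · exact key [0, 1, 2, 3, 4, 5, 6, 7, 8].formPerm _ (by decide +kernel)
      (by omega) (by decide +kernel) (by decide +kernel)
  · exact key ([0, 1, 2, 3, 4].formPerm * [5, 6].formPerm * [7, 8].formPerm) _ (by decide +kernel)
      (by omega) (by decide +kernel) (by decide +kernel)
  · exact key ([0, 1, 2, 3, 4, 5].formPerm * [6, 7, 8, 9].formPerm) _ (by decide +kernel)
      (by omega) (by decide +kernel) (by decide +kernel)
  · exact key ([0, 1, 2, 3, 4].formPerm * [5, 6, 7].formPerm) _ (by decide +kernel)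
      (by omega) (by decide +kernel) (by decide +kernel)
  · exact key ([0, 1, 2, 3, 4, 5, 6].formPerm * [7, 8, 9].formPerm) _ (by decide +kernel)
      (by omega) (by decide +kernel) (by decide +kernel)

end Cfsg.Agent.Spectrum.AlternatingTen
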