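import Cfsg.Agent.Lib.Solvable.Hall
import Cfsg.Agent.Lib.NT.TwoPrimes

/-!
# Primes in `(n / 2, n]` and the spectrum of the alternating group

Two distinct primes with `p + q > n` are never adjacent in the prime graph of `Alt n`; a group with
this property and the order of `Alt n` is not solvable.
-/

set_option autoImplicit false

namespace Cfsg.Agent.Spectrum

/-- No permutation of `n` points has order divisible by two primes with sum above `n`. -/
theorem not_mul_dvd_orderOf_perm {n p q : ℕ} (hp : p.Prime) (hq : q.Prime) (hne : p ≠ q)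
    (hn : n < p + q) (σ : Equiv.Perm (Fin n)) : ¬ p * q ∣ orderOf σ := by
  intro h
  have hdiv : ∀ r : ℕ, r.Prime → r ∣ orderOf σ → ∃ c ∈ σ.cycleType, r ∣ c := by
    intro r hr hd
    rw [← Equiv.Perm.lcm_cycleType] at hd
    generalize σ.cycleType = s at hd
    induction s using Multiset.induction with
    | empty => exact absurd (Nat.eq_one_of_dvd_one (by simpa using hd)) hr.ne_one
    | cons a s ih =>
      rw [Multiset.lcm_cons] at hd
      rcases hr.dvd_mul.1 (hd.trans (Nat.lcm_dvd_mul _ _)) with h | h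
      · exact ⟨a, Multiset.mem_cons_self _ _, h⟩
      · obtain ⟨c, hc, hrc⟩ := ih h
        exact ⟨c, Multiset.mem_cons_of_mem hc, hrc⟩
  obtain ⟨c, hc, hpc⟩ := hdiv p hp ((dvd_mul_right p q).trans h)
  obtain ⟨d, hd, hqd⟩ := hdiv q hq ((dvd_mul_left q p).trans h)
  have hsum : σ.cycleType.sum ≤ n := (Equiv.Perm.sum_cycleType_le σ).trans (by simp)
  have hc2 := Equiv.Perm.two_le_of_mem_cycleType hc
  have hd2 := Equiv.Perm.two_le_of_mem_cycleType hd
  by_cases hcd : c = d
  · subst hcd
    have h2 : p * q ∣ c := ((Nat.coprime_primes hp hq).2 hne).mul_dvd_of_dvd_of_dvd hpc hqd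
    have h3 := Nat.le_of_dvd (by omega) h2
    have h4 := Multiset.single_le_sum (fun _ _ => Nat.zero_le _) _ hc
    have := Nat.add_le_mul hp.two_le hq.two_le
    omega
  · obtain ⟨t, ht⟩ := Multiset.exists_cons_of_mem hc
    have hdt : d ∈ t := by
      rw [ht, Multiset.mem_cons] at hd
      exact hd.resolve_left fun e => hcd e.symm
    rw [ht, Multiset.sum_cons] at hsum
    have h4 := Multiset.single_le_sum (fun _ _ => Nat.zero_le _) _ hdt
    have h5 := Nat.le_of_dvd (by omega) hpc
    have h6 := Nat.le_of_dvd (by omega) hqd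
    omega

/-- A group with the spectrum of `Alt n` has no element of order divisible by `p q` when `p + q > n`. -/
theorem not_mul_dvd_orderOf {G : Type*} [Group G] {n p q : ℕ}
    (hspec : Set.range (orderOf : G → ℕ) = Set.range (orderOf : alternatingGroup (Fin n) → ℕ))
    (hp : p.Prime) (hq : q.Prime) (hne : p ≠ q) (hn : n < p + q) (g : G) : ¬ p * q ∣ orderOf g := by
  obtain ⟨σ, hσ⟩ : orderOf g ∈ Set.range (orderOf : alternatingGroup (Fin n) → ℕ) := hspec ▸ ⟨g, rfl⟩
  rw [← hσ, ← orderOf_injective (alternatingGroup (Fin n)).subtype Subtype.val_injective]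
  exact not_mul_dvd_orderOf_perm hp hq hne hn _

/-- The order of `Alt n` is exactly divisible by each odd prime in `(n / 2, n]`. -/
theorem dvd_card_alternating {n p : ℕ} (hp : p.Prime) (h2 : p ≠ 2) (hlt : n < 2 * p) (hle : p ≤ n) :
    p ∣ Nat.card (alternatingGroup (Fin n)) ∧ ¬ p ^ 2 ∣ Nat.card (alternatingGroup (Fin n)) := by
  have : Fact p.Prime := ⟨hp⟩
  have hn2 : 2 ≤ n := le_trans hp.two_le hle
  have : Nontrivial (Fin n) := Fin.nontrivial_iff_two_le.2 hn2
  have hc : 2 * Nat.card (alternatingGroup (Fin n)) = n.factorial := by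
    rw [two_mul_nat_card_alternatingGroup, Nat.card_perm, Nat.card_eq_fintype_card, Fintype.card_fin]
  have hcop : ¬ p ∣ 2 := fun h => h2 ((Nat.prime_dvd_prime_iff_eq hp Nat.prime_two).1 h)
  refine ⟨?_, fun h => ?_⟩
  · have := (Nat.Prime.dvd_factorial hp).2 hle
    rw [← hc] at this
    exact (hp.dvd_mul.1 this).resolve_left hcop
  · have h' : p ^ 2 ∣ n.factorial := hc ▸ dvd_mul_of_dvd_right h 2
    have hv : padicValNat p n.factorial ≤ 1 := by
      rw [padicValNat_factorial (b := 2) ?_]
      · simp only [show Finset.Ico 1 2 = ({1} : Finset ℕ) from rfl, Finset.sum_singleton, pow_one]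
        have : n / p < 2 := Nat.div_lt_of_lt_mul (by rw [mul_comm]; exact hlt)
        omega
      · refine Nat.log_lt_of_lt_pow (by omega) ?_
        calc n < 2 * p := hlt
          _ ≤ p * p := Nat.mul_le_mul_right p hp.two_le
          _ = p ^ 2 := (sq p).symm
    have := (padicValNat_dvd_iff_le (Nat.factorial_pos n).ne').1 h'
    omega

/-- In a solvable group two Sylow orders with no arithmetic room give an element of order `p q`. -/
theorem exists_orderOf_eq_mul {G : Type*} [Group G] [Finite G] [Group.IsSolvable G] {p q a b m : ℕ}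
    (hp : p.Prime) (hq : q.Prime) (hne : p ≠ q) (ha : 1 ≤ a) (hb : 1 ≤ b)
    (hG : Nat.card G = p ^ a * q ^ b * m) (hpm : ¬ p ∣ m) (hqm : ¬ q ∣ m)
    (hpq : ∀ i ≤ a, p ^ i % q = 1 → i = 0) (hqp : ∀ i ≤ b, q ^ i % p = 1 → i = 0) :
    ∃ g : G, orderOf g = p * q := by
  obtain ⟨H, hH⟩ := Solvable.exists_hall hG (Nat.Coprime.mul_left
    ((hp.coprime_iff_not_dvd.2 hpm).pow_left a) ((hq.coprime_iff_not_dvd.2 hqm).pow_left b))
  have hfp : Fact p.Prime := ⟨hp⟩
  have hfq : Fact q.Prime := ⟨hq⟩
  have normal : ∀ (r s e f : ℕ) [Fact r.Prime], s.Prime → r ≠ s →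
      Nat.card H = r ^ e * s ^ f → (∀ i ≤ f, s ^ i % r = 1 → i = 0) →
      ∀ P : Sylow r H, (P : Subgroup H).Normal ∧ Nat.card P = r ^ e := by
    intro r s e f hr hs hrs hc hi P
    have hP : Nat.card P = r ^ e := by
      rw [P.card_eq_multiplicity, hc, Nat.factorization_mul (pow_ne_zero _ hr.out.ne_zero)
        (pow_ne_zero _ hs.ne_zero), Finsupp.add_apply, hr.out.factorization_pow, hs.factorization_pow,
        Finsupp.single_eq_same, Finsupp.single_eq_of_ne hrs, add_zero]
    have hidx : (P : Subgroup H).index = s ^ f := by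
      have := (P : Subgroup H).card_mul_index
      rw [hP, hc] at this
      exact Nat.eq_of_mul_eq_mul_left (pow_pos hr.out.pos e) this
    have hd := P.card_dvd_index
    rw [hidx] at hd
    obtain ⟨i, hif, hieq⟩ := (Nat.dvd_prime_pow hs).1 hd
    have h1 := card_sylow_modEq_one r H
    rw [hieq, Nat.ModEq, Nat.one_mod_eq_one.2 hr.out.ne_one] at h1
    have hi0 := hi i hif h1
    rw [hi0, pow_zero] at hieq
    have : Subsingleton (Sylow r H) := (Nat.card_eq_one_iff_unique.1 hieq).1
    exact ⟨Sylow.normal_of_subsingleton P, hP⟩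
  obtain ⟨hPn, hPc⟩ := normal p q a b hq hne hH hqp default
  obtain ⟨hQn, hQc⟩ := normal q p b a hp hne.symm (by rw [hH, mul_comm]) hpq default
  set P : Subgroup H := ((default : Sylow p H) : Subgroup H)
  set Q : Subgroup H := ((default : Sylow q H) : Subgroup H)
  obtain ⟨x, hx⟩ := exists_prime_orderOf_dvd_card' (G := P) p (hPc ▸ dvd_pow_self p (by omega))
  obtain ⟨y, hy⟩ := exists_prime_orderOf_dvd_card' (G := Q) q (hQc ▸ dvd_pow_self q (by omega))
  have hdisj : Disjoint P Q := disjoint_iff.2 (Coprime.disjoint_of_coprime_card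
    (by rw [hPc, hQc]; exact Nat.Coprime.pow _ _ ((Nat.coprime_primes hp hq).2 hne)))
  have hcomm : Commute (x : H) (y : H) := Subgroup.commute_of_normal_of_disjoint P Q hPn hQn hdisj _ _ x.2 y.2
  refine ⟨H.subtype ((x : H) * (y : H)), ?_⟩
  rw [orderOf_injective _ H.subtype_injective, hcomm.orderOf_mul_eq_mul_orderOf_of_coprime,
    Subgroup.orderOf_coe, Subgroup.orderOf_coe, hx, hy]
  rw [Subgroup.orderOf_coe, Subgroup.orderOf_coe, hx, hy]
  exact (Nat.coprime_primes hp hq).2 hne

end Cfsg.Agent.Spectrum
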