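import Cfsg.Agent.Lib.Spectrum.FpfFunctions
import Cfsg.Agent.Lib.PSL2.Centralizer

/-!
# A function with zero norm for all unipotent elements of `PSL₂(p)`

`X` is the set of traceless `2 × 2` matrices with square `ν` (a non-square scalar), `G = PSL₂(p)`
acts by conjugation, and the function is the indicator of `tr (x w) = ± 2 ν` for a suitable `w`.
-/

set_option autoImplicit false

open scoped MatrixGroups

namespace Cfsg.Agent.Spectrum.Cone

variable {p : ℕ} [Fact p.Prime]

local notation "F" => ZMod p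
local notation "M2" => Matrix (Fin 2) (Fin 2) (ZMod p)

/-- The trace form. -/
def tf (x y : M2) : F := (x * y).trace

theorem tf_eq (x y : M2) :
    tf x y = x 0 0 * y 0 0 + x 0 1 * y 1 0 + (x 1 0 * y 0 1 + x 1 1 * y 1 1) := by
  simp [tf, Matrix.trace_fin_two, Matrix.mul_apply, Fin.sum_univ_two]

/-- Traceless matrices with square `ν`. -/
def X (ν : F) : Type := {x : M2 // x 1 1 = -x 0 0 ∧ x 0 0 ^ 2 + x 0 1 * x 1 0 = ν}

/-- `X` is finite. -/
noncomputable instance instFintypeX (ν : F) : Fintype (X ν) := by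
  unfold X
  exact Fintype.ofFinite _

/-- Equality in `X` is decidable. -/
noncomputable instance instDecEqX (ν : F) : DecidableEq (X ν) := Classical.decEq _

/-- Conjugation in coordinates keeps `X`. -/
theorem conj_mem (g : SL(2, F)) {ν : F} (x : X ν) :
    ((g : M2) * x.1 * (g⁻¹ : SL(2, F))) 1 1 = -((g : M2) * x.1 * (g⁻¹ : SL(2, F))) 0 0 ∧
      ((g : M2) * x.1 * (g⁻¹ : SL(2, F))) 0 0 ^ 2 +
        ((g : M2) * x.1 * (g⁻¹ : SL(2, F))) 0 1 * ((g : M2) * x.1 * (g⁻¹ : SL(2, F))) 1 0 = ν := by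
  have hd := PSL2.det_eq g
  obtain ⟨m, h1, h2⟩ := x
  simp only [Matrix.mul_apply, Fin.sum_univ_two, PSL2.inv00, PSL2.inv01, PSL2.inv10, PSL2.inv11, h1]
  constructor
  · ring
  · rw [← h2]
    linear_combination (m 0 0 ^ 2 + m 0 1 * m 1 0) * (g 0 0 * g 1 1 - g 0 1 * g 1 0 + 1) * hd

/-- Conjugation by `SL₂`. -/
noncomputable def slPerm (ν : F) : SL(2, F) →* Equiv.Perm (X ν) where
  toFun g :=
    { toFun := fun x => ⟨(g : M2) * x.1 * (g⁻¹ : SL(2, F)), conj_mem g x⟩
      invFun := fun x => ⟨((g⁻¹ : SL(2, F)) : M2) * x.1 * ((g⁻¹)⁻¹ : SL(2, F)), conj_mem g⁻¹ x⟩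
      left_inv := fun x => Subtype.ext (by
        change ((g⁻¹ : SL(2, F)) : M2) * ((g : M2) * x.1 * (g⁻¹ : SL(2, F))) * ((g⁻¹)⁻¹ : SL(2, F)) = x.1
        rw [inv_inv, ← mul_assoc, ← mul_assoc, ← Matrix.SpecialLinearGroup.coe_mul, inv_mul_cancel,
          mul_assoc, ← Matrix.SpecialLinearGroup.coe_mul, inv_mul_cancel]
        simp)
      right_inv := fun x => Subtype.ext (by
        change (g : M2) * (((g⁻¹ : SL(2, F)) : M2) * x.1 * ((g⁻¹)⁻¹ : SL(2, F))) * (g⁻¹ : SL(2, F)) = x.1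
        rw [inv_inv, ← mul_assoc, ← mul_assoc, ← Matrix.SpecialLinearGroup.coe_mul, mul_inv_cancel,
          mul_assoc, ← Matrix.SpecialLinearGroup.coe_mul, mul_inv_cancel]
        simp) }
  map_one' := Equiv.ext fun x => Subtype.ext (by
    change ((1 : SL(2, F)) : M2) * x.1 * ((1 : SL(2, F))⁻¹ : SL(2, F)) = x.1
    simp)
  map_mul' g h := Equiv.ext fun x => Subtype.ext (by
    change ((g * h : SL(2, F)) : M2) * x.1 * ((g * h)⁻¹ : SL(2, F)) =
      (g : M2) * ((h : M2) * x.1 * (h⁻¹ : SL(2, F))) * (g⁻¹ : SL(2, F))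
    rw [mul_inv_rev]
    simp only [Matrix.SpecialLinearGroup.coe_mul, mul_assoc])

theorem center_le_ker (ν : F) : Subgroup.center SL(2, F) ≤ (slPerm ν).ker := by
  intro g hg
  refine MonoidHom.mem_ker.2 (Equiv.ext fun x => Subtype.ext ?_)
  change (g : M2) * x.1 * (g⁻¹ : SL(2, F)) = x.1
  rcases PSL2.mem_center_iff_pm.1 hg with rfl | rfl
  · simp
  · rw [show ((-1 : SL(2, F)))⁻¹ = -1 from inv_eq_of_mul_eq_one_right (by simp)]
    simp

/-- The action of `PSL₂` on `X`. -/
noncomputable instance instActionX (ν : F) : MulAction PSL(2, F) (X ν) :=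
  MulAction.compHom (X ν)
    (QuotientGroup.lift (Subgroup.center SL(2, F)) (slPerm ν) (center_le_ker ν))

theorem mk_smul (ν : F) (g : SL(2, F)) (x : X ν) :
    (PSL2.mk g • x : X ν).1 = (g : M2) * x.1 * (g⁻¹ : SL(2, F)) := rfl

/-- Sum over a field of prime order as a sum over `range p`. -/
theorem sum_range_eq (φ : F → ZMod 2) :
    ∑ i ∈ Finset.range p, φ (i : F) = ∑ t : F, φ t := by
  have : NeZero p := ⟨(Fact.out : p.Prime).ne_zero⟩
  refine Finset.sum_bij (fun i _ => (i : F)) (fun _ _ => Finset.mem_univ _) ?_ ?_ (fun _ _ => rfl)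
  · intro i hi j hj h
    have := congrArg ZMod.val h
    rwa [ZMod.val_natCast_of_lt (Finset.mem_range.1 hi), ZMod.val_natCast_of_lt (Finset.mem_range.1 hj)]
      at this
  · exact fun t _ => ⟨t.val, Finset.mem_range.2 (ZMod.val_lt t), ZMod.natCast_zmod_val t⟩

/-- A non-degenerate quadratic has an even number of roots. -/
theorem sum_roots_quadratic (a b e : F) (ha : a ≠ 0) (hd : b ^ 2 - 4 * a * e ≠ 0) :
    ∑ t : F, (if a * t ^ 2 + b * t + e = 0 then (1 : ZMod 2) else 0) = 0 := by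
  refine Finset.sum_involution (fun t _ => -b / a - t) ?_ ?_ (fun _ _ => Finset.mem_univ _) ?_
  · intro t _
    have : a * (-b / a - t) ^ 2 + b * (-b / a - t) + e = a * t ^ 2 + b * t + e := by
      field_simp
      ring
    rw [this]
    exact CharTwo.add_self_eq_zero _
  · intro t _ h heq
    refine hd ?_
    have ht : a * t ^ 2 + b * t + e = 0 := by
      by_contra h'
      exact h (if_neg h')
    have hb : -b = 2 * t * a := by
      have h2 : -b / a = 2 * t := by linear_combination heq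
      rwa [div_eq_iff ha] at h2
    linear_combination (-b - 2 * t * a) * hb - 4 * a * ht
  · intro t _
    ring

/-- A linear equation has one root. -/
theorem sum_roots_linear (b e : F) (hb : b ≠ 0) :
    ∑ t : F, (if b * t + e = 0 then (1 : ZMod 2) else 0) = 1 := by
  have hiff : ∀ t, b * t + e = 0 ↔ t = -e / b := fun t => by
    rw [eq_div_iff hb]
    constructor <;> intro h <;> linear_combination h
  rw [Finset.sum_congr rfl fun t _ => if_congr (hiff t) rfl rfl, Finset.sum_ite_eq' Finset.univ]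
  simp

/-- The parity statement: the sum over `t` of the indicator of a pair of opposite planes along
`x + t [N, x] - t² N x N`. -/
theorem pair_even {ν : F} (h2 : (2 : F) ≠ 0) (hν : ¬ IsSquare ν) (x N w : M2) (hx0 : x 1 1 = -x 0 0)
    (hx : x 0 0 ^ 2 + x 0 1 * x 1 0 = ν) (hN0 : N 1 1 = -N 0 0)
    (hN : N 0 0 ^ 2 + N 0 1 * N 1 0 = 0) (hNne : N ≠ 0) (hw0 : w 1 1 = -w 0 0)
    (hw : tf w w = 2 * (ν - ν ^ 2)) :
    ∑ t : F, ((if tf (x + t • (N * x - x * N) - t ^ 2 • (N * x * N)) w = 2 * ν then (1 : ZMod 2) else 0) +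
      (if tf (x + t • (N * x - x * N) - t ^ 2 • (N * x * N)) w = -(2 * ν) then 1 else 0)) = 0 := by
  set P := tf N x with hP
  set R := tf N w with hR
  set c := tf x w with hc
  set b := tf (N * x - x * N) w with hb
  have hν0 : ν ≠ 0 := fun h => hν (h ▸ IsSquare.zero)
  have h4 : (4 : F) ≠ 0 := by
    intro h
    exact h2 (pow_eq_zero_iff two_ne_zero |>.1 (show (2 : F) ^ 2 = 0 by linear_combination h))
  have hexp : ∀ t : F, tf (x + t • (N * x - x * N) - t ^ 2 • (N * x * N)) w =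
      (-(P * R)) * t ^ 2 + b * t + c := by
    intro t
    simp only [hP, hR, hb, hc, tf_eq, Matrix.mul_apply, Fin.sum_univ_two, Matrix.add_apply,
      Matrix.sub_apply, Matrix.smul_apply, smul_eq_mul, hx0, hN0, hw0]
    linear_combination (t ^ 2 * (2 * x 0 0 * w 0 0 + x 0 1 * w 1 0 + x 1 0 * w 0 1)) * hN
  have hb2 : b ^ 2 = 2 * (P ^ 2 * tf w w - 2 * P * R * c + R ^ 2 * (2 * ν)) := by
    rw [← hx]
    simp only [hP, hR, hb, hc, tf_eq, Matrix.mul_apply, Fin.sum_univ_two, Matrix.sub_apply, hx0, hN0, hw0]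
    linear_combination (-2 * 2 * ((2 * x 0 0 ^ 2 + 2 * x 0 1 * x 1 0) *
      (2 * w 0 0 ^ 2 + 2 * w 0 1 * w 1 0) -
      (2 * x 0 0 * w 0 0 + x 0 1 * w 1 0 + x 1 0 * w 0 1) ^ 2)) * hN
  have hPne : P ≠ 0 := by
    intro h
    simp only [hP, tf_eq, hx0, hN0] at h
    by_cases h01 : N 0 1 = 0
    · have h00 : N 0 0 = 0 := by
        rw [h01, zero_mul, add_zero] at hN
        exact pow_eq_zero_iff two_ne_zero |>.1 hN
      have h10 : N 1 0 ≠ 0 := by
        intro h10
        refine hNne ?_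
        ext i j
        fin_cases i <;> fin_cases j <;> simp [h00, h01, h10, hN0]
      simp only [h00, h01, zero_mul, add_zero, zero_add, neg_zero] at h
      have : x 0 1 = 0 := (mul_eq_zero.1 h).resolve_left h10
      exact hν ⟨x 0 0, by rw [← hx, this]; ring⟩
    · refine hν ⟨(x 0 0 * N 0 1 - x 0 1 * N 0 0) / N 0 1, ?_⟩
      rw [← hx]
      field_simp
      linear_combination (x 0 1 * N 0 1) * h - x 0 1 ^ 2 * hN
  have hdisc : ∀ k : F, k ^ 2 = (2 * ν) ^ 2 → ∀ r : F, 4 * ν * r ^ 2 - 4 * k * r + 2 * tf w w ≠ 0 := by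
    intro k hk r h
    refine hν ⟨(2 * ν * r - k) / (2 * ν), ?_⟩
    rw [hw] at h
    field_simp
    linear_combination (-ν) * h - hk
  have count : ∀ k : F, k ^ 2 = (2 * ν) ^ 2 →
      ∑ t : F, (if tf (x + t • (N * x - x * N) - t ^ 2 • (N * x * N)) w = k then (1 : ZMod 2) else 0) =
        if R = 0 then 1 else 0 := by
    intro k hk
    have hrw : ∀ t, tf (x + t • (N * x - x * N) - t ^ 2 • (N * x * N)) w = k ↔
        (-(P * R)) * t ^ 2 + b * t + (c - k) = 0 := fun t => by
      rw [hexp t]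
      constructor <;> intro h <;> linear_combination h
    rw [Finset.sum_congr rfl fun t _ => if_congr (hrw t) rfl rfl]
    split_ifs with hR0
    · have hbne : b ≠ 0 := by
        intro hb0
        rw [hb0, hR0] at hb2
        have hz : 4 * (P ^ 2 * (ν * (1 - ν))) = 0 := by linear_combination (-1) * hb2 - 2 * P ^ 2 * hw
        have h1 : (1 : F) - ν ≠ 0 := fun h => hν ⟨1, by linear_combination -h⟩
        simp [h4, hPne, hν0, h1] at hz
      refine Eq.trans (Finset.sum_congr rfl fun t _ => ?_) (sum_roots_linear b (c - k) hbne)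
      rw [hR0]
      simp
    · refine sum_roots_quadratic _ _ _ (neg_ne_zero.2 (mul_ne_zero hPne hR0)) fun h => ?_
      refine hdisc k hk (R / P) ?_
      field_simp
      linear_combination h - hb2
  rw [Finset.sum_add_distrib, count _ rfl, count _ (by ring)]
  exact CharTwo.add_self_eq_zero _

theorem pow_one_add (N : M2) (hN : N * N = 0) (i : ℕ) : (1 + N) ^ i = 1 + (i : F) • N := by
  induction i with
  | zero => simp
  | succ i ih =>
    rw [pow_succ, ih]
    simp only [mul_add, add_mul, one_mul, mul_one, smul_mul_assoc, hN, smul_zero, Nat.cast_succ,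
      add_smul, one_smul, add_zero]
    abel

/-- The indicator function. -/
noncomputable def ind (ν : F) (w : M2) (x : X ν) : ZMod 2 :=
  (if tf x.1 w = 2 * ν then 1 else 0) + (if tf x.1 w = -(2 * ν) then 1 else 0)

theorem ind_mem {ν : F} (h2 : (2 : F) ≠ 0) (hν : ¬ IsSquare ν) (w : M2) (hw0 : w 1 1 = -w 0 0)
    (hw : tf w w = 2 * (ν - ν ^ 2)) : ind ν w ∈ Fpf.zeroNorm PSL(2, F) (X ν) p := by
  intro u hu hu1 x
  obtain ⟨g, rfl⟩ := PSL2.mk_surjective u
  -- a lift which is `1 + N`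
  obtain ⟨g', hg', htr⟩ : ∃ g' : SL(2, F), PSL2.mk g' = PSL2.mk g ∧ (g' : M2).trace = 2 := by
    rw [← map_pow, PSL2.mk_eq_one] at hu
    have htp : ((g ^ p : SL(2, F)) : M2).trace = (g : M2).trace := by
      rw [Matrix.SpecialLinearGroup.coe_pow, ZMod.trace_pow_card, ZMod.pow_card]
    rcases hu with h | h
    · exact ⟨g, rfl, by rw [← htp, h]; simp⟩
    · refine ⟨-g, PSL2.mk_neg g, ?_⟩
      rw [Matrix.SpecialLinearGroup.coe_neg, Matrix.trace_neg, ← htp, h]
      simp
  rw [← hg'] at hu1 ⊢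
  clear hg' hu g
  set N : M2 := (g' : M2) - 1 with hNdef
  have hd := PSL2.det_eq g'
  rw [Matrix.trace_fin_two] at htr
  have hN0 : N 1 1 = -N 0 0 := by
    simp [hNdef]
    linear_combination htr
  have hN : N 0 0 ^ 2 + N 0 1 * N 1 0 = 0 := by
    simp [hNdef]
    linear_combination -hd + g' 0 0 * htr
  have hNne : N ≠ 0 := fun h => hu1 (by
    rw [PSL2.mk_eq_one]
    exact Or.inl (Subtype.ext (by
      rw [Matrix.SpecialLinearGroup.coe_one]
      exact sub_eq_zero.1 h)))
  have hNN : N * N = 0 := by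
    ext i j
    fin_cases i <;> fin_cases j <;> simp [Matrix.mul_apply, Fin.sum_univ_two, hN0] <;>
      first | ring1 | linear_combination hN
  have hg1 : (g' : M2) = 1 + N := by rw [hNdef]; abel
  have key : ∀ i : ℕ, tf (PSL2.mk g' ^ i • x : X ν).1 w =
      tf (x.1 + (i : F) • (N * x.1 - x.1 * N) - (i : F) ^ 2 • (N * x.1 * N)) w := by
    intro i
    rw [← map_pow, mk_smul]
    congr 1
    have hi : ((g' ^ i : SL(2, F)) : M2) = 1 + (i : F) • N := by
      rw [Matrix.SpecialLinearGroup.coe_pow, hg1, pow_one_add N hNN]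
    have hinv : (((g' ^ i)⁻¹ : SL(2, F)) : M2) = 1 - (i : F) • N := by
      have h1 : ((g' ^ i : SL(2, F)) : M2) * (1 - (i : F) • N) = 1 := by
        rw [hi]
        simp [mul_sub, add_mul, hNN]
      have h2 : (((g' ^ i)⁻¹ : SL(2, F)) : M2) * ((g' ^ i : SL(2, F)) : M2) = 1 := by
        rw [← Matrix.SpecialLinearGroup.coe_mul, inv_mul_cancel, Matrix.SpecialLinearGroup.coe_one]
      exact left_inv_eq_right_inv h2 h1
    rw [hi, hinv]
    simp only [add_mul, mul_sub, one_mul, mul_one, smul_mul_assoc, mul_smul_comm, smul_smul, smul_add,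
      smul_sub, mul_assoc]
    module
  simp only [ind, key]
  rw [sum_range_eq (fun t : F => (if tf (x.1 + t • (N * x.1 - x.1 * N) - t ^ 2 • (N * x.1 * N)) w = 2 * ν
    then (1 : ZMod 2) else 0) + (if tf (x.1 + t • (N * x.1 - x.1 * N) - t ^ 2 • (N * x.1 * N)) w = -(2 * ν)
    then 1 else 0))]
  exact pair_even h2 hν x.1 N w x.2.1 x.2.2 hN0 hN hNne hw0 hw

end Cfsg.Agent.Spectrum.Cone
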