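import Cfsg.Agent.Lib.Spectrum.ConeFunction
import Cfsg.Agent.Lib.PSL2.Torus

/-!
# `W ⋊ PSL₂(p)` has the element orders of `PGL₂(p)`

With `W` the module of `Spectrum.Fpf`: over an element of order `p` only order `p` occurs, and over
a torus generator the doubled order occurs, so the spectrum is that of `PGL₂(p)`.
-/

set_option autoImplicit false

open scoped MatrixGroups

namespace Cfsg.Agent.Spectrum.Cone

variable {p : ℕ} [Fact p.Prime]

local notation "F" => ZMod p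
local notation "M2" => Matrix (Fin 2) (Fin 2) (ZMod p)

/-- First basis vector of norm `ν`. -/
def x0 (ν : F) : M2 := !![0, ν; 1, 0]

/-- Second basis vector of norm `ν`. -/
def bu (ν a c : F) : M2 := !![a, ν * c; -c, -a]

/-- Third basis vector of norm `-ν²`. -/
def bz (ν a c : F) : M2 := !![ν * c, ν * a; -a, -(ν * c)]

/-- The vector defining the function. -/
def bw (ν a c : F) : M2 := x0 ν + bz ν a c

/-- The vector defining the torus. -/
def bt (ν a c ρ : F) : M2 := ρ • x0 ν + bz ν a c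

/-- Coordinates of the chosen basis. -/
theorem coords (ν a c : F) (x : M2) (hx0 : x 1 1 = -x 0 0) :
    tf x (x0 ν) = x 0 1 + ν * x 1 0 ∧
      tf x (bu ν a c) = 2 * a * x 0 0 + c * (ν * x 1 0 - x 0 1) ∧
      tf x (bz ν a c) = 2 * ν * c * x 0 0 + a * (ν * x 1 0 - x 0 1) := by
  refine ⟨?_, ?_, ?_⟩ <;> simp [tf_eq, x0, bu, bz, hx0] <;> ring

theorem tf_bt (ν a c ρ : F) (x : M2) :
    tf x (bt ν a c ρ) = ρ * tf x (x0 ν) + tf x (bz ν a c) := by
  simp [tf, bt, mul_add, Matrix.trace_add, Matrix.trace_smul]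

theorem tf_bw (ν a c : F) (x : M2) : tf x (bw ν a c) = tf x (x0 ν) + tf x (bz ν a c) := by
  simp [tf, bw, mul_add, Matrix.trace_add]

theorem norm_identity {ν a c : F} (he : a ^ 2 - ν * c ^ 2 = ν) (x : X ν) :
    4 * ν ^ 3 = ν * tf x.1 (x0 ν) ^ 2 + ν * tf x.1 (bu ν a c) ^ 2 - tf x.1 (bz ν a c) ^ 2 := by
  obtain ⟨h1, h2, h3⟩ := coords ν a c x.1 x.2.1
  rw [h1, h2, h3]
  linear_combination (-4 * ν ^ 2) * x.2.2 -
    (4 * ν * x.1 0 0 ^ 2 - (ν * x.1 1 0 - x.1 0 1) ^ 2) * he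

theorem tf_bw_self {ν a c : F} (he : a ^ 2 - ν * c ^ 2 = ν) :
    tf (bw ν a c) (bw ν a c) = 2 * (ν - ν ^ 2) := by
  simp [tf_eq, bw, x0, bz]
  linear_combination (-2 * ν) * he

theorem tf_bt_self {ν a c : F} (he : a ^ 2 - ν * c ^ 2 = ν) (ρ : F) :
    tf (bt ν a c ρ) (bt ν a c ρ) = 2 * ν * (ρ ^ 2 - ν) := by
  simp [tf_eq, bt, x0, bz]
  linear_combination (-2 * ν) * he

/-- The reflection in `bu`. -/
noncomputable def refl {ν a c : F} (h2 : (2 : F) ≠ 0) (hν : ν ≠ 0) (he : a ^ 2 - ν * c ^ 2 = ν)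
    (x : X ν) : X ν :=
  ⟨x.1 - (tf x.1 (bu ν a c) / ν) • bu ν a c, by
    constructor
    · simp [bu, x.2.1]
      ring
    · obtain ⟨-, hU, -⟩ := coords ν a c x.1 x.2.1
      generalize tf x.1 (bu ν a c) = U at hU ⊢
      simp only [Matrix.sub_apply, Matrix.smul_apply, smul_eq_mul, bu, Matrix.of_apply,
        Matrix.cons_val', Matrix.cons_val_zero, Matrix.cons_val_one, Matrix.empty_val',
        Matrix.cons_val_fin_one]
      field_simp
      linear_combination ν ^ 2 * x.2.2 + U ^ 2 * he + ν * U * hU⟩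

theorem refl_val {ν a c : F} (h2 : (2 : F) ≠ 0) (hν : ν ≠ 0) (he : a ^ 2 - ν * c ^ 2 = ν) (x : X ν) :
    (refl h2 hν he x).1 = x.1 - (tf x.1 (bu ν a c) / ν) • bu ν a c := rfl

theorem tf_refl {ν a c : F} (h2 : (2 : F) ≠ 0) (hν : ν ≠ 0) (he : a ^ 2 - ν * c ^ 2 = ν) (x : X ν) :
    tf (refl h2 hν he x).1 (x0 ν) = tf x.1 (x0 ν) ∧
      tf (refl h2 hν he x).1 (bz ν a c) = tf x.1 (bz ν a c) ∧
      tf (refl h2 hν he x).1 (bu ν a c) = -tf x.1 (bu ν a c) := by
  have hlin : ∀ v : M2, tf (refl h2 hν he x).1 v =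
      tf x.1 v - tf x.1 (bu ν a c) / ν * tf (bu ν a c) v := fun v => by
    simp [tf, refl_val, sub_mul, Matrix.trace_sub, Matrix.trace_smul]
  have h0 : tf (bu ν a c) (x0 ν) = 0 := by simp [tf_eq, bu, x0]; ring
  have hz : tf (bu ν a c) (bz ν a c) = 0 := by simp [tf_eq, bu, bz]; ring
  have hu : tf (bu ν a c) (bu ν a c) = 2 * ν := by
    simp [tf_eq, bu]
    linear_combination 2 * he
  refine ⟨?_, ?_, ?_⟩
  · rw [hlin, h0, mul_zero, sub_zero]
  · rw [hlin, hz, mul_zero, sub_zero]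
  · rw [hlin, hu]
    field_simp
    ring

theorem weight {ν a c ρ : F} (h2 : (2 : F) ≠ 0) (hν : ¬ IsSquare ν) (he : a ^ 2 - ν * c ^ 2 = ν)
    (hρ0 : ρ ≠ 0) (hρ1 : ρ ≠ 1) (hρν : ρ ≠ ν) :
    ∑ x ∈ Finset.univ.filter (fun x : X ν => tf x.1 (bt ν a c ρ) = 2 * ν * ρ),
      ind ν (bw ν a c) x = 1 := by
  classical
  have hν0 : ν ≠ 0 := fun h => hν (h ▸ IsSquare.zero)
  have hρ : ρ - 1 ≠ 0 := sub_ne_zero.2 hρ1
  simp only [ind, Finset.sum_add_distrib]
  set S := Finset.univ.filter (fun x : X ν => tf x.1 (bt ν a c ρ) = 2 * ν * ρ) with hS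
  have hx0 : (x0 ν) 1 1 = -(x0 ν) 0 0 ∧ (x0 ν) 0 0 ^ 2 + (x0 ν) 0 1 * (x0 ν) 1 0 = ν := by
    simp [x0]
  let e0 : X ν := ⟨x0 ν, hx0⟩
  have hT0 : tf (x0 ν) (x0 ν) = 2 * ν := by simp [tf_eq, x0]; ring
  have hZ0 : tf (x0 ν) (bz ν a c) = 0 := by simp [tf_eq, x0, bz]
  have hmem0 : e0 ∈ S := by
    refine Finset.mem_filter.2 ⟨Finset.mem_univ _, ?_⟩
    change tf (x0 ν) (bt ν a c ρ) = _
    rw [tf_bt, hT0, hZ0]
    ring
  have hplus : ∀ x ∈ S, tf x.1 (bw ν a c) = 2 * ν → x = e0 := by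
    intro x hx hw
    simp only [hS, Finset.mem_filter, Finset.mem_univ, true_and, tf_bt] at hx
    rw [tf_bw] at hw
    have hT : tf x.1 (x0 ν) = 2 * ν :=
      mul_left_cancel₀ hρ (by linear_combination hx - hw)
    have hZ : tf x.1 (bz ν a c) = 0 := by linear_combination hw - hT
    have hid := norm_identity he x
    rw [hT, hZ] at hid
    have hU : tf x.1 (bu ν a c) = 0 := by
      have : ν * tf x.1 (bu ν a c) ^ 2 = 0 := by linear_combination -hid
      exact pow_eq_zero_iff two_ne_zero |>.1 ((mul_eq_zero.1 this).resolve_left hν0)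
    obtain ⟨c1, c2, c3⟩ := coords ν a c x.1 x.2.1
    rw [hT] at c1
    rw [hU] at c2
    rw [hZ] at c3
    have h00 : x.1 0 0 = 0 := by
      have : 2 * ν * x.1 0 0 = 0 := by
        linear_combination (-a) * c2 + c * c3 - 2 * x.1 0 0 * he
      simpa [h2, hν0] using this
    have hs : ν * x.1 1 0 - x.1 0 1 = 0 := by
      have : ν * (ν * x.1 1 0 - x.1 0 1) = 0 := by
        linear_combination (-a) * c3 + ν * c * c2 - (ν * x.1 1 0 - x.1 0 1) * he
      exact (mul_eq_zero.1 this).resolve_left hν0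
    have h10 : x.1 1 0 = 1 := mul_left_cancel₀ (mul_ne_zero h2 hν0) (by linear_combination hs - c1)
    have h01 : x.1 0 1 = ν := by
      rw [h10] at hs
      linear_combination -hs
    refine Subtype.ext ?_
    ext i j
    fin_cases i <;> fin_cases j <;> simp [e0, x0, h00, h01, h10, x.2.1]
  have h1 : ∑ x ∈ S, (if tf x.1 (bw ν a c) = 2 * ν then (1 : ZMod 2) else 0) = 1 := by
    rw [Finset.sum_eq_single_of_mem e0 hmem0 fun x hx hne => if_neg fun h => hne (hplus x hx h)]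
    rw [if_pos]
    simp [e0, tf_bw, hT0, hZ0]
  have hm : ∑ x ∈ S, (if tf x.1 (bw ν a c) = -(2 * ν) then (1 : ZMod 2) else 0) = 0 := by
    refine Finset.sum_involution (fun x _ => refl h2 hν0 he x) ?_ ?_ ?_ ?_
    · intro x _
      obtain ⟨hT, hZ, -⟩ := tf_refl h2 hν0 he x
      rw [tf_bw, tf_bw, hT, hZ]
      exact CharTwo.add_self_eq_zero _
    · intro x hx hne heq
      have hw : tf x.1 (bw ν a c) = -(2 * ν) := by
        by_contra h
        exact hne (if_neg h)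
      simp only [hS, Finset.mem_filter, Finset.mem_univ, true_and, tf_bt] at hx
      rw [tf_bw] at hw
      have hU : tf x.1 (bu ν a c) = 0 := by
        have hu' := (tf_refl h2 hν0 he x).2.2
        rw [heq] at hu'
        have : 2 * tf x.1 (bu ν a c) = 0 := by linear_combination hu'
        exact (mul_eq_zero.1 this).resolve_left h2
      have hid := norm_identity he x
      rw [hU] at hid
      have hT : (ρ - 1) * tf x.1 (x0 ν) = 2 * ν * (ρ + 1) := by linear_combination hx - hw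
      have hZ : (ρ - 1) * tf x.1 (bz ν a c) = -(4 * ν * ρ) := by
        linear_combination (ρ - 1) * hw - hT
      have hz : 16 * ν ^ 2 * ρ * (ν - ρ) = 0 := by
        linear_combination -(ρ - 1) ^ 2 * hid -
          ν * ((ρ - 1) * tf x.1 (x0 ν) + 2 * ν * (ρ + 1)) * hT +
          ((ρ - 1) * tf x.1 (bz ν a c) - 4 * ν * ρ) * hZ
      have h16 : (16 : F) ≠ 0 := by
        rw [show (16 : F) = 2 ^ 4 by norm_num]
        exact pow_ne_zero _ h2
      simp [h16, hν0, hρ0, sub_eq_zero, Ne.symm hρν] at hz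
    · intro x hx
      obtain ⟨hT, hZ, -⟩ := tf_refl h2 hν0 he x
      simp only [hS, Finset.mem_filter, Finset.mem_univ, true_and, tf_bt] at hx ⊢
      rw [hT, hZ, hx]
    · intro x _
      refine Subtype.ext ?_
      rw [refl_val, (tf_refl h2 hν0 he x).2.2, refl_val, neg_div, neg_smul, sub_neg_eq_add, sub_add_cancel]
  rw [h1, hm, add_zero]

/-- Two commuting with a non-central element gives proportional traceless parts. -/
theorem sq_tf_eq_of_commute (h2 : (2 : F) ≠ 0) (g x w : M2)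
    (hg : ¬ (g 0 1 = 0 ∧ g 1 0 = 0 ∧ g 0 0 = g 1 1)) (hx0 : x 1 1 = -x 0 0) (hw0 : w 1 1 = -w 0 0)
    (hx : g * x = x * g) (hw : g * w = w * g) : tf x w ^ 2 = tf x x * tf w w := by
  have ex : ∀ i j, (g * x) i j = (x * g) i j := fun i j => by rw [hx]
  have ew : ∀ i j, (g * w) i j = (w * g) i j := fun i j => by rw [hw]
  have x00 := ex 0 0
  have x01 := ex 0 1
  have x10 := ex 1 0
  have w00 := ew 0 0
  have w01 := ew 0 1
  have w10 := ew 1 0
  simp only [Matrix.mul_apply, Fin.sum_univ_two, hx0, hw0] at x00 x01 x10 w00 w01 w10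
  set D := g 0 0 - g 1 1 with hD
  set k1 := x 0 1 * w 1 0 - x 1 0 * w 0 1 with hk1
  set k2 := x 0 0 * w 0 1 - x 0 1 * w 0 0 with hk2
  set k3 := x 0 0 * w 1 0 - x 1 0 * w 0 0 with hk3
  have a1 : g 0 1 * k1 = 0 := by linear_combination x 0 1 * w00 - w 0 1 * x00
  have a2 : g 1 0 * k1 = 0 := by linear_combination x 1 0 * w00 - w 1 0 * x00
  have a3 : D * k1 = 0 := by
    linear_combination w 1 0 * x01 + w 0 1 * x10 + 2 * x 0 0 * w00
  have b3 : D * k2 = 0 := by linear_combination x 0 0 * w01 - w 0 0 * x01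
  have c3 : D * k3 = 0 := by linear_combination w 0 0 * x10 - x 0 0 * w10
  have b1 : g 0 1 * (2 * k2) = 0 := by linear_combination x 0 1 * w01 - w 0 1 * x01
  have c2 : g 1 0 * (2 * k3) = 0 := by linear_combination w 1 0 * x10 - x 1 0 * w10
  have b2 : g 1 0 * (2 * k2) = 0 := by linear_combination w 0 1 * x10 - x 0 1 * w10 - a3
  have c1 : g 0 1 * (2 * k3) = 0 := by linear_combination x 1 0 * w01 - w 1 0 * x01 + a3
  have hD0 : g 0 1 = 0 → g 1 0 = 0 → D ≠ 0 := fun h h' h'' => hg ⟨h, h', sub_eq_zero.1 h''⟩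
  have key : k1 = 0 ∧ k2 = 0 ∧ k3 = 0 := by
    by_cases hb : g 0 1 = 0
    · by_cases hc : g 1 0 = 0
      · have := hD0 hb hc
        simp_all
      · simp_all
    · simp_all
  obtain ⟨e1, e2, e3⟩ := key
  simp only [tf_eq, hx0, hw0]
  linear_combination k1 * e1 - 4 * k3 * e2

theorem exists_torus_class (hp : 5 ≤ p) :
    (∃ g : SL(2, F), PSL2.tr g ^ 2 ≠ 4 ∧ IsSquare (PSL2.tr g ^ 2 - 4) ∧
      orderOf (PSL2.mk g) = (p - 1) / 2) ∧
    (∃ g : SL(2, F), PSL2.tr g ^ 2 ≠ 4 ∧ ¬ IsSquare (PSL2.tr g ^ 2 - 4) ∧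
      orderOf (PSL2.mk g) = (p + 1) / 2) := by
  have hcard : Fintype.card F = p := ZMod.card p
  have h2 : (2 : F) ≠ 0 := by
    intro h
    have h' : ((2 : ℕ) : F) = 0 := by exact_mod_cast h
    have := Nat.le_of_dvd two_pos ((ZMod.natCast_eq_zero_iff 2 p).1 h')
    omega
  have hodd : p % 2 = 1 := (Fact.out : p.Prime).eq_two_or_odd.resolve_left (by omega)
  have hgcd : Nat.gcd 2 (p - 1) = 2 := Nat.gcd_eq_left (by omega)
  have gen : ∀ g₀ : SL(2, F), PSL2.tr g₀ ^ 2 ≠ 4 → ∀ c, Nat.card (PSL2.cent g₀) = c → 4 ≤ c →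
      ∃ g : SL(2, F), PSL2.tr g ^ 2 ≠ 4 ∧ Nat.card (PSL2.cent g) = c ∧ orderOf (PSL2.mk g) = c / 2 := by
    intro g₀ h4 c hc hc4
    have := PSL2.isCyclic_map_cent h4
    obtain ⟨⟨y, hy⟩, hord⟩ := IsCyclic.exists_ofOrder_eq_natCard
      (α := (PSL2.cent g₀).map (PSL2.mk : SL(2, F) →* PSL(2, F)))
    rw [Subgroup.orderOf_mk] at hord
    obtain ⟨g, hg, rfl⟩ := hy
    have hcm := PSL2.card_map_cent g₀
    rw [hc, hcard, hgcd] at hcm
    have hn : orderOf (PSL2.mk g) = c / 2 := by rw [hord]; omega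
    have hgc : g ∉ Subgroup.center SL(2, F) := fun h => by
      have h1 : PSL2.mk g = 1 := (QuotientGroup.eq_one_iff g).2 h
      rw [h1, orderOf_one] at hn
      omega
    have hcomm : Commute g g₀ := PSL2.mem_cent.1 hg
    refine ⟨g, PSL2.tr_sq_ne_four_of_commute h4 hgc hcomm, ?_, hn⟩
    rw [PSL2.cent_eq_cent (PSL2.not_mem_center_of_tr h4) hgc hcomm, hc]
  have hiff : ∀ g : SL(2, F), PSL2.tr g ^ 2 ≠ 4 →
      (IsSquare (PSL2.tr g ^ 2 - 4) ↔ Nat.card (PSL2.cent g) ≠ p + 1) := by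
    intro g h4
    constructor
    · rintro ⟨s, hs⟩ hc
      have hne : ¬ PSL2.IsEll (PSL2.tr g) := fun he => he ((PSL2.tr g + s) / 2) (by
        field_simp
        linear_combination -hs)
      rcases PSL2.trichotomy (PSL2.not_mem_center_of_tr h4) with ⟨k, a, ha, rfl⟩ | ⟨k, s', hs', h⟩ | he
      · rw [PSL2.card_cent_conj, PSL2.cent_dd ha, PSL2.card_torus', hcard] at hc
        omega
      · refine h4 ?_
        rcases h with rfl | rfl
        · rw [PSL2.tr_conj]; simp [PSL2.tr_def]; ring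
        · rw [PSL2.tr_neg, PSL2.tr_conj]; simp [PSL2.tr_def]; ring
      · exact hne he
    · intro hc
      by_contra hns
      refine hc ?_
      have hell : PSL2.IsEll (PSL2.tr g) := fun r hr => hns ⟨2 * r - PSL2.tr g, by
        linear_combination -4 * hr⟩
      rw [hell.card_cent, hcard]
  obtain ⟨g₀, h0, hc0⟩ := PSL2.exists_torus_card_sub_one (by omega : 4 ≤ Fintype.card F)
  obtain ⟨g₁, h1, hc1⟩ := PSL2.exists_torus_card_add_one F
  rw [hcard] at hc0 hc1
  obtain ⟨g, hg4, hgc, hgo⟩ := gen g₀ h0 _ hc0 (by omega)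
  obtain ⟨g', hg4', hgc', hgo'⟩ := gen g₁ h1 _ hc1 (by omega)
  exact ⟨⟨g, hg4, (hiff g hg4).2 (by rw [hgc]; omega), hgo⟩,
    ⟨g', hg4', fun h => (hiff g' hg4').1 h hgc', hgo'⟩⟩

theorem exists_two_mul_order {ν a c ρ : F} (h2 : (2 : F) ≠ 0) (hν : ¬ IsSquare ν)
    (he : a ^ 2 - ν * c ^ 2 = ν) (hρ0 : ρ ≠ 0) (hρ1 : ρ ≠ 1) (hρν : ρ ≠ ν) {g₁ : SL(2, F)}
    (h4 : PSL2.tr g₁ ^ 2 ≠ 4) (hclass : IsSquare ((PSL2.tr g₁ ^ 2 - 4) * (ν * (ρ ^ 2 - ν)))) :
    ∃ b : Fpf.Ext PSL(2, F) (X ν) p, orderOf b = 2 * orderOf (PSL2.mk g₁) := by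
  classical
  have hν0 : ν ≠ 0 := fun h => hν (h ▸ IsSquare.zero)
  have hτ : ν * (ρ ^ 2 - ν) ≠ 0 := mul_ne_zero hν0 fun h => hν ⟨ρ, by linear_combination -h⟩
  obtain ⟨s, hs⟩ := hclass
  set t := PSL2.tr g₁ with ht
  set b := s / (2 * (ν * (ρ ^ 2 - ν))) with hb
  have hbb : 4 * b ^ 2 * (ν * (ρ ^ 2 - ν)) = t ^ 2 - 4 := by
    have hb' : 2 * (ν * (ρ ^ 2 - ν)) * b = s := by
      rw [hb, mul_div_cancel₀]
      exact mul_ne_zero h2 hτ
    refine mul_right_cancel₀ hτ ?_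
    linear_combination (2 * (ν * (ρ ^ 2 - ν)) * b + s) * hb' - hs
  set w := bt ν a c ρ with hw
  have hw0 : w 1 1 = -w 0 0 := by simp [hw, bt, x0, bz]
  have hww : w 0 0 ^ 2 + w 0 1 * w 1 0 = ν * (ρ ^ 2 - ν) := by
    simp [hw, bt, x0, bz]
    linear_combination (-ν) * he
  let g : SL(2, F) := ⟨(t / 2) • (1 : M2) + b • w, by
    rw [Matrix.det_fin_two]
    simp [hw0]
    field_simp
    linear_combination (-4 * b ^ 2) * hww - hbb⟩
  have htr : PSL2.tr g = t := by
    change ((t / 2) • (1 : M2) + b • w) 0 0 + ((t / 2) • (1 : M2) + b • w) 1 1 = t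
    simp [hw0]
    field_simp
    ring
  have hconj : IsConj g g₁ := PSL2.isConj_of_tr htr (htr ▸ h4)
  have hord : orderOf (PSL2.mk g) = orderOf (PSL2.mk g₁) := by
    obtain ⟨k, hk⟩ := isConj_iff.1 hconj
    rw [← hk, map_mul, map_mul, map_inv]
    exact ((MulAut.conj (PSL2.mk k)).orderOf_eq _).symm
  rw [← hord]
  have hgw : (g : M2) * w = w * (g : M2) := by
    change ((t / 2) • (1 : M2) + b • w) * w = w * ((t / 2) • (1 : M2) + b • w)
    simp [add_mul, mul_add]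
  have hbw0 : bw ν a c 1 1 = -bw ν a c 0 0 := by simp [bw, x0, bz]
  refine Fpf.exists_orderOf_two_mul rfl (orderOf_pos _) (ind_mem h2 hν _ hbw0 (tf_bw_self he))
    (Finset.univ.filter (fun x : X ν => tf x.1 (bt ν a c ρ) = 2 * ν * ρ)) ?_ ?_
    (by rw [weight h2 hν he hρ0 hρ1 hρν]; exact one_ne_zero)
  · intro x hx
    simp only [Finset.mem_filter, Finset.mem_univ, true_and] at hx ⊢
    rw [← hx]
    simp only [tf, mk_smul, ← hw]
    rw [mul_assoc, Matrix.trace_mul_cycle, mul_assoc]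
    have hgiw : ((g⁻¹ : SL(2, F)) : M2) * w = w * ((g⁻¹ : SL(2, F)) : M2) := by
      have h1 : ((g⁻¹ : SL(2, F)) : M2) * (g : M2) = 1 := by
        rw [← Matrix.SpecialLinearGroup.coe_mul, inv_mul_cancel, Matrix.SpecialLinearGroup.coe_one]
      have h2 : (g : M2) * ((g⁻¹ : SL(2, F)) : M2) = 1 := by
        rw [← Matrix.SpecialLinearGroup.coe_mul, mul_inv_cancel, Matrix.SpecialLinearGroup.coe_one]
      calc ((g⁻¹ : SL(2, F)) : M2) * w = ((g⁻¹ : SL(2, F)) : M2) * (w * (g : M2)) * ((g⁻¹ : SL(2, F)) : M2) := by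
            rw [mul_assoc, mul_assoc, h2, mul_one]
        _ = w * ((g⁻¹ : SL(2, F)) : M2) := by rw [← hgw, ← mul_assoc, h1, one_mul]
    rw [show ((g⁻¹ : SL(2, F)) : M2) * w * ((g : M2) * x.1) = w * x.1 by
      rw [hgiw, mul_assoc, ← mul_assoc ((g⁻¹ : SL(2, F)) : M2), ← Matrix.SpecialLinearGroup.coe_mul,
        inv_mul_cancel, Matrix.SpecialLinearGroup.coe_one, one_mul]]
    rw [Matrix.trace_mul_comm]
  · intro x hx i hi him hfix
    simp only [Finset.mem_filter, Finset.mem_univ, true_and] at hx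
    have hne : PSL2.mk (g ^ i) ≠ 1 := by
      rw [map_pow]
      intro h
      have := Nat.le_of_dvd hi (orderOf_dvd_of_pow_eq_one h)
      omega
    have hgx : ((g ^ i : SL(2, F)) : M2) * x.1 = x.1 * ((g ^ i : SL(2, F)) : M2) := by
      have h := congrArg Subtype.val hfix
      rw [← map_pow, mk_smul] at h
      conv_rhs => rw [← h, mul_assoc, ← Matrix.SpecialLinearGroup.coe_mul, inv_mul_cancel,
        Matrix.SpecialLinearGroup.coe_one, mul_one]
    have hgiw : ((g ^ i : SL(2, F)) : M2) * w = w * ((g ^ i : SL(2, F)) : M2) := by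
      rw [Matrix.SpecialLinearGroup.coe_pow]
      exact (Commute.pow_left hgw i).eq
    have hsc : ¬ (((g ^ i : SL(2, F)) : M2) 0 1 = 0 ∧ ((g ^ i : SL(2, F)) : M2) 1 0 = 0 ∧
        ((g ^ i : SL(2, F)) : M2) 0 0 = ((g ^ i : SL(2, F)) : M2) 1 1) := fun hsc => by
      have hcen : g ^ i ∈ Subgroup.center SL(2, F) := PSL2.mem_center_iff_entries.2 hsc
      exact hne ((QuotientGroup.eq_one_iff _).2 hcen)
    have h := sq_tf_eq_of_commute h2 _ x.1 w hsc x.2.1 hw0 hgx hgiw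
    rw [hw, tf_bt_self he, hx] at h
    have hxx : tf x.1 x.1 = 2 * ν := by
      rw [tf_eq, x.2.1]
      linear_combination 2 * x.2.2
    rw [hxx] at h
    have : 2 ^ 2 * ν ^ 3 = 0 := by linear_combination h
    exact hν0 (pow_eq_zero_iff three_ne_zero |>.1 ((mul_eq_zero.1 this).resolve_left (pow_ne_zero _ h2)))

/-- A non-square `ν ≠ -1` for `p ≥ 5`. -/
theorem exists_nu (hp : 5 ≤ p) : ∃ ν : F, ¬ IsSquare ν ∧ ν ≠ -1 := by
  have hne2 : (2 : F) ≠ 0 := fun h => by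
    have h' : ((2 : ℕ) : F) = 0 := by exact_mod_cast h
    have := Nat.le_of_dvd two_pos ((ZMod.natCast_eq_zero_iff 2 p).1 h')
    omega
  have hne3 : (3 : F) ≠ 0 := fun h => by
    have h' : ((3 : ℕ) : F) = 0 := by exact_mod_cast h
    have := Nat.le_of_dvd three_pos ((ZMod.natCast_eq_zero_iff 3 p).1 h')
    omega
  by_cases hs : IsSquare (-1 : F)
  · obtain ⟨ν, hν⟩ := FiniteField.exists_nonsquare (show ringChar F ≠ 2 by rw [ringChar.eq F p]; omega)
    exact ⟨ν, hν, fun h => hν (h ▸ hs)⟩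
  · refine ⟨-4, ?_, fun h => hne3 (by linear_combination -h)⟩
    rintro ⟨r, hr⟩
    exact hs ⟨r / 2, by field_simp; linear_combination hr⟩

/-- For `p ≥ 5` a group with a non-trivial kernel onto `PSL₂(p)` in which every element over a
non-trivial `g` satisfies the spectrum of `PGL₂(p)`, realising `p`, `p - 1` and `p + 1`. -/
theorem exists_ext (hp : 5 ≤ p) :
    ∃ ν : F, (∃ b : Fpf.Ext PSL(2, F) (X ν) p, b ≠ 1 ∧ Fpf.proj b = 1) ∧
      (∀ u : PSL(2, F), ∃ k ∈ ({2, p, p - 1, p + 1} : Finset ℕ),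
        ∀ b : Fpf.Ext PSL(2, F) (X ν) p, Fpf.proj b = u → b ^ k = 1) ∧
      (∀ k ∈ ({p, p - 1, p + 1} : Finset ℕ), ∃ b : Fpf.Ext PSL(2, F) (X ν) p, orderOf b = k) := by
  classical
  obtain ⟨ν, hν, hν1⟩ := exists_nu hp
  refine ⟨ν, ?_⟩
  have hν0 : ν ≠ 0 := fun h => hν (h ▸ IsSquare.zero)
  have h2 : (2 : F) ≠ 0 := fun h => by
    have h' : ((2 : ℕ) : F) = 0 := by exact_mod_cast h
    have := Nat.le_of_dvd two_pos ((ZMod.natCast_eq_zero_iff 2 p).1 h')
    omega
  have hodd : p % 2 = 1 := (Fact.out : p.Prime).eq_two_or_odd.resolve_left (by omega)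
  have hcard : Fintype.card F = p := ZMod.card p
  obtain ⟨a, c, hac⟩ := FiniteField.exists_root_sum_quadratic (R := F)
    (f := Polynomial.X ^ 2) (g := Polynomial.C (-ν) * Polynomial.X ^ 2 + Polynomial.C (-ν))
    (Polynomial.degree_X_pow 2) (by
      have hd : (Polynomial.C (-ν) * Polynomial.X ^ 2).degree = 2 := by
        rw [Polynomial.degree_C_mul (neg_ne_zero.2 hν0), Polynomial.degree_X_pow]; rfl
      rw [Polynomial.degree_add_C (by rw [hd]; norm_num), hd]) (by rw [hcard]; omega)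
  simp only [Polynomial.eval_add, Polynomial.eval_mul, Polynomial.eval_pow, Polynomial.eval_C,
    Polynomial.eval_X] at hac
  have he : a ^ 2 - ν * c ^ 2 = ν := by linear_combination hac
  have good : ∀ τ : F, ¬ IsSquare τ ∨ IsSquare τ → ∀ r, r ^ 2 - ν = τ → r ≠ 0 →
      ∃ ρ, ρ ^ 2 - ν = τ ∧ ρ ≠ 0 ∧ ρ ≠ 1 ∧ ρ ≠ ν := by
    intro τ _ r hr hr0
    by_cases h1 : r = 1 ∨ r = ν
    · refine ⟨-r, by rw [neg_sq]; exact hr, neg_ne_zero.2 hr0, ?_, ?_⟩
      · rcases h1 with rfl | rfl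
        · exact fun h => h2 (by linear_combination -h)
        · exact fun h => hν1 (by linear_combination -h)
      · rcases h1 with rfl | rfl
        · exact fun h => hν1 h.symm
        · exact fun h => hν0 (by
            have : 2 * r = 0 := by linear_combination -h
            exact (mul_eq_zero.1 this).resolve_left h2)
    · rw [not_or] at h1
      exact ⟨r, hr, hr0, h1.1, h1.2⟩
  -- `ρ² - ν` a square
  obtain ⟨ρ₁, hρ₁, k10, k11, k1ν⟩ := good (((1 - ν) / 2) ^ 2) (Or.inr (IsSquare.sq _)) ((1 + ν) / 2)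
    (by field_simp; ring)
    (div_ne_zero (fun h => hν1 (by linear_combination h)) h2)
  -- `ρ² - ν` a non-square
  have hc0 : c ≠ 0 := fun h => hν ⟨a, by rw [h] at he; linear_combination -he⟩
  obtain ⟨a', c', he', hc', ha'⟩ : ∃ a' c' : F, a' ^ 2 - ν * c' ^ 2 = ν ∧ c' ≠ 0 ∧ a' ≠ 0 := by
    by_cases ha : a = 0
    · have h1ν : (1 : F) - ν ≠ 0 := fun h => hν ⟨1, by linear_combination -h⟩
      refine ⟨ν * c * (2 / (1 - ν)), c * ((1 + ν) / (1 - ν)), ?_, ?_, ?_⟩
      · subst ha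
        have hc2 : c ^ 2 + 1 = 0 := mul_left_cancel₀ hν0 (by linear_combination -he)
        field_simp
        linear_combination -(1 - ν) ^ 2 * hc2
      · exact mul_ne_zero hc0 (div_ne_zero (fun h => hν1 (by linear_combination h)) h1ν)
      · exact mul_ne_zero (mul_ne_zero hν0 hc0) (div_ne_zero h2 h1ν)
    · exact ⟨a, c, he, hc0, ha⟩
  obtain ⟨ρ₂, hρ₂, k20, k21, k2ν⟩ := good (ν / c' ^ 2) (em _).symm (a' / c')
    (by field_simp; linear_combination he') (div_ne_zero ha' hc')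
  have hw0 : bw ν a c 1 1 = -bw ν a c 0 0 := by simp [bw, x0, bz]
  refine ⟨Fpf.exists_ne_one_proj_eq_one (ind_mem h2 hν _ hw0 (tf_bw_self he)) ?_, ?_, ?_⟩
  · intro h
    have hw := weight h2 hν he k10 k11 k1ν
    simp [h] at hw
  · intro u
    obtain ⟨g, rfl⟩ := PSL2.mk_surjective u
    by_cases h1 : PSL2.mk g = 1
    · refine ⟨2, by simp, fun b hb => ?_⟩
      simpa using Fpf.pow_two_mul_eq_one (m := 1) (b := b) (by
        rw [pow_one, show b.right = Fpf.proj b from rfl, hb, h1])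
    have half : ∀ n, orderOf g ∣ 2 * n → PSL2.mk g ^ n = 1 := by
      intro n hn
      rw [← map_pow, PSL2.mk_eq_one]
      exact PSL2.eq_pm_of_mul_self_eq_one h2
        (by rw [← sq, ← pow_mul, mul_comm n 2]; exact orderOf_dvd_iff_pow_eq_one.1 hn)
    rcases PSL2.orderOf_dvd p g with h | h | h
    · refine ⟨p - 1, by simp, fun b hb => ?_⟩
      rw [show p - 1 = 2 * ((p - 1) / 2) by omega]
      refine Fpf.pow_two_mul_eq_one ?_
      rw [show b.right = Fpf.proj b from rfl, hb]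
      exact half _ (by rw [show 2 * ((p - 1) / 2) = Fintype.card F - 1 by rw [hcard]; omega]; exact h)
    · refine ⟨p + 1, by simp, fun b hb => ?_⟩
      rw [show p + 1 = 2 * ((p + 1) / 2) by omega]
      refine Fpf.pow_two_mul_eq_one ?_
      rw [show b.right = Fpf.proj b from rfl, hb]
      exact half _ (by rw [show 2 * ((p + 1) / 2) = Fintype.card F + 1 by rw [hcard]; omega]; exact h)
    · refine ⟨p, by simp, fun b hb => Fpf.pow_prime_eq_one ?_ ?_⟩
      · rw [show b.right = Fpf.proj b from rfl, hb]; exact half _ h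
      · rw [show b.right = Fpf.proj b from rfl, hb]; exact h1
  · obtain ⟨⟨g, hg4, hgs, hgo⟩, ⟨g', hg4', hgs', hgo'⟩⟩ := exists_torus_class (p := p) hp
    have hchi : ∀ x y : F, ¬ IsSquare x → ¬ IsSquare y → IsSquare (x * y) := fun x y hx hy => by
      have hx0 : x ≠ 0 := fun h => hx (h ▸ IsSquare.zero)
      have hy0 : y ≠ 0 := fun h => hy (h ▸ IsSquare.zero)
      rw [← quadraticChar_one_iff_isSquare (mul_ne_zero hx0 hy0), map_mul,
        quadraticChar_neg_one_iff_not_isSquare.2 hx, quadraticChar_neg_one_iff_not_isSquare.2 hy]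
      norm_num
    intro k hk
    simp only [Finset.mem_insert, Finset.mem_singleton] at hk
    rcases hk with hk | hk | hk <;> rw [hk]
    · refine ⟨SemidirectProduct.inr (PSL2.mk (PSL2.uu 1)), ?_⟩
      rw [orderOf_injective _ SemidirectProduct.inr_injective]
      refine orderOf_eq_prime ?_ ?_
      · rw [← map_pow, PSL2.uu_pow, CharP.cast_eq_zero F p, zero_mul, PSL2.uu_zero, map_one]
      · intro h
        rcases PSL2.mk_eq_one.1 h with h | h
        · exact one_ne_zero (PSL2.uu_injective (h.trans PSL2.uu_zero.symm))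
        · have := congrArg (fun m : SL(2, F) => (m : M2) 0 1) h
          simp [PSL2.uu] at this
    · -- split torus: `ρ² - ν` a non-square
      obtain ⟨b, hb⟩ := exists_two_mul_order h2 hν he k20 k21 k2ν hg4 (by
        rw [hρ₂]
        exact hgs.mul ⟨ν / c', by field_simp⟩)
      exact ⟨b, by rw [hb, hgo]; omega⟩
    · obtain ⟨b, hb⟩ := exists_two_mul_order h2 hν he k10 k11 k1ν hg4' (hchi _ _ hgs' (by
        rw [hρ₁]
        rintro ⟨r, hr⟩
        refine hν ⟨r / ((1 - ν) / 2), ?_⟩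
        have h1ν : (1 : F) - ν ≠ 0 := fun h => hν ⟨1, by linear_combination -h⟩
        field_simp
        field_simp at hr
        linear_combination hr))
      exact ⟨b, by rw [hb, hgo']; omega⟩

end Cfsg.Agent.Spectrum.Cone
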