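import Mathlib

/-!
A finite metabelian group whose element orders are exactly the divisors of `m` and of `n`,
for coprime `m > 1` and `n`: `(ℤ/m)[X]/Φₙ` extended by multiplication with the class of `X`.
-/

set_option autoImplicit false
set_option linter.style.haveILetI false

namespace Cfsg.Agent.Spectrum

open Polynomial in
/-- The powers of the class of `X` in `(ℤ/m)[X]/Φₙ` other than `1` differ from `1` by units. -/
theorem isUnit_root_pow_sub_one {m n : ℕ} [NeZero n] (hmn : n.Coprime m) {j : ℕ} (hj : ¬ n ∣ j) :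
    IsUnit ((AdjoinRoot.root (cyclotomic n (ZMod m))) ^ j - 1) := by
  have hn : 0 < n := Nat.pos_of_ne_zero (NeZero.ne n)
  set z := AdjoinRoot.root (cyclotomic n (ZMod m))
  have hz0 : Polynomial.eval₂ (Int.castRingHom _) z (cyclotomic n ℤ) = 0 := by
    have h : Polynomial.eval₂RingHom (Int.castRingHom (AdjoinRoot (cyclotomic n (ZMod m)))) z =
        (AdjoinRoot.mk (cyclotomic n (ZMod m))).comp (Polynomial.mapRingHom (Int.castRingHom (ZMod m))) :=
      Polynomial.ringHom_ext (fun a => by simp) (by simp [z])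
    have h2 := RingHom.congr_fun h (cyclotomic n ℤ)
    rw [RingHom.comp_apply, Polynomial.coe_mapRingHom, map_cyclotomic_int, AdjoinRoot.mk_self] at h2
    exact h2
  set d := n.gcd j with hd
  obtain ⟨e, he⟩ : d ∣ n := Nat.gcd_dvd_left n j
  have hd0 : 0 < d := Nat.gcd_pos_of_pos_left _ hn
  have hdn : d ∈ n.properDivisors := Nat.mem_properDivisors.mpr ⟨Nat.gcd_dvd_left n j,
    lt_of_le_of_ne (Nat.le_of_dvd hn (Nat.gcd_dvd_left n j)) fun h => hj (h ▸ Nat.gcd_dvd_right n j)⟩
  have hdvd : cyclotomic n ℤ ∣ ∑ i ∈ Finset.range e, ((X : ℤ[X]) ^ d) ^ i := by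
    have h := X_pow_sub_one_mul_cyclotomic_dvd_X_pow_sub_one_of_dvd ℤ hdn
    rw [he, pow_mul (X : ℤ[X]) d e, ← geom_sum_mul ((X : ℤ[X]) ^ d) e, mul_comm _ ((X : ℤ[X]) ^ d - 1),
      ← he] at h
    exact (mul_dvd_mul_iff_left (X_pow_sub_C_ne_zero hd0 (1 : ℤ) |> (by simpa using ·))).mp h
  have hsum : ∑ i ∈ Finset.range e, (z ^ d) ^ i = 0 := by
    obtain ⟨c, hc⟩ := hdvd
    have := congrArg (Polynomial.eval₂ (Int.castRingHom _) z) hc
    simpa [Polynomial.eval₂_finsetSum, Polynomial.eval₂_pow, hz0] using this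
  have hde : z ^ d - 1 ∣ (e : AdjoinRoot (cyclotomic n (ZMod m))) := by
    have : z ^ d - 1 ∣ ∑ i ∈ Finset.range e, ((z ^ d) ^ i - 1) :=
      Finset.dvd_sum fun i _ => sub_one_dvd_pow_sub_one _ i
    rw [Finset.sum_sub_distrib, hsum] at this
    simpa using this
  have hzn : z ^ n = 1 := by
    obtain ⟨c, hc⟩ := cyclotomic.dvd_X_pow_sub_one n ℤ
    have := congrArg (Polynomial.eval₂ (Int.castRingHom _) z) hc
    simpa [hz0, sub_eq_zero] using this
  -- `z ^ d` is a power of `z ^ j`
  obtain ⟨a, ha⟩ : ∃ a : ℕ, z ^ d = (z ^ j) ^ a := by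
    set u : (AdjoinRoot (cyclotomic n (ZMod m)))ˣ := Units.ofPowEqOne z n hzn hn.ne'
    have hu : u ^ d ∈ Subgroup.zpowers (u ^ j) := by
      refine ⟨Nat.gcdB n j, ?_⟩
      show (u ^ j) ^ Nat.gcdB n j = u ^ d
      rw [← zpow_natCast u d, hd, Nat.gcd_eq_gcd_ab, zpow_add, zpow_mul, zpow_natCast,
        Units.pow_ofPowEqOne, one_zpow, one_mul, zpow_mul, zpow_natCast]
    have hfin : IsOfFinOrder (u ^ j) := (isOfFinOrder_iff_pow_eq_one.mpr
      ⟨n, hn, Units.pow_ofPowEqOne hzn hn.ne'⟩).pow
    obtain ⟨a, ha⟩ := hfin.mem_powers_iff_mem_zpowers.mpr hu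
    exact ⟨a, by simpa [u] using (congrArg Units.val ha).symm⟩
  refine isUnit_of_dvd_unit ((sub_one_dvd_pow_sub_one (z ^ j) a).trans (ha ▸ hde)) ?_
  have : IsUnit (e : ZMod m) := (ZMod.isUnit_iff_coprime e m).mpr
    (hmn.coprime_dvd_left ⟨d, by rw [he, mul_comm]⟩)
  simpa using this.map (algebraMap (ZMod m) (AdjoinRoot (cyclotomic n (ZMod m))))

open Polynomial in
/-- A finite solvable group whose element orders are the divisors of `m` and the divisors of `n`. -/
theorem exists_two_divisor_sets {m n : ℕ} (hm : 1 < m) (hn : 0 < n) (hmn : n.Coprime m) :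
    ∃ (K : Type) (_ : Group K) (_ : Finite K), Group.IsSolvable K ∧
      Set.range (orderOf : K → ℕ) = {k | k ∣ m ∨ k ∣ n} := by
  haveI : NeZero n := ⟨hn.ne'⟩
  haveI : NeZero m := ⟨by omega⟩
  haveI : Fact (1 < m) := ⟨hm⟩
  let f := cyclotomic n (ZMod m)
  have hmon : f.Monic := cyclotomic.monic n (ZMod m)
  haveI : Module.Finite (ZMod m) (AdjoinRoot f) := (AdjoinRoot.powerBasis' hmon).finite
  haveI : Finite (AdjoinRoot f) := Module.finite_of_finite (ZMod m)
  have hinj : ∀ k : ℕ, (k : AdjoinRoot f) = 0 → m ∣ k := by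
    intro k hk
    rw [← map_natCast (AdjoinRoot.mk f), AdjoinRoot.mk_eq_zero] at hk
    by_contra hne
    refine hmon.not_dvd_of_degree_lt ?_ ?_ hk
    · rw [← C_eq_natCast]
      exact C_ne_zero.mpr fun h => hne ((ZMod.natCast_eq_zero_iff k m).mp h)
    · rw [← C_eq_natCast]
      refine degree_C_le.trans_lt ?_
      rw [degree_cyclotomic]
      exact_mod_cast Nat.totient_pos.mpr hn
  haveI : Nontrivial (AdjoinRoot f) := ⟨⟨1, 0, fun h => by
    have := Nat.le_of_dvd one_pos (hinj 1 (by simpa using h))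
    omega⟩⟩
  have hzn : AdjoinRoot.root f ^ n = 1 := by
    obtain ⟨c, hc⟩ := cyclotomic.dvd_X_pow_sub_one n (ZMod m)
    have := congrArg (AdjoinRoot.mk f) hc
    simpa [f, sub_eq_zero] using this
  set u : (AdjoinRoot f)ˣ := Units.ofPowEqOne (AdjoinRoot.root f) n hzn hn.ne'
  have hu : orderOf u = n := by
    refine (orderOf_eq_iff hn).mpr ⟨Units.pow_ofPowEqOne hzn hn.ne', fun j hj hj0 h => ?_⟩
    have h1 := isUnit_root_pow_sub_one hmn (j := j) (Nat.not_dvd_of_pos_of_lt hj0 hj)
    rw [show AdjoinRoot.root f ^ j = 1 by simpa [u] using congrArg Units.val h, sub_self] at h1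
    exact not_isUnit_zero h1
  let ψ : (AdjoinRoot f)ˣ →* MulAut (Multiplicative (AdjoinRoot f)) :=
    { toFun := fun v => AddEquiv.toMultiplicative (DistribMulAction.toAddAut _ (AdjoinRoot f) v)
      map_one' := MulEquiv.ext fun x => Multiplicative.toAdd.injective (by simp)
      map_mul' := fun v w => MulEquiv.ext fun x => Multiplicative.toAdd.injective (by simp [mul_smul]) }
  let φ : Subgroup.zpowers u →* MulAut (Multiplicative (AdjoinRoot f)) :=
    ψ.comp (Subgroup.zpowers u).subtype
  refine ⟨Multiplicative (AdjoinRoot f) ⋊[φ] Subgroup.zpowers u, inferInstance,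
    Finite.of_equiv _ SemidirectProduct.equivProd.symm, ?_, ?_⟩
  · exact Group.isSolvable_of_ker_le_range (SemidirectProduct.inl (φ := φ)) SemidirectProduct.rightHom
      SemidirectProduct.range_inl_eq_ker_rightHom.ge
  · ext k
    constructor
    · rintro ⟨g, rfl⟩
      by_cases hg : g.right = 1
      · left
        have hgl : g = SemidirectProduct.inl g.left := by ext <;> simp [hg]
        apply orderOf_dvd_of_pow_eq_one
        rw [hgl, ← map_pow]
        refine (map_eq_one_iff _ SemidirectProduct.inl_injective).mpr (Multiplicative.toAdd.injective ?_)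
        rw [toAdd_pow, nsmul_eq_mul, toAdd_one, ← map_natCast (algebraMap (ZMod m) (AdjoinRoot f)),
          ZMod.natCast_self, map_zero, zero_mul]
      · right
        apply orderOf_dvd_of_pow_eq_one
        set c : AdjoinRoot f := ((g.right : (AdjoinRoot f)ˣ) : AdjoinRoot f) with hc
        have hpow : ∀ i : ℕ, Multiplicative.toAdd (g ^ i).left =
            (∑ t ∈ Finset.range i, c ^ t) * Multiplicative.toAdd g.left ∧ (g ^ i).right = g.right ^ i := by
          intro i
          induction i with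
          | zero => simp
          | succ i ih =>
            refine ⟨?_, by rw [pow_succ, SemidirectProduct.mul_right, ih.2, pow_succ]⟩
            rw [pow_succ, SemidirectProduct.mul_left, toAdd_mul, ih.1, ih.2, Finset.sum_range_succ,
              add_mul, hc]
            show _ + (((g.right ^ i : Subgroup.zpowers u) : (AdjoinRoot f)ˣ) • (Multiplicative.toAdd g.left : AdjoinRoot f)) = _
            rw [Subgroup.coe_pow, Units.smul_def, smul_eq_mul, Units.val_pow_eq_pow_val]
        obtain ⟨i, hi⟩ : ∃ i : ℕ, u ^ i = (g.right : (AdjoinRoot f)ˣ) :=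
          (orderOf_pos_iff.mp (hu ▸ hn)).mem_powers_iff_mem_zpowers.mpr g.right.2
        have hunit : IsUnit (c - 1) := by
          rw [hc, ← hi, Units.val_pow_eq_pow_val]
          refine isUnit_root_pow_sub_one hmn fun hni => hg (Subtype.ext ?_)
          rw [← hi, Subgroup.coe_one]
          exact orderOf_dvd_iff_pow_eq_one.mp (hu ▸ hni)
        have hgn : g.right ^ n = 1 := Subtype.ext (by
          rw [Subgroup.coe_pow, ← hi, ← pow_mul, mul_comm, pow_mul, Subgroup.coe_one,
            show u ^ n = 1 from hu ▸ pow_orderOf_eq_one u, one_pow])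
        have hcn : c ^ n = 1 := by
          rw [hc, ← Units.val_pow_eq_pow_val, ← Subgroup.coe_pow, hgn]; rfl
        have hsum : ∑ t ∈ Finset.range n, c ^ t = 0 := by
          apply hunit.mul_left_cancel
          rw [mul_zero, mul_geom_sum, hcn, sub_self]
        refine SemidirectProduct.ext (Multiplicative.toAdd.injective ?_) ?_
        · rw [(hpow n).1, hsum, zero_mul]; rfl
        · rw [(hpow n).2, hgn]; rfl
    · rintro (hk | hk)
      · obtain ⟨j, rfl⟩ := hk
        refine ⟨(SemidirectProduct.inl (Multiplicative.ofAdd (1 : AdjoinRoot f))) ^ j, ?_⟩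
        have hord : orderOf (SemidirectProduct.inl (φ := φ) (Multiplicative.ofAdd (1 : AdjoinRoot f))) = k * j := by
          rw [orderOf_injective _ SemidirectProduct.inl_injective, orderOf_ofAdd_eq_addOrderOf]
          refine Nat.dvd_antisymm (addOrderOf_dvd_iff_nsmul_eq_zero.mpr ?_) (hinj _ ?_)
          · rw [nsmul_one, ← map_natCast (algebraMap (ZMod (k * j)) (AdjoinRoot f)), ZMod.natCast_self,
              map_zero]
          · rw [← nsmul_one]
            exact addOrderOf_nsmul_eq_zero 1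
        have hj0 : j ≠ 0 := by rintro rfl; simp at hm
        rw [orderOf_pow' _ hj0, hord, Nat.gcd_mul_left_left, Nat.mul_div_cancel _ (Nat.pos_of_ne_zero hj0)]
      · obtain ⟨j, rfl⟩ := hk
        refine ⟨(SemidirectProduct.inr (⟨u, Subgroup.mem_zpowers u⟩ : Subgroup.zpowers u)) ^ j, ?_⟩
        have hj0 : j ≠ 0 := by rintro rfl; simp at hn
        rw [orderOf_pow' _ hj0, orderOf_injective _ SemidirectProduct.inr_injective, Subgroup.orderOf_mk,
          hu, Nat.gcd_mul_left_left, Nat.mul_div_cancel _ (Nat.pos_of_ne_zero hj0)]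

end Cfsg.Agent.Spectrum
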