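import Cfsg.Agent.Lib.A8Sub.Tools
import Cfsg.Agent.Lib.PrimeGraph.Module

/-!
Arbitrarily large groups `V^k ⋊ A₈` with element orders `1,…,8,10,12,15`, where `V` is the
6-dimensional module of `A₈` over `GF(2)`.
-/

set_option autoImplicit false

namespace Cfsg.Agent.Spectrum.EightModule

open Cfsg.Agent.PrimeGraph

/-- The function of pairs attached to a function of points. -/
def pairFun (v : Fin 8 → ZMod 2) : Fin 8 × Fin 8 → ZMod 2 := fun p => v p.1 + v p.2

/-- The six-dimensional module: pair functions of even vectors. -/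
def V8 : AddSubgroup (Fin 8 × Fin 8 → ZMod 2) where
  carrier := {f | ∃ v, (∑ i, v i) = 0 ∧ f = pairFun v}
  zero_mem' := ⟨0, by simp, funext fun _ => by simp [pairFun]⟩
  add_mem' := by
    rintro f g ⟨v, hv, rfl⟩ ⟨w, hw, rfl⟩
    exact ⟨v + w, by simp [Finset.sum_add_distrib, hv, hw],
      funext fun _ => by simp [pairFun]; ring⟩
  neg_mem' := by
    rintro f ⟨v, hv, rfl⟩
    exact ⟨-v, by simp [Finset.sum_neg_distrib, hv], funext fun _ => by simp [pairFun]; ring⟩

/-- The action of the symmetric group. -/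
instance actV8 : DistribMulAction (Equiv.Perm (Fin 8)) V8 where
  smul σ f := ⟨fun p => (f : Fin 8 × Fin 8 → ZMod 2) (σ⁻¹ p.1, σ⁻¹ p.2), by
    obtain ⟨v, hv, he⟩ := f.2
    exact ⟨fun i => v (σ⁻¹ i), by rw [Equiv.sum_comp σ⁻¹ v, hv],
      funext fun p => by rw [he]; rfl⟩⟩
  one_smul f := Subtype.ext (funext fun p => rfl)
  mul_smul σ τ f := Subtype.ext (funext fun p => rfl)
  smul_zero σ := Subtype.ext (funext fun p => rfl)
  smul_add σ f g := Subtype.ext (funext fun p => rfl)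

instance actAlt : DistribMulAction (alternatingGroup (Fin 8)) V8 :=
  DistribMulAction.compHom _ (alternatingGroup (Fin 8)).subtype

theorem coe_smul (σ : Equiv.Perm (Fin 8)) (f : V8) (p : Fin 8 × Fin 8) :
    ((σ • f : V8) : Fin 8 × Fin 8 → ZMod 2) p =
      (f : Fin 8 × Fin 8 → ZMod 2) (σ⁻¹ p.1, σ⁻¹ p.2) := rfl

theorem alt_smul (g : alternatingGroup (Fin 8)) (f : V8) :
    g • f = (g : Equiv.Perm (Fin 8)) • f := rfl

theorem two_nsmul_eq (f : V8) : 2 • f = 0 :=
  Subtype.ext (funext fun p => by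
    rw [AddSubmonoidClass.coe_nsmul, Pi.smul_apply, nsmul_eq_mul,
      show ((2 : ℕ) : ZMod 2) = 0 from rfl, zero_mul]; rfl)

/-- A permutation of order 7. -/
def rep7 : Equiv.Perm (Fin 8) := c[0, 1, 2, 3, 4, 5, 6]

/-- A permutation of order 15. -/
def rep15 : Equiv.Perm (Fin 8) := c[0, 1, 2, 3, 4] * c[5, 6, 7]

/-- The function with the given code. -/
def bitsV (n : Fin 256) : Fin 8 → ZMod 2 := fun i => if (n : ℕ).testBit i then 1 else 0

theorem bitsV_surj (v : Fin 8 → ZMod 2) : ∃ n, bitsV n = v := by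
  have hinj : Function.Injective bitsV := by
    intro a b h
    refine Fin.ext (Nat.eq_of_testBit_eq fun i => ?_)
    rcases Nat.lt_or_ge i 8 with hi | hi
    · have := congrFun h ⟨i, hi⟩
      revert this
      simp only [bitsV]
      cases (a : ℕ).testBit i <;> cases (b : ℕ).testBit i <;> simp
    · have hle : ∀ n : Fin 256, (n : ℕ).testBit i = false := fun n =>
        Nat.testBit_eq_false_of_lt (lt_of_lt_of_le (show (n : ℕ) < 2 ^ 8 from n.2)
          (Nat.pow_le_pow_right Nat.two_pos hi))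
      rw [hle a, hle b]
  exact ((Fintype.bijective_iff_injective_and_card bitsV).2 ⟨hinj, by simp⟩).2 v

theorem check_seven : ∀ n : Fin 256, (∀ i, bitsV n (rep7 i) + bitsV n (rep7 0) =
    bitsV n i + bitsV n 0) → (∑ i, bitsV n i) = 0 → ∀ i, bitsV n i = bitsV n 0 := by
  decide +kernel

theorem check_fifteen : ∀ n : Fin 256, (∀ i, bitsV n (rep15 i) + bitsV n (rep15 0) =
    bitsV n i + bitsV n 0) → (∑ i, bitsV n i) = 0 → ∀ i, bitsV n i = bitsV n 0 := by
  decide +kernel

theorem check_code (n : Fin 256) : ∀ r ∈ [rep7, rep15],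
    (∑ i, bitsV n i) = 0 → (∀ i, bitsV n (r i) + bitsV n (r 0) = bitsV n i + bitsV n 0) →
      ∀ i, bitsV n i = bitsV n 0 := by
  intro r hr hs h
  simp only [List.mem_cons, List.not_mem_nil, or_false] at hr
  rcases hr with rfl | rfl
  · exact check_seven n h hs
  · exact check_fifteen n h hs

theorem check_fpf (r : Equiv.Perm (Fin 8)) (hr : r ∈ [rep7, rep15]) (v : Fin 8 → ZMod 2)
    (hv : (∑ i, v i) = 0) (h : ∀ i j, v (r i) + v (r j) = v i + v j) (i j : Fin 8) :
    v i + v j = 0 := by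
  obtain ⟨n, rfl⟩ := bitsV_surj v
  have hc := check_code n r hr hv (fun i => h i 0)
  rw [hc i, hc j]
  exact CharTwo.add_self_eq_zero _

theorem fixed_eq_zero_of_mem {r : Equiv.Perm (Fin 8)} (hr : r ∈ [rep7, rep15]) (f : V8)
    (h : r • f = f) : f = 0 := by
  obtain ⟨v, hv, he⟩ := f.2
  refine Subtype.ext (funext fun p => ?_)
  rw [he]
  refine check_fpf r hr v hv (fun i j => ?_) p.1 p.2
  have := congrFun (congrArg Subtype.val h) (r i, r j)
  rw [coe_smul, he] at this
  simpa [pairFun] using this.symm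

theorem cycleType_cases : ∀ σ : Equiv.Perm (Fin 8), orderOf σ = 7 ∨ orderOf σ = 15 →
    σ.cycleType = rep7.cycleType ∨ σ.cycleType = rep15.cycleType := by
  intro σ h
  have hl := σ.lcm_cycleType
  have hs : σ.cycleType.sum ≤ 8 := by
    rw [Equiv.Perm.sum_cycleType]
    exact le_trans (Finset.card_le_univ _) (le_of_eq (Fintype.card_fin 8))
  have h7 : rep7.cycleType = {7} := by decide +kernel
  have h15 : rep15.cycleType = {5, 3} := by decide +kernel
  rw [h7, h15]
  have h2 : ∀ x ∈ σ.cycleType, 2 ≤ x := fun x hx => σ.two_le_of_mem_cycleType hx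
  rcases h with h | h <;> rw [h] at hl
  · left
    have hall : ∀ x ∈ σ.cycleType, x = 7 := fun x hx =>
      ((Nat.dvd_prime (by norm_num)).1 (hl ▸ Multiset.dvd_lcm hx)).resolve_left
        (by have := h2 x hx; omega)
    rw [Multiset.eq_replicate_card.2 hall] at hl hs ⊢
    rw [Multiset.sum_replicate, smul_eq_mul] at hs
    rcases hc : σ.cycleType.card with _ | _ | c
    · rw [hc] at hl; simp at hl
    · rfl
    · omega
  · right
    have hall : ∀ x ∈ σ.cycleType, x = 3 ∨ x = 5 := fun x hx => by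
      have hx15 : x ∣ 15 := hl ▸ Multiset.dvd_lcm hx
      have hx8 : x ≤ 8 := le_trans (Multiset.le_sum_of_mem hx) hs
      have := h2 x hx
      interval_cases x <;> norm_num at hx15 <;> norm_num
    have h5 : 5 ∈ σ.cycleType := by
      by_contra h5
      have : ∀ x ∈ σ.cycleType, x ∣ 3 := fun x hx => by
        rcases hall x hx with rfl | rfl
        · exact dvd_rfl
        · exact absurd hx h5
      have := hl ▸ Multiset.lcm_dvd.2 this
      norm_num at this
    have h3 : 3 ∈ σ.cycleType := by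
      by_contra h3
      have : ∀ x ∈ σ.cycleType, x ∣ 5 := fun x hx => by
        rcases hall x hx with rfl | rfl
        · exact absurd hx h3
        · exact dvd_rfl
      have := hl ▸ Multiset.lcm_dvd.2 this
      norm_num at this
    obtain ⟨t, ht⟩ := Multiset.exists_cons_of_mem h5
    rw [ht] at h3 hs hall ⊢
    obtain ⟨u, hu⟩ := Multiset.exists_cons_of_mem
      ((Multiset.mem_cons.1 h3).resolve_left (by norm_num))
    rw [hu] at hs hall ⊢
    rw [Multiset.sum_cons, Multiset.sum_cons] at hs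
    rcases Multiset.empty_or_exists_mem u with rfl | ⟨x, hx⟩
    · rfl
    · have := Multiset.le_sum_of_mem hx
      rcases hall x (by simp [hx]) with rfl | rfl <;> omega

theorem fixed_eq_zero (σ : Equiv.Perm (Fin 8)) (h : orderOf σ = 7 ∨ orderOf σ = 15) (f : V8)
    (hf : σ • f = f) : f = 0 := by
  obtain ⟨r, hr, hc⟩ : ∃ r ∈ [rep7, rep15], r.cycleType = σ.cycleType := by
    rcases cycleType_cases σ h with e | e
    · exact ⟨rep7, by simp, e.symm⟩
    · exact ⟨rep15, by simp, e.symm⟩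
  obtain ⟨c, hc'⟩ := isConj_iff.1 (Equiv.Perm.isConj_iff_cycleType_eq.2 hc.symm)
  have : c • f = 0 := fixed_eq_zero_of_mem hr _ (by rw [← hc', smul_smul]; simp [mul_assoc, mul_smul, hf])
  rwa [smul_eq_zero_iff_eq] at this

/-- Permutations giving the orders 8, 10, 12 in the extensions. -/
def big : List (Equiv.Perm (Fin 8) × ℕ × Fin 256 × Fin 8) :=
  [(c[0, 1, 2, 3] * c[4, 5], 4, 65, 6), (c[0, 1, 2, 3, 4], 5, 33, 6),
    (c[0, 1, 2] * c[3, 4] * c[5, 6], 6, 136, 3)]

theorem check_norm : ∀ b ∈ big, Equiv.Perm.sign b.1 = 1 ∧ b.1 ^ b.2.1 = 1 ∧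
    (∀ m : Fin 7, 0 < (m : ℕ) → (m : ℕ) < b.2.1 → b.1 ^ (m : ℕ) ≠ 1) ∧
    (∑ i, bitsV b.2.2.1 i) = 0 ∧
      (∑ i ∈ Finset.range b.2.1, (bitsV b.2.2.1 ((b.1 ^ i)⁻¹ 0) +
        bitsV b.2.2.1 ((b.1 ^ i)⁻¹ b.2.2.2))) ≠ 0 := by
  decide +kernel

variable (k : ℕ)

/-- The witness groups. -/
abbrev Hk := ModGroup (alternatingGroup (Fin 8)) (Fin (k + 1) → V8)

theorem two_smul_fun (w : Fin (k + 1) → V8) : 2 • w = 0 := funext fun i => two_nsmul_eq (w i)

theorem mem_list (y : Hk k) : orderOf y ∈ [1, 2, 3, 4, 5, 6, 7, 8, 10, 12, 15] := by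
  have h1 := orderOf_right_dvd y
  have h2 := orderOf_dvd_mul (two_smul_fun k) y
  have hm := A8Sub.orderOf_mem_eight y.right
  obtain ⟨c, hc⟩ := h1
  have hpos : 0 < orderOf y.right := orderOf_pos _
  have hc2 : c = 1 ∨ c = 2 :=
    (Nat.dvd_prime Nat.prime_two).1 (Nat.dvd_of_mul_dvd_mul_left hpos (hc ▸ h2))
  rcases hc2 with rfl | rfl
  · rw [hc, mul_one]
    simp only [List.mem_cons, List.not_mem_nil, or_false] at hm ⊢
    omega
  · by_cases h : orderOf y.right = 7 ∨ orderOf y.right = 15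
    · exfalso
      obtain ⟨w, hw, hfix⟩ := pow_eq_inl y
      have hw0 : w = 0 := funext fun i => fixed_eq_zero _ (by rwa [← Subgroup.orderOf_coe] at h)
        (w i) (congrFun hfix i)
      rw [hw0, ofAdd_zero, map_one] at hw
      have := Nat.le_of_dvd hpos (orderOf_dvd_of_pow_eq_one hw)
      omega
    · rw [hc]
      simp only [List.mem_cons, List.not_mem_nil, or_false] at hm ⊢
      omega

theorem exists_double (g : alternatingGroup (Fin 8)) (v : V8) (j : Fin 8 × Fin 8) (n : ℕ)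
    (hn : orderOf g = n)
    (h : (∑ i ∈ Finset.range n,
      ((((g : Equiv.Perm (Fin 8)) ^ i) • v : V8) : Fin 8 × Fin 8 → ZMod 2) j) ≠ 0) :
    ∃ y : Hk k, orderOf y = n * 2 := by
  let y : Hk k := ⟨Multiplicative.ofAdd (fun _ => v), g⟩
  have hpow : ∀ m : ℕ, (y ^ m).left.toAdd 0 =
      ∑ i ∈ Finset.range m, ((g : Equiv.Perm (Fin 8)) ^ i) • v ∧ (y ^ m).right = g ^ m := by
    intro m
    induction m with
    | zero => simp
    | succ m ih =>
      refine ⟨?_, ?_⟩
      · rw [pow_succ, SemidirectProduct.mul_left, Finset.sum_range_succ, ← ih.1, ih.2]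
        rfl
      · rw [pow_succ, SemidirectProduct.mul_right, ih.2, pow_succ]
  have h1 : y ^ n ≠ 1 := fun e => by
    apply h
    have := congrArg (fun z : V8 => (z : Fin 8 × Fin 8 → ZMod 2) j)
      ((hpow n).1.symm.trans (by rw [e]; rfl : (y ^ n).left.toAdd 0 = 0))
    simpa [AddSubmonoidClass.coe_finsetSum, Finset.sum_apply] using this
  refine ⟨y, ?_⟩
  obtain ⟨c, hc⟩ := orderOf_right_dvd y
  have hd : n * c ∣ n * 2 := by
    have h2 := orderOf_dvd_mul (two_smul_fun k) y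
    rw [hc, show y.right = g from rfl, hn] at h2
    exact h2
  have hpos : 0 < n := hn ▸ orderOf_pos g
  rcases (Nat.dvd_prime Nat.prime_two).1 (Nat.dvd_of_mul_dvd_mul_left hpos hd) with rfl | rfl
  · exact absurd (orderOf_dvd_iff_pow_eq_one.1 (by rw [hc, mul_one]; exact hn ▸ dvd_rfl)) h1
  · rw [hc]; simpa using hn

theorem exists_big {n : ℕ} (hn : n = 4 ∨ n = 5 ∨ n = 6) : ∃ y : Hk k, orderOf y = n * 2 := by
  obtain ⟨σ, c, j, hσ⟩ : ∃ σ c j, (σ, n, c, j) ∈ big := by
    rcases hn with rfl | rfl | rfl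
    · exact ⟨_, _, _, List.mem_cons_self⟩
    · exact ⟨_, _, _, List.mem_cons_of_mem _ List.mem_cons_self⟩
    · exact ⟨_, _, _, List.mem_cons_of_mem _ (List.mem_cons_of_mem _ List.mem_cons_self)⟩
  obtain ⟨hs, hp, hne, hv, hj⟩ := check_norm _ hσ
  have ho : orderOf σ = n := by
    rw [orderOf_eq_iff (by omega)]
    exact ⟨hp, fun m hm hm0 => hne ⟨m, by omega⟩ hm0 hm⟩
  exact exists_double k ⟨σ, Equiv.Perm.mem_alternatingGroup.2 hs⟩ ⟨pairFun (bitsV c), _, hv, rfl⟩ (0, j) n
    (by rw [← Subgroup.orderOf_coe]; exact ho) hj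

/-- Permutations of the small orders. -/
def small : List (Equiv.Perm (Fin 8) × ℕ) :=
  [(1, 1), (c[0, 1] * c[2, 3], 2), (c[0, 1, 2], 3), (c[0, 1, 2, 3] * c[4, 5], 4),
    (c[0, 1, 2, 3, 4], 5), (c[0, 1, 2] * c[3, 4] * c[5, 6], 6), (rep7, 7), (rep15, 15)]

theorem check_small : ∀ b ∈ small, Equiv.Perm.sign b.1 = 1 ∧ b.1 ^ b.2 = 1 ∧
    (∀ m : Fin 15, 0 < (m : ℕ) → (m : ℕ) < b.2 → b.1 ^ (m : ℕ) ≠ 1) ∧ 0 < b.2 ∧ b.2 ≤ 15 := by
  decide +kernel

theorem exists_small_order (b : Equiv.Perm (Fin 8) × ℕ) (hb : b ∈ small) :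
    ∃ y : Hk k, orderOf y = b.2 := by
  obtain ⟨hs, hp, hne, h0, h15⟩ := check_small _ hb
  have ho : orderOf b.1 = b.2 := by
    rw [orderOf_eq_iff h0]
    exact ⟨hp, fun m hm hm0 => hne ⟨m, by omega⟩ hm0 hm⟩
  exact ⟨SemidirectProduct.inr (⟨b.1, Equiv.Perm.mem_alternatingGroup.2 hs⟩ : alternatingGroup (Fin 8)),
    by rw [orderOf_inr, ← Subgroup.orderOf_coe]; exact ho⟩

/-- Arbitrarily large groups with element orders `1,…,8,10,12,15`. -/
theorem exists_large_spectrum (N : ℕ) : ∃ (H : Type) (_ : Group H) (_ : Fintype H),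
    N < Fintype.card H ∧
      Set.range (orderOf : H → ℕ) = {n | n ∈ [1, 2, 3, 4, 5, 6, 7, 8, 10, 12, 15]} := by
  refine ⟨Hk N, inferInstance, Fintype.ofFinite _, ?_, Set.ext fun n => ⟨?_, ?_⟩⟩
  · rw [Fintype.card_eq_nat_card, card_modGroup]
    have : Nontrivial V8 := ⟨⟨⟨pairFun (fun i => if i = 0 ∨ i = 1 then 1 else 0),
      _, by decide, rfl⟩, 0, fun h => absurd (congrFun (congrArg Subtype.val h) (0, 2))
        (show pairFun (fun i => if i = 0 ∨ i = 1 then 1 else 0) (0, 2) ≠ 0 by decide)⟩⟩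
    exact lt_of_lt_of_le (exists_lt_card_pow Finite.one_lt_card N)
      (Nat.le_mul_of_pos_right _ Nat.card_pos)
  · rintro ⟨y, rfl⟩
    exact mem_list N y
  · intro hn
    simp only [Set.mem_ofPred_eq, List.mem_cons, List.not_mem_nil, or_false] at hn
    rcases hn with rfl | rfl | rfl | rfl | rfl | rfl | rfl | rfl | rfl | rfl | rfl
    all_goals first
      | exact exists_small_order N (_, _) (by simp [small]; rfl)
      | exact exists_big N (n := 4) (Or.inl rfl)
      | exact exists_big N (n := 5) (Or.inr (Or.inl rfl))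
      | exact exists_big N (n := 6) (Or.inr (Or.inr rfl))

end Cfsg.Agent.Spectrum.EightModule
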