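import Cfsg.Agent.Lib.PSL2.SmallIso
import Cfsg.Agent.Lib.PSL2.Classes
import Cfsg.Agent.Lib.PSL2.Torus
import Cfsg.Agent.Lib.SmallSimple.Order360
import Cfsg.Agent.Lib.Mathieu.PlaneStab
import Cfsg.Agent.Lib.Sz.Lie
import Cfsg.Agent.Lib.Sz.Stabilizer
import Cfsg.Agent.Lib.Sz.Sylow
import Cfsg.Agent.Lib.Sz.SubgroupsBorel
import Cfsg.Agent.S4068

/-!
# At most five orbits of automorphisms on the elements

A non-abelian simple group with at most five such orbits has at most four nontrivial element orders,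
hence at most one composite order, and the short list of groups with this property leaves
`A₅`, `A₆`, `PSL(2,7)`, `PSL(2,8)`.
-/

set_option autoImplicit false
set_option linter.style.haveILetI false

namespace Cfsg.Agent.FiveOrbits

open scoped MatrixGroups

variable {G : Type*} [Group G] [Finite G]

/-- The nontrivial element orders. -/
noncomputable def orders (G : Type*) [Group G] : Set ℕ :=
  {n : ℕ | n ∈ Set.range (orderOf : G → ℕ) ∧ 1 < n}

theorem orders_finite : (orders G).Finite :=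
  (Set.finite_range (orderOf : G → ℕ)).subset fun _ h => h.1

theorem mem_orders (x : G) {n : ℕ} (h : orderOf x = n) (h1 : 1 < n) : n ∈ orders G := ⟨⟨x, h⟩, h1⟩

theorem ncard_orders (h5 : Nat.card (MulAction.orbitRel.Quotient (MulAut G) G) ≤ 5) :
    (orders G).ncard ≤ 4 := by
  let f : MulAction.orbitRel.Quotient (MulAut G) G → ℕ :=
    Quotient.lift (orderOf : G → ℕ) fun a b hab => by
      obtain ⟨φ, rfl⟩ := hab
      exact (φ : G ≃* G).orderOf_eq b
  have hle : (Set.range (orderOf : G → ℕ)).ncard ≤ 5 := by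
    refine le_trans ?_ h5
    have hr : Set.range (orderOf : G → ℕ) = Set.range f := by
      ext k
      refine ⟨fun ⟨x, hx⟩ => ⟨Quotient.mk'' x, hx⟩, fun ⟨o, ho⟩ => ?_⟩
      induction o using Quotient.inductionOn' with
      | _ x => exact ⟨x, ho⟩
    rw [hr, ← Nat.card_coe_set_eq]
    exact Nat.card_le_card_of_surjective _ Set.rangeFactorization_surjective
  have hins : insert 1 (orders G) ⊆ Set.range (orderOf : G → ℕ) := by
    rintro n (rfl | hn)
    · exact ⟨1, orderOf_one⟩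
    · exact hn.1
  have h1 := Set.ncard_le_ncard hins (Set.finite_range _)
  rw [Set.ncard_insert_of_notMem (fun h => lt_irrefl _ h.2) orders_finite] at h1
  omega

theorem five_false (h4 : (orders G).ncard ≤ 4) (s : Finset ℕ) (hs : ∀ n ∈ s, n ∈ orders G)
    (hc : 5 ≤ s.card) : False := by
  have := Set.ncard_le_ncard (s := (s : Set ℕ)) (fun n hn => hs n hn) orders_finite
  rw [Set.ncard_coe_finset] at this
  omega

/-- Pulling orders back along an isomorphism. -/
theorem five_false_of_iso {H : Type*} [Group H] (e : G ≃* H) (h4 : (orders G).ncard ≤ 4)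
    (s : Finset ℕ) (hs : ∀ n ∈ s, 1 < n ∧ ∃ x : H, orderOf x = n) (hc : 5 ≤ s.card) : False :=
  five_false h4 s (fun n hn => by
    obtain ⟨h1, x, hx⟩ := hs n hn
    exact mem_orders (e.symm x) (by rw [e.symm.orderOf_eq, hx]) h1) hc

theorem composite_subsingleton (h4 : (orders G).ncard ≤ 4) (hns : ¬ Group.IsSolvable G) :
    {n : ℕ | n ∈ Set.range (orderOf : G → ℕ) ∧ 1 < n ∧ ¬ n.Prime}.Subsingleton := by
  obtain ⟨p, q, r, hp, hq, hr, hpq, hpr, hqr, hpd, hqd, hrd⟩ :=
    Cfsg.Agent.S4068.exists_three_primes hns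
  intro a ha b hb
  by_contra hab
  have hmem : ∀ {s : ℕ}, s.Prime → s ∣ Nat.card G → s ∈ orders G := fun {s} hs hsd => by
    haveI := Fact.mk hs
    obtain ⟨x, hx⟩ := exists_prime_orderOf_dvd_card' (G := G) s hsd
    exact mem_orders x hx hs.one_lt
  have hne : ∀ {s c : ℕ}, s.Prime → ¬ c.Prime → s ≠ c := fun hs hc e => hc (e ▸ hs)
  refine five_false h4 {p, q, r, a, b} ?_ ?_
  · simp only [Finset.mem_insert, Finset.mem_singleton]
    rintro n (rfl | rfl | rfl | rfl | rfl)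
    exacts [hmem hp hpd, hmem hq hqd, hmem hr hrd, ⟨ha.1, ha.2.1⟩, ⟨hb.1, hb.2.1⟩]
  · simp [hpq, hpr, hqr, hab, hne hp ha.2.2, hne hp hb.2.2, hne hq ha.2.2, hne hq hb.2.2,
      hne hr ha.2.2, hne hr hb.2.2]

section PSL

variable {F : Type*} [Field F] [Fintype F]

/-- Element orders of `PSL(2,q)` from the two tori and the root group. -/
theorem exists_orders (h4 : 4 ≤ Fintype.card F) (p : ℕ) [Fact p.Prime] [CharP F p] (n : ℕ)
    (h : n = p ∨ n ∣ (Fintype.card F - 1) / Nat.gcd 2 (Fintype.card F - 1) ∨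
      n ∣ (Fintype.card F + 1) / Nat.gcd 2 (Fintype.card F - 1)) :
    ∃ x : PSL(2, F), orderOf x = n := by
  rcases h with rfl | h | h
  · exact ⟨PSL2.mk (PSL2.uu 1), PSL2.orderOf_mk_uu n one_ne_zero⟩
  · obtain ⟨g, hg, hc⟩ := PSL2.exists_torus_card_sub_one (F := F) h4
    exact PSL2.exists_orderOf_of_dvd_torus hg (by rwa [hc])
  · obtain ⟨g, hg, hc⟩ := PSL2.exists_torus_card_add_one F
    exact PSL2.exists_orderOf_of_dvd_torus hg (by rwa [hc])

end PSL

theorem orderOf_four {H : Type*} [Group H] (x : H) (h2 : x * x ≠ 1) (h4 : x * x * (x * x) = 1) :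
    orderOf x = 4 := by
  haveI : Fact (Nat.Prime 2) := ⟨Nat.prime_two⟩
  exact orderOf_eq_prime_pow (p := 2) (n := 1) (by rw [pow_one, sq]; exact h2)
    (by rw [show (2 : ℕ) ^ (1 + 1) = 2 * 2 from rfl, pow_mul, sq, sq]; exact h4)

theorem psl34_four {F : Type*} [Field F] [Fintype F] (hF : Fintype.card F = 4) :
    ∃ x : Matrix.ProjectiveSpecialLinearGroup (Fin 3) F, orderOf x = 4 := by
  have h2 : (2 : F) = 0 := PSL2.even_card_iff.1 (by rw [hF]; decide)
  let A : Matrix.SpecialLinearGroup (Fin 3) F :=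
    ⟨!![1, 1, 0; 0, 1, 1; 0, 0, 1], by simp [Matrix.det_fin_three]⟩
  have hA2 : (A * A).1 = !![1, 0, 1; 0, 1, 0; 0, 0, 1] := by
    rw [Matrix.SpecialLinearGroup.coe_mul]
    ext i j
    fin_cases i <;> fin_cases j <;>
      simp [A, Matrix.mul_apply, Fin.sum_univ_three, ← two_mul, h2, one_add_one_eq_two]
  have hA4 : A * A * (A * A) = 1 := by
    apply Subtype.ext
    rw [Matrix.SpecialLinearGroup.coe_mul, hA2, Matrix.SpecialLinearGroup.coe_one]
    ext i j
    fin_cases i <;> fin_cases j <;>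
      simp [Matrix.mul_apply, Fin.sum_univ_three, h2, one_add_one_eq_two]
  refine ⟨QuotientGroup.mk' _ A, orderOf_four _ (fun h => ?_)
    (by rw [← map_mul, ← map_mul, hA4, map_one])⟩
  rw [← map_mul, QuotientGroup.mk'_apply, QuotientGroup.eq_one_iff,
    Matrix.SpecialLinearGroup.mem_center_iff] at h
  obtain ⟨r, -, hr⟩ := h
  have := congrFun (congrFun hr 0) 2
  simp [hA2, Matrix.scalar_apply] at this

theorem sz8_four {F : Type*} [Field F] [Fintype F] (hF : Fintype.card F = 2 ^ (2 * 1 + 1)) :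
    ∃ x : Cfsg.Sz F 1, orderOf x = 4 := by
  refine ⟨SZ.tS hF 1 0, orderOf_four _ (fun h => ?_) ?_⟩
  · rw [SZ.tS_sq, ← SZ.tS_zero hF] at h
    have h3 := (SZ.T_inj (congrArg Subtype.val h : SZ.T 1 (0 : F) _ = SZ.T 1 (0 : F) 0)).2
    simp [SZ.th] at h3
  · rw [SZ.tS_sq, SZ.tS_sq, mul_zero, SZ.tS_zero]

theorem prime_orders (hd : Nat.card G ≠ 0) {p : ℕ} (hp : p.Prime) (h : p ∣ Nat.card G) :
    ∃ x : G, orderOf x = p := by
  haveI := Fact.mk hp
  exact exists_prime_orderOf_dvd_card' p h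

/-- The list of the simple groups with at most one composite order, cut down. -/
theorem of_list (h4 : (orders G).ncard ≤ 4) (hna : ¬ (Nat.card G).Prime)
    (hlist : (Nat.card G).Prime ∨
    (∃ (F : Type) (_ : Field F) (_ : Fintype F), (Fintype.card F = 5 ∨ Fintype.card F = 7 ∨ Fintype.card F = 8 ∨ Fintype.card F = 9 ∨
        Fintype.card F = 11 ∨ Fintype.card F = 13 ∨ Fintype.card F = 16) ∧ Nonempty (G ≃* Matrix.ProjectiveSpecialLinearGroup (Fin 2) F)) ∨
    (∃ (F : Type) (_ : Field F) (_ : Fintype F), Fintype.card F = 4 ∧ Nonempty (G ≃* Matrix.ProjectiveSpecialLinearGroup (Fin 3) F)) ∨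
    (∃ (F : Type) (_ : Field F) (_ : Fintype F), Fintype.card F = 8 ∧ Nonempty (G ≃* ↥(Cfsg.Lie.Sz F 4))) ∨
    (∃ (F : Type) (_ : Field F) (_ : Fintype F), ∃ n r s : ℕ, r.Prime ∧ s.Prime ∧ 3 ^ n - 1 = 2 * r ∧ 3 ^ n + 1 = 4 * s ∧
        Fintype.card F = 3 ^ n ∧ Nonempty (G ≃* Matrix.ProjectiveSpecialLinearGroup (Fin 2) F)) ∨
    (∃ (F : Type) (_ : Field F) (_ : Fintype F), ∃ n r : ℕ, (2 ^ n - 1).Prime ∧ r.Prime ∧ 2 ^ n + 1 = 3 * r ∧
        Fintype.card F = 2 ^ n ∧ Nonempty (G ≃* Matrix.ProjectiveSpecialLinearGroup (Fin 2) F))) :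
    Nonempty (G ≃* ↥(alternatingGroup (Fin 5))) ∨ Nonempty (G ≃* ↥(alternatingGroup (Fin 6))) ∨
      (∃ (F : Type) (_ : Field F) (_ : Fintype F), (Fintype.card F = 7 ∨ Fintype.card F = 8) ∧
        Nonempty (G ≃* Matrix.ProjectiveSpecialLinearGroup (Fin 2) F)) := by
  rcases hlist with h | ⟨F, iF, iFt, hq, ⟨e⟩⟩ | ⟨F, iF, iFt, hq, ⟨e⟩⟩ | ⟨F, iF, iFt, hq, ⟨e⟩⟩ |
    ⟨F, iF, iFt, n, r, s, hr, hs, hn1, hn2, hq, ⟨e⟩⟩ |
    ⟨F, iF, iFt, n, r, hM, hr, hn, hq, ⟨e⟩⟩
  · exact absurd h hna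
  · have key : ∀ (p : ℕ) [Fact p.Prime] [CharP F p] (s : Finset ℕ),
        (∀ n ∈ s, 1 < n ∧ (n = p ∨ n ∣ (Fintype.card F - 1) / Nat.gcd 2 (Fintype.card F - 1) ∨
          n ∣ (Fintype.card F + 1) / Nat.gcd 2 (Fintype.card F - 1))) → 5 ≤ s.card → False :=
      fun p _ _ s hs hc => five_false_of_iso e h4 s
        (fun n hn => ⟨(hs n hn).1, exists_orders (by omega) p n (hs n hn).2⟩) hc
    obtain ⟨p, hchar⟩ := CharP.exists F
    haveI := hchar
    obtain ⟨k, hp, hk⟩ := FiniteField.card F p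
    haveI : Fact p.Prime := ⟨hp⟩
    have hpd : ∀ {a : ℕ}, a.Prime → Fintype.card F = a ^ 1 ∨ Fintype.card F = a ^ 4 → p = a := by
      intro a ha h
      rw [hk] at h
      rcases h with h | h
      · exact (Nat.prime_dvd_prime_iff_eq hp ha).1
          (hp.dvd_of_dvd_pow (h ▸ dvd_pow_self p k.ne_zero))
      · exact (Nat.prime_dvd_prime_iff_eq hp ha).1
          (hp.dvd_of_dvd_pow (h ▸ dvd_pow_self p k.ne_zero))
    rcases hq with h | h | h | h | h | h | h
    · obtain ⟨f⟩ := PSL2.psl_four_five_iso (F := F) (Or.inr h)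
      exact Or.inl ⟨e.trans f⟩
    · exact Or.inr (Or.inr ⟨F, iF, iFt, Or.inl h, ⟨e⟩⟩)
    · exact Or.inr (Or.inr ⟨F, iF, iFt, Or.inr h, ⟨e⟩⟩)
    · have hc := PSL2.two_mul_card_PSL (F := F) (PSL2.odd_card_iff.1 (by rw [h]; decide))
      rw [h] at hc
      haveI := PSL2.psl_isSimpleGroup (F := F) (by omega)
      obtain ⟨f⟩ := SmallSimple.iso_alternating_six (G := PSL(2, F)) (by omega)
      exact Or.inr (Or.inl ⟨e.trans f⟩)
    · obtain rfl := hpd (a := 11) (by norm_num) (Or.inl (by simpa using h))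
      exact (key 11 {2, 3, 5, 6, 11} (by simp [h]) (by decide)).elim
    · obtain rfl := hpd (a := 13) (by norm_num) (Or.inl (by simpa using h))
      exact (key 13 {2, 3, 6, 7, 13} (by simp [h]) (by decide)).elim
    · obtain rfl := hpd (a := 2) Nat.prime_two (Or.inr (by simpa using h))
      exact (key 2 {2, 3, 5, 15, 17} (by simp [h]) (by decide)).elim
  · have hc := Mathieu.PlaneStab.card_PSL34 (F := F) hq
    refine (five_false_of_iso e h4 {2, 3, 4, 5, 7} ?_ (by decide)).elim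
    simp only [Finset.mem_insert, Finset.mem_singleton]
    rintro n (rfl | rfl | rfl | rfl | rfl)
    on_goal 3 => exact ⟨by norm_num, psl34_four hq⟩
    all_goals exact ⟨by norm_num, prime_orders (by omega) (by norm_num) (by rw [hc]; norm_num)⟩
  · have hF : Fintype.card F = 2 ^ (2 * 1 + 1) := by simpa using hq
    let f : G ≃* Cfsg.Sz F 1 := e.trans (SZ.szEquiv le_rfl hF).symm
    have hc := SZ.card_Sz (F := F) le_rfl hF
    refine (five_false_of_iso f h4 {2, 4, 5, 7, 13} ?_ (by decide)).elim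
    simp only [Finset.mem_insert, Finset.mem_singleton]
    rintro n (rfl | rfl | rfl | rfl | rfl)
    on_goal 2 => exact ⟨by norm_num, sz8_four hF⟩
    all_goals exact ⟨by norm_num,
      prime_orders Nat.card_pos.ne' (by norm_num) (by rw [hc, hq]; norm_num)⟩
  · haveI : Fact (Nat.Prime 3) := ⟨Nat.prime_three⟩
    haveI : CharP F 3 := charP_of_card_eq_prime_pow (by rw [hq])
    have hn0 : n ≠ 0 := by rintro rfl; simp at hn1; have := hr.two_le; omega
    have h3 : 3 ∣ 3 ^ n := dvd_pow_self 3 hn0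
    have hpos : 0 < 3 ^ n := by positivity
    have hodd : Odd (3 ^ n) := Odd.pow (by decide)
    obtain ⟨c, hc⟩ := hodd
    have hg : Nat.gcd 2 (Fintype.card F - 1) = 2 :=
      Nat.gcd_eq_left (by rw [hq, hn1]; exact dvd_mul_right 2 r)
    have hr2 := hr.two_le
    have hs2 := hs.two_le
    have hsub : (Fintype.card F - 1) / 2 = r := by omega
    have hadd : (Fintype.card F + 1) / 2 = 2 * s := by omega
    have hsr : r + 1 = 2 * s := by omega
    have hr3 : r ≠ 3 := fun h => by omega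
    have hs3 : s ≠ 3 := fun h => by omega
    have hrs2 : r ≠ 2 * s := by omega
    refine (five_false_of_iso e h4 {3, r, s, 2, 2 * s} ?_ ?_).elim
    · simp only [Finset.mem_insert, Finset.mem_singleton]
      rintro m (h | h | h | h | h) <;> rw [h] <;> refine ⟨by omega, exists_orders (by omega) 3 _ ?_⟩
      all_goals rw [hg, hsub, hadd]
      exacts [Or.inl rfl, Or.inr (Or.inl dvd_rfl), Or.inr (Or.inr (dvd_mul_left s 2)),
        Or.inr (Or.inr (dvd_mul_right 2 s)), Or.inr (Or.inr dvd_rfl)]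
    · have h1 : (3 : ℕ) ≠ r := hr3.symm
      have h2 : (3 : ℕ) ≠ s := hs3.symm
      have h4' : (3 : ℕ) ≠ 2 * s := by omega
      have h5 : r ≠ s := by omega
      have h6 : r ≠ 2 := by omega
      have h7 : s ≠ 2 := by rintro rfl; omega
      have h8 : s ≠ 2 * s := by omega
      have h9 : (2 : ℕ) ≠ 2 * s := by omega
      simp [h1, h2, h4', h5, h6, h7, h8, h9, hrs2]
  · by_cases hr3 : r = 3
    · subst hr3
      exact Or.inr (Or.inr ⟨F, iF, iFt, Or.inr (by omega), ⟨e⟩⟩)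
    exfalso
    haveI : Fact (Nat.Prime 2) := ⟨Nat.prime_two⟩
    haveI : CharP F 2 := charP_of_card_eq_prime_pow (by rw [hq])
    have hM2 := hM.two_le
    have hr2 := hr.two_le
    have hn0 : n ≠ 0 := by rintro rfl; simp at hM2
    have h2n : 2 ∣ 2 ^ n := dvd_pow_self 2 hn0
    have hg : Nat.gcd 2 (Fintype.card F - 1) = 1 := by
      rw [Nat.Coprime.gcd_eq_one]
      exact (Nat.coprime_primes Nat.prime_two hM).2 (by omega) |> (hq ▸ ·)
    refine five_false_of_iso e h4 {2, 2 ^ n - 1, 3, r, 3 * r} ?_ ?_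
    · simp only [Finset.mem_insert, Finset.mem_singleton]
      rintro m (h | h | h | h | h) <;> rw [h] <;> refine ⟨by omega, exists_orders (by omega) 2 _ ?_⟩
      all_goals rw [hg, Nat.div_one, Nat.div_one, hq, hn]
      exacts [Or.inl rfl, Or.inr (Or.inl dvd_rfl), Or.inr (Or.inr (dvd_mul_right 3 r)),
        Or.inr (Or.inr (dvd_mul_left r 3)), Or.inr (Or.inr dvd_rfl)]
    · have h1 : (2 : ℕ) ≠ 2 ^ n - 1 := by omega
      have h2 : 2 ^ n - 1 ≠ 3 := by omega
      have h4' : 2 ^ n - 1 ≠ r := by omega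
      have h5 : 2 ^ n - 1 ≠ 3 * r := by omega
      have h6 : (2 : ℕ) ≠ r := by omega
      have h7 : (2 : ℕ) ≠ 3 * r := by omega
      have h8 : r ≠ 3 * r := by omega
      have h9 : (3 : ℕ) ≠ 3 * r := by omega
      simp [h1, h2, h4', h5, h6, h7, h8, h9, Ne.symm hr3]

/-- The theorem, given the classification of simple groups with one composite order. -/
theorem main [IsSimpleGroup G] (hG : ¬ IsMulCommutative G)
    (h5 : Nat.card (MulAction.orbitRel.Quotient (MulAut G) G) ≤ 5)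
    (hcls : {n : ℕ | n ∈ Set.range (orderOf : G → ℕ) ∧ 1 < n ∧ ¬ n.Prime}.Subsingleton →
      (Nat.card G).Prime ∨
    (∃ (F : Type) (_ : Field F) (_ : Fintype F), (Fintype.card F = 5 ∨ Fintype.card F = 7 ∨ Fintype.card F = 8 ∨ Fintype.card F = 9 ∨
        Fintype.card F = 11 ∨ Fintype.card F = 13 ∨ Fintype.card F = 16) ∧ Nonempty (G ≃* Matrix.ProjectiveSpecialLinearGroup (Fin 2) F)) ∨
    (∃ (F : Type) (_ : Field F) (_ : Fintype F), Fintype.card F = 4 ∧ Nonempty (G ≃* Matrix.ProjectiveSpecialLinearGroup (Fin 3) F)) ∨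
    (∃ (F : Type) (_ : Field F) (_ : Fintype F), Fintype.card F = 8 ∧ Nonempty (G ≃* ↥(Cfsg.Lie.Sz F 4))) ∨
    (∃ (F : Type) (_ : Field F) (_ : Fintype F), ∃ n r s : ℕ, r.Prime ∧ s.Prime ∧ 3 ^ n - 1 = 2 * r ∧ 3 ^ n + 1 = 4 * s ∧
        Fintype.card F = 3 ^ n ∧ Nonempty (G ≃* Matrix.ProjectiveSpecialLinearGroup (Fin 2) F)) ∨
    (∃ (F : Type) (_ : Field F) (_ : Fintype F), ∃ n r : ℕ, (2 ^ n - 1).Prime ∧ r.Prime ∧ 2 ^ n + 1 = 3 * r ∧
        Fintype.card F = 2 ^ n ∧ Nonempty (G ≃* Matrix.ProjectiveSpecialLinearGroup (Fin 2) F))) :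
    Nonempty (G ≃* ↥(alternatingGroup (Fin 5))) ∨ Nonempty (G ≃* ↥(alternatingGroup (Fin 6))) ∨
      (∃ (F : Type) (_ : Field F) (_ : Fintype F), (Fintype.card F = 7 ∨ Fintype.card F = 8) ∧
        Nonempty (G ≃* Matrix.ProjectiveSpecialLinearGroup (Fin 2) F)) := by
  have h4 := ncard_orders h5
  have hnp : ¬ (Nat.card G).Prime := fun hp => hG (by
    haveI := Fact.mk hp
    haveI : IsCyclic G := isCyclic_of_prime_card (p := Nat.card G) rfl
    exact IsCyclic.isMulCommutative)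
  have hns : ¬ Group.IsSolvable G := fun h => hG (by
    exact ⟨⟨fun a b => IsSimpleGroup.comm_iff_isSolvable.2 h a b⟩⟩)
  exact of_list h4 hnp (hcls (composite_subsingleton h4 hns))

end Cfsg.Agent.FiveOrbits
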