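import Cfsg.Agent.Lib.Spectrum.FiveOrbits
import Cfsg.Agent.Lib.TwoPOrders.Main
import Cfsg.Agent.Lib.CIT.MainSz
import Cfsg.Agent.Lib.GW.Assembly
import Cfsg.Agent.Lib.SmallSimple.Low

/-!
# At most five orbits of automorphisms: proof

Without elements of order `2 s`, `s` odd, the group is CIT.  Otherwise the nontrivial orders are
`2, p, r, 2 p`, each one orbit; then a Sylow 2-subgroup is a four-group, since order 2 is impossible
and order at least 8 is excluded by `TwoPOrders`.
-/

set_option autoImplicit false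
set_option linter.style.haveILetI false
set_option linter.unusedSectionVars false

namespace Cfsg.Agent.FiveOrbits

open scoped MatrixGroups

universe u

variable {G : Type u} [Group G] [Finite G] [IsSimpleGroup G]

/-- `PSL(2,q)` with at most four nontrivial orders. -/
theorem psl_list (h4 : (orders G).ncard ≤ 4) (hG : ¬ IsMulCommutative G) {F : Type} [Field F]
    [iFt : Fintype F] (e : G ≃* PSL(2, F)) :
    Nonempty (G ≃* ↥(alternatingGroup (Fin 5))) ∨ Nonempty (G ≃* ↥(alternatingGroup (Fin 6))) ∨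
      (∃ (F : Type) (_ : Field F) (_ : Fintype F), (Fintype.card F = 7 ∨ Fintype.card F = 8) ∧
        Nonempty (G ≃* Matrix.ProjectiveSpecialLinearGroup (Fin 2) F)) := by
  have hcardG : Nat.card G = Nat.card PSL(2, F) := Nat.card_congr e.toEquiv
  obtain ⟨p, hchar⟩ := CharP.exists F
  haveI := hchar
  obtain ⟨k, hp, hk⟩ := FiniteField.card F p
  haveI : Fact p.Prime := ⟨hp⟩
  have hpdvd : p ∣ Fintype.card F := hk ▸ dvd_pow_self p k.ne_zero
  have hprime : ∀ {a : ℕ}, a.Prime → a ∣ Fintype.card F → p = a := fun {a} ha h => by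
    rw [hk] at h
    exact ((Nat.prime_dvd_prime_iff_eq ha hp).1 (ha.dvd_of_dvd_pow h)).symm
  have h4q : 4 ≤ Fintype.card F := by
    by_contra hlt
    have h2 := Fintype.one_lt_card (α := F)
    have hc := PSL2.card_PSL (F := F)
    rcases (show Fintype.card F = 2 ∨ Fintype.card F = 3 by omega) with h | h <;>
      rw [h] at hc <;> norm_num at hc <;>
      [have := SmallSimple.card_eq_sixty hG (by omega); have := SmallSimple.card_eq_sixty hG (by omega)] <;>
      omega
  have key : ∀ s : Finset ℕ,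
      (∀ n ∈ s, 1 < n ∧ (n = p ∨ n ∣ (Fintype.card F - 1) / Nat.gcd 2 (Fintype.card F - 1) ∨
        n ∣ (Fintype.card F + 1) / Nat.gcd 2 (Fintype.card F - 1))) → 5 ≤ s.card → False :=
    fun s hs hc => five_false_of_iso e h4 s
      (fun n hn => ⟨(hs n hn).1, exists_orders h4q p n (hs n hn).2⟩) hc
  rcases Nat.lt_or_ge (Fintype.card F) 11 with hlt | hge
  · rcases (show Fintype.card F = 4 ∨ Fintype.card F = 5 ∨ Fintype.card F = 6 ∨ Fintype.card F = 7 ∨
        Fintype.card F = 8 ∨ Fintype.card F = 9 ∨ Fintype.card F = 10 by omega) with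
      h | h | h | h | h | h | h
    · obtain ⟨f⟩ := PSL2.psl_four_five_iso (F := F) (Or.inl h)
      exact Or.inl ⟨e.trans f⟩
    · obtain ⟨f⟩ := PSL2.psl_four_five_iso (F := F) (Or.inr h)
      exact Or.inl ⟨e.trans f⟩
    · have := (hprime Nat.prime_two (by omega)).symm.trans (hprime Nat.prime_three (by omega))
      omega
    · exact Or.inr (Or.inr ⟨F, inferInstance, iFt, Or.inl h, ⟨e⟩⟩)
    · exact Or.inr (Or.inr ⟨F, inferInstance, iFt, Or.inr h, ⟨e⟩⟩)
    · have hc := PSL2.two_mul_card_PSL (F := F) (PSL2.odd_card_iff.1 (by rw [h]; decide))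
      rw [h] at hc
      haveI := PSL2.psl_isSimpleGroup (F := F) (by omega)
      obtain ⟨f⟩ := SmallSimple.iso_alternating_six (G := PSL(2, F)) (by omega)
      exact Or.inr (Or.inl ⟨e.trans f⟩)
    · have := (hprime Nat.prime_two (by omega)).symm.trans
        (hprime (a := 5) (by norm_num) (by omega))
      omega
  exfalso
  rcases Nat.even_or_odd (Fintype.card F) with hev | hodd
  · have hp2 : p = 2 := hprime Nat.prime_two hev.two_dvd
    have hk4 : 4 ≤ (k : ℕ) := by
      by_contra hk4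
      have := Nat.pow_le_pow_right two_pos (show (k : ℕ) ≤ 3 by omega)
      rw [hk, hp2] at hge
      omega
    have h16 : 16 ≤ Fintype.card F := by
      rw [hk, hp2]; exact le_trans (by norm_num) (Nat.pow_le_pow_right two_pos hk4)
    have hg : Nat.gcd 2 (Fintype.card F - 1) = 1 :=
      (Nat.coprime_two_left.2 (by obtain ⟨j, hj⟩ := hev; exact ⟨j - 1, by omega⟩))
    have h3q : ¬ 3 ∣ Fintype.card F := fun h => by
      have := hp2.symm.trans (hprime Nat.prime_three h); omega
    obtain ⟨j, hj⟩ : ∃ j, Fintype.card F = 3 * j + 1 ∨ Fintype.card F = 3 * j + 2 :=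
      ⟨Fintype.card F / 3, by omega⟩
    rcases hj with hj | hj
    · refine key {2, 3, j, 3 * j, Fintype.card F + 1} ?_ ?_
      · simp only [Finset.mem_insert, Finset.mem_singleton]
        rw [hg, Nat.div_one, Nat.div_one]
        rintro n (rfl | rfl | rfl | rfl | rfl) <;> refine ⟨by omega, ?_⟩
        exacts [Or.inl hp2.symm, Or.inr (Or.inl (by omega)), Or.inr (Or.inl ⟨3, by omega⟩),
          Or.inr (Or.inl ⟨1, by omega⟩), Or.inr (Or.inr dvd_rfl)]
      · repeat rw [Finset.card_insert_of_notMem]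
        all_goals simp only [Finset.card_singleton, Finset.mem_insert, Finset.mem_singleton,
          not_or]
        all_goals omega
    · refine key {2, 3, j + 1, 3 * (j + 1), Fintype.card F - 1} ?_ ?_
      · simp only [Finset.mem_insert, Finset.mem_singleton]
        rw [hg, Nat.div_one, Nat.div_one]
        rintro n (rfl | rfl | rfl | rfl | rfl) <;> refine ⟨by omega, ?_⟩
        exacts [Or.inl hp2.symm, Or.inr (Or.inr (by omega)), Or.inr (Or.inr ⟨3, by omega⟩),
          Or.inr (Or.inr ⟨1, by omega⟩), Or.inr (Or.inl dvd_rfl)]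
      · repeat rw [Finset.card_insert_of_notMem]
        all_goals simp only [Finset.card_singleton, Finset.mem_insert, Finset.mem_singleton,
          not_or]
        all_goals omega
  · obtain ⟨j, hj⟩ := hodd
    have hp2 : p ≠ 2 := fun h => by
      subst h
      obtain ⟨d, hd⟩ := hpdvd
      omega
    have hg : Nat.gcd 2 (Fintype.card F - 1) = 2 := Nat.gcd_eq_left ⟨j, by omega⟩
    have hp3 : 3 ≤ p := by have := hp.two_le; omega
    obtain ⟨O, E, hOodd, hEev, hdiff, hOE⟩ : ∃ O E, Odd O ∧ Even E ∧ (E = O + 1 ∨ O = E + 1) ∧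
        ((O = j ∧ E = j + 1) ∨ (O = j + 1 ∧ E = j)) := by
      rcases Nat.even_or_odd j with hje | hjo
      · exact ⟨j + 1, j, hje.add_one, hje, Or.inr rfl, Or.inr ⟨rfl, rfl⟩⟩
      · exact ⟨j, j + 1, hjo, hjo.add_one, Or.inl rfl, Or.inl ⟨rfl, rfl⟩⟩
    have hO5 : 5 ≤ O := by obtain ⟨t, ht⟩ := hOodd; omega
    obtain ⟨e', he'⟩ := hEev
    obtain ⟨t, ht⟩ := hOodd
    have hdvd : ∀ n, (n ∣ O ∨ n ∣ E) → n ∣ (Fintype.card F - 1) / Nat.gcd 2 (Fintype.card F - 1) ∨
        n ∣ (Fintype.card F + 1) / Nat.gcd 2 (Fintype.card F - 1) := by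
      intro n hn
      rw [hg, show (Fintype.card F - 1) / 2 = j by omega,
        show (Fintype.card F + 1) / 2 = j + 1 by omega]
      rcases hOE with ⟨rfl, rfl⟩ | ⟨rfl, rfl⟩
      · exact hn
      · exact hn.symm
    have hpne : ∀ n, (n ∣ O ∨ n ∣ E) → 1 < n → p ≠ n := fun n hn h1 h => by
      subst h
      obtain ⟨d, hd⟩ := hpdvd
      have hdj : p ∣ j ∨ p ∣ j + 1 := by
        rcases hOE with ⟨rfl, rfl⟩ | ⟨rfl, rfl⟩
        · exact hn
        · exact hn.symm
      have h2 : p ∣ 2 * j + 1 := ⟨d, by omega⟩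
      have : p ∣ 1 := by
        rcases hdj with h | h
        · exact (Nat.dvd_add_right (h.mul_left 2)).1 h2
        · have := Nat.dvd_sub (h.mul_left 2) h2
          rwa [show 2 * (j + 1) - (2 * j + 1) = 1 by omega] at this
      have := Nat.le_of_dvd one_pos this
      omega
    by_cases h4E : 4 ∣ E
    · have a1 := hpne O (Or.inl dvd_rfl) (by omega)
      have a2 := hpne E (Or.inr dvd_rfl) (by omega)
      have a4 : p ≠ 4 := fun h => by rw [h] at hp; exact absurd hp (by norm_num)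
      have a5 : 8 ≤ E := by
        obtain ⟨d, hd⟩ := h4E
        rcases hOE with ⟨h1, h2⟩ | ⟨h1, h2⟩ <;> omega
      refine key {p, O, 2, E, 4} ?_ ?_
      · simp only [Finset.mem_insert, Finset.mem_singleton]
        rintro n (rfl | rfl | rfl | rfl | rfl) <;> refine ⟨by omega, ?_⟩
        exacts [Or.inl rfl, Or.inr (hdvd _ (Or.inl dvd_rfl)), Or.inr (hdvd _ (Or.inr ⟨e', by omega⟩)),
          Or.inr (hdvd _ (Or.inr dvd_rfl)), Or.inr (hdvd _ (Or.inr h4E))]
      · repeat rw [Finset.card_insert_of_notMem]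
        all_goals simp only [Finset.card_singleton, Finset.mem_insert, Finset.mem_singleton,
          not_or]
        all_goals omega
    · have a1 := hpne O (Or.inl dvd_rfl) (by omega)
      have a2 := hpne E (Or.inr dvd_rfl) (by omega)
      have a3 := hpne e' (Or.inr ⟨2, by omega⟩) (by omega)
      refine key {p, O, 2, E, e'} ?_ ?_
      · simp only [Finset.mem_insert, Finset.mem_singleton]
        rintro n (rfl | rfl | rfl | rfl | rfl) <;> refine ⟨by omega, ?_⟩
        exacts [Or.inl rfl, Or.inr (hdvd _ (Or.inl dvd_rfl)), Or.inr (hdvd _ (Or.inr ⟨e', by omega⟩)),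
          Or.inr (hdvd _ (Or.inr dvd_rfl)), Or.inr (hdvd _ (Or.inr ⟨2, by omega⟩))]
      · repeat rw [Finset.card_insert_of_notMem]
        all_goals simp only [Finset.card_singleton, Finset.mem_insert, Finset.mem_singleton,
          not_or]
        all_goals omega

theorem sz_four {F : Type*} [Field F] [Fintype F] {m : ℕ}
    (hF : Fintype.card F = 2 ^ (2 * m + 1)) : ∃ x : Cfsg.Sz F m, orderOf x = 4 := by
  refine ⟨SZ.tS hF 1 0, orderOf_four _ (fun h => ?_) ?_⟩
  · rw [SZ.tS_sq, ← SZ.tS_zero hF] at h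
    have h3 := (SZ.T_inj (congrArg Subtype.val h : SZ.T m (0 : F) _ = SZ.T m (0 : F) 0)).2
    simp [SZ.th] at h3
  · rw [SZ.tS_sq, SZ.tS_sq, mul_zero, SZ.tS_zero]

theorem sz_false (h4 : (orders G).ncard ≤ 4) {F : Type} [Field F] [Fintype F] {m : ℕ} (hm : 1 ≤ m)
    (hF : Fintype.card F = 2 ^ (2 * m + 1)) (e : G ≃* Cfsg.Sz F m) : False := by
  set q := 2 ^ (2 * m + 1) with hq
  set r := 2 ^ (m + 1) with hr
  have hrq : r * r = 2 * q := by rw [hq, hr, ← pow_add, ← pow_succ']; congr 1; omega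
  have hr4 : 4 ≤ r := le_trans (by norm_num) (Nat.pow_le_pow_right two_pos (show 2 ≤ m + 1 by omega))
  have hq8 : 8 ≤ q := le_trans (by norm_num) (Nat.pow_le_pow_right two_pos (show 3 ≤ 2 * m + 1 by omega))
  have hlt : r + 1 ≤ q := by
    have h : 2 * r ≤ q := by rw [hq, hr, ← pow_succ']; exact Nat.pow_le_pow_right two_pos (by omega)
    omega
  obtain ⟨a, ha, had⟩ := Nat.exists_prime_and_dvd (show q - 1 ≠ 1 by omega)
  obtain ⟨b, hb, hbd⟩ := Nat.exists_prime_and_dvd (show q + r + 1 ≠ 1 by omega)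
  obtain ⟨c, hc, hcd⟩ := Nat.exists_prime_and_dvd (show q - r + 1 ≠ 1 by
    intro h
    omega)
  have hprod : (q + r + 1) * (q - r + 1) = q ^ 2 + 1 := by
    obtain ⟨d, hd⟩ := Nat.exists_eq_add_of_le (show r ≤ q by omega)
    rw [show q - r + 1 = d + 1 by omega, hd]
    nlinarith [hrq, hd]
  have hcard : ∀ s, s.Prime → (s ∣ q - 1 ∨ s ∣ q ^ 2 + 1) → ∃ x : Cfsg.Sz F m, orderOf x = s := by
    intro s hs hd
    refine prime_orders Nat.card_pos.ne' hs ?_
    rw [SZ.card_Sz hm hF, hF]
    rcases hd with h | h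
    · exact h.mul_left _
    · exact (h.mul_left _).mul_right _
  have hq2 : 2 ∣ q := dvd_pow_self 2 (by omega)
  have hr2 : 2 ∣ r := dvd_pow_self 2 (by omega)
  have hbq : b ∣ q ^ 2 + 1 := hbd.trans (hprod ▸ dvd_mul_right _ _)
  have hcq : c ∣ q ^ 2 + 1 := hcd.trans (hprod ▸ dvd_mul_left _ _)
  have hne2 : ∀ s n : ℕ, s ∣ n → ¬ 2 ∣ n → s ≠ 2 := fun s n h h2 e => h2 (e ▸ h)
  have ha2 := hne2 a _ had (by omega)
  have hb2 := hne2 b _ hbd (by omega)
  have hc2 := hne2 c _ hcd (by omega)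
  have hA : ∀ s : ℕ, s.Prime → s ∣ q - 1 → s ∣ q ^ 2 + 1 → s = 2 := fun s hs h1 h2 => by
    have h3 : s ∣ (q ^ 2 - 1) := h1.trans ⟨q + 1, by
      rw [← Nat.sq_sub_sq q 1 |>.trans (Nat.mul_comm _ _), one_pow]⟩
    have h5 := Nat.dvd_sub h2 h3
    rw [show q ^ 2 + 1 - (q ^ 2 - 1) = 2 by have : 1 ≤ q ^ 2 := Nat.one_le_pow _ _ (by omega); omega] at h5
    exact (Nat.prime_dvd_prime_iff_eq hs Nat.prime_two).1 h5
  have hab : a ≠ b := fun h => ha2 (hA a ha had (h ▸ hbq))
  have hac : a ≠ c := fun h => ha2 (hA a ha had (h ▸ hcq))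
  have hbc : b ≠ c := fun h => by
    subst h
    have h5 := Nat.dvd_sub hbd hcd
    rw [show q + r + 1 - (q - r + 1) = 2 * r by omega] at h5
    rcases hb.dvd_mul.1 h5 with h | h
    · exact hb2 ((Nat.prime_dvd_prime_iff_eq hb Nat.prime_two).1 h)
    · exact hb2 ((Nat.prime_dvd_prime_iff_eq hb Nat.prime_two).1 (hb.dvd_of_dvd_pow h))
  have h4' : ∀ s : ℕ, s.Prime → s ≠ 4 := fun s hs h => by rw [h] at hs; exact absurd hs (by norm_num)
  refine five_false_of_iso e h4 {2, 4, a, b, c} ?_ ?_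
  · simp only [Finset.mem_insert, Finset.mem_singleton]
    rintro n (rfl | rfl | rfl | rfl | rfl)
    · refine ⟨by norm_num, prime_orders Nat.card_pos.ne' Nat.prime_two ?_⟩
      rw [SZ.card_Sz hm hF, hF]
      exact ((hq2.trans (dvd_pow_self q two_ne_zero)).mul_right _).mul_right _
    · exact ⟨by norm_num, sz_four hF⟩
    · exact ⟨ha.one_lt, hcard _ ha (Or.inl had)⟩
    · exact ⟨hb.one_lt, hcard _ hb (Or.inr hbq)⟩
    · exact ⟨hc.one_lt, hcard _ hc (Or.inr hcq)⟩
  · simp [Ne.symm ha2, Ne.symm hb2, Ne.symm hc2, Ne.symm (h4' a ha), Ne.symm (h4' b hb),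
      Ne.symm (h4' c hc), hab, hac, hbc]

theorem psl34_false (h4 : (orders G).ncard ≤ 4) {F : Type} [Field F] [Fintype F]
    (hq : Fintype.card F = 4) (e : G ≃* Matrix.ProjectiveSpecialLinearGroup (Fin 3) F) : False := by
  have hc := Mathieu.PlaneStab.card_PSL34 (F := F) hq
  refine five_false_of_iso e h4 {2, 3, 4, 5, 7} ?_ (by decide)
  simp only [Finset.mem_insert, Finset.mem_singleton]
  rintro n (rfl | rfl | rfl | rfl | rfl)
  on_goal 3 => exact ⟨by norm_num, psl34_four hq⟩
  all_goals exact ⟨by norm_num, prime_orders (by omega) (by norm_num) (by rw [hc]; norm_num)⟩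

theorem alt_seven_false (h4 : (orders G).ncard ≤ 4) (e : G ≃* alternatingGroup (Fin 7)) : False := by
  have hc : Nat.card (alternatingGroup (Fin 7)) = 2520 := by
    rw [nat_card_alternatingGroup]
    simp [Nat.card_eq_fintype_card, Nat.factorial]
  refine five_false_of_iso e h4 {2, 3, 4, 5, 7} ?_ (by decide)
  simp only [Finset.mem_insert, Finset.mem_singleton]
  rintro n (rfl | rfl | rfl | rfl | rfl)
  on_goal 3 =>
    exact ⟨by norm_num, ⟨Equiv.swap (0 : Fin 7) 1 * Equiv.swap 1 2 * Equiv.swap 2 3 * Equiv.swap 4 5,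
      Equiv.Perm.mem_alternatingGroup.2 (by decide)⟩, orderOf_four _ (by decide) (by decide)⟩
  all_goals exact ⟨by norm_num, prime_orders (by omega) (by norm_num) (by rw [hc]; norm_num)⟩

theorem direct (h2 : GW.PartTwo.{u}) (hG : ¬ IsMulCommutative G)
    (h5 : Nat.card (MulAction.orbitRel.Quotient (MulAut G) G) ≤ 5) :
    Nonempty (G ≃* ↥(alternatingGroup (Fin 5))) ∨ Nonempty (G ≃* ↥(alternatingGroup (Fin 6))) ∨
      (∃ (F : Type) (_ : Field F) (_ : Fintype F), (Fintype.card F = 7 ∨ Fintype.card F = 8) ∧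
        Nonempty (G ≃* Matrix.ProjectiveSpecialLinearGroup (Fin 2) F)) := by
  classical
  have h4 := ncard_orders h5
  have hne : ∃ a b : G, a * b ≠ b * a := by
    by_contra h
    push Not at h
    exact hG ⟨⟨h⟩⟩
  have hns : ¬ Group.IsSolvable G := fun h => hG
    ⟨⟨fun a b => IsSimpleGroup.comm_iff_isSolvable.2 h a b⟩⟩
  by_cases hex : ∃ (g : G) (p : ℕ), p.Prime ∧ p ≠ 2 ∧ orderOf g = 2 * p
  swap
  · have hCIT : CIT.IsCIT G := by
      intro t ht
      haveI : Fact (Nat.Prime 2) := ⟨Nat.prime_two⟩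
      refine IsPGroup.of_card (Nat.eq_prime_pow_of_unique_prime_dvd Nat.card_pos.ne'
        fun {q} hq hd => ?_)
      haveI := Fact.mk hq
      obtain ⟨z, hz⟩ := exists_prime_orderOf_dvd_card' q hd
      rw [← Subgroup.orderOf_coe] at hz
      by_contra hq2
      have ho := (show Commute (z : G) t from
        Subgroup.mem_centralizer_singleton_iff.1 z.2).orderOf_mul_eq_mul_orderOf_of_coprime
        (by rw [hz, ht]; exact (Nat.coprime_primes hq Nat.prime_two).2 hq2)
      rw [hz, ht, mul_comm] at ho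
      exact hex ⟨_, q, hq, hq2, ho⟩
    rcases CIT.classification_sz hne hCIT with ⟨F, iF, iFt, -, ⟨e⟩⟩ | ⟨F, iF, iFt, hq, ⟨e⟩⟩ |
      ⟨F, iF, iFt, m, hm, hF, ⟨e⟩⟩
    · exact psl_list h4 hG e
    · exact (psl34_false h4 hq e).elim
    · exact (sz_false h4 hm hF (e.trans (SZ.szEquiv hm hF).symm)).elim
  obtain ⟨g, p, hp, hp2, hg⟩ := hex
  obtain ⟨a, b, c, ha, hb, hc, hab, hac, hbc, had, hbd, hcd⟩ := S4068.exists_three_primes hns
  have hmem : ∀ {s : ℕ}, s.Prime → s ∣ Nat.card G → s ∈ orders G := fun {s} hs hsd => by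
    obtain ⟨x, hx⟩ := prime_orders Nat.card_pos.ne' hs hsd
    exact mem_orders x hx hs.one_lt
  have h2p : 2 * p ∈ orders G := mem_orders g hg (by have := hp.two_le; omega)
  have hnp : ∀ {s : ℕ}, s.Prime → s ≠ 2 * p := fun hs h => by
    rw [h] at hs
    exact Nat.not_prime_mul (by norm_num) hp.one_lt.ne' hs
  have hT : orders G = {a, b, c, 2 * p} := by
    refine (Set.eq_of_subset_of_ncard_le ?_ ?_ orders_finite).symm
    · simp [Set.insert_subset_iff, hmem ha had, hmem hb hbd, hmem hc hcd, h2p]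
    · refine h4.trans (le_of_eq ?_)
      rw [Set.ncard_insert_of_notMem (by simp [hab, hac, hnp ha]),
        Set.ncard_insert_of_notMem (by simp [hbc, hnp hb]),
        Set.ncard_pair (hnp hc)]
  have hord : ∀ x : G, x ≠ 1 → (orderOf x).Prime ∨ orderOf x = 2 * p := fun x hx => by
    have h : orderOf x ∈ orders G :=
      mem_orders x rfl (lt_of_le_of_ne (orderOf_pos x) fun h => hx (orderOf_eq_one_iff.1 h.symm))
    rw [hT] at h
    rcases h with h | h | h | h
    exacts [Or.inl (h ▸ ha), Or.inl (h ▸ hb), Or.inl (h ▸ hc), Or.inr h]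
  -- every order is one orbit
  have hconj : ∀ x y : G, orderOf x = orderOf y → ∃ φ : G ≃* G, φ x = y := by
    intro x y hxy
    have hex' : ∀ o : MulAction.orbitRel.Quotient (MulAut G) G, ∃ z : G, Quotient.mk'' z = o :=
      fun o => Quotient.inductionOn' o fun z => ⟨z, rfl⟩
    let f : MulAction.orbitRel.Quotient (MulAut G) G → ℕ :=
      Quotient.lift (orderOf : G → ℕ) fun a b hab => by
        obtain ⟨φ, rfl⟩ := hab
        exact (φ : G ≃* G).orderOf_eq b
    haveI := Fintype.ofFinite (MulAction.orbitRel.Quotient (MulAut G) G)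
    have hinj : Function.Injective f := by
      by_contra hninj
      have h1 : (Set.range f).ncard < Nat.card (MulAction.orbitRel.Quotient (MulAut G) G) := by
        rw [← Set.image_univ, ← Set.ncard_univ]
        refine lt_of_le_of_ne (Set.ncard_image_le Set.finite_univ) fun h => hninj ?_
        exact Set.injOn_univ.1 (Set.injOn_of_ncard_image_eq h Set.finite_univ)
      have h2 : insert 1 (orders G) ⊆ Set.range f := by
        rintro n (rfl | ⟨⟨z, hz⟩, -⟩)
        · exact ⟨Quotient.mk'' 1, orderOf_one⟩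
        · exact ⟨Quotient.mk'' z, hz⟩
      have h3 := Set.ncard_le_ncard h2 (Set.finite_range f)
      rw [Set.ncard_insert_of_notMem (fun h => lt_irrefl _ h.2) orders_finite] at h3
      have h4' : (orders G).ncard = 4 := by
        rw [hT, Set.ncard_insert_of_notMem (by simp [hab, hac, hnp ha]),
          Set.ncard_insert_of_notMem (by simp [hbc, hnp hb]), Set.ncard_pair (hnp hc)]
      omega
    obtain ⟨φ, hφ⟩ := Quotient.exact' (hinj (show f (Quotient.mk'' y) = f (Quotient.mk'' x) from hxy.symm))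
    exact ⟨φ, hφ⟩
  haveI : Fact (Nat.Prime 2) := ⟨Nat.prime_two⟩
  obtain ⟨P⟩ : Nonempty (Sylow 2 G) := inferInstance
  obtain ⟨i, hi⟩ := IsPGroup.iff_card.1 P.2
  rcases Nat.lt_or_ge i 3 with hi3 | hi3
  swap
  · exact (TwoPOrders.Hyp.no_twoP (p := p) (P := P) ⟨inferInstance, hG, hp, hp2, hord,
      fun x y hx hy => hconj x y (hx.trans hy.symm), ⟨g, hg⟩,
      hi ▸ le_trans (by norm_num) (Nat.pow_le_pow_right two_pos hi3)⟩).elim
  have h2G : 2 ∣ Nat.card G := (Dvd.intro p hg.symm).trans (orderOf_dvd_natCard g)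
  have hi2 : i = 2 := by
    rcases (show i = 0 ∨ i = 1 ∨ i = 2 by omega) with h | h | h
    · exact absurd h fun h => P.ne_bot_of_dvd_card h2G
        (Subgroup.card_eq_one.1 (by rw [hi, h, pow_zero]))
    · exfalso
      subst h
      obtain ⟨m, hm⟩ := h2G
      have hm2 : ¬ 2 ∣ m := fun h => by
        have := P.pow_dvd_card_of_pow_dvd_card (n := 2) (by rw [hm, pow_two]; exact mul_dvd_mul_left 2 h)
        rw [hi] at this
        exact absurd (Nat.le_of_dvd (by norm_num) this) (by norm_num)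
      refine SmallSimple.false_of_min_exponent_one (G := G) Nat.prime_two hm ?_ fun r hr hrm =>
        lt_of_le_of_ne hr.two_le fun e => hm2 (e ▸ hrm)
      by_contra hm1
      have h2p' := Nat.le_of_dvd (Nat.card_pos (α := G)) (hg ▸ orderOf_dvd_natCard g)
      have := hp.two_le
      omega
    · exact h
  subst hi2
  have hsq : ∀ (S : Sylow 2 G) (x : G), x ∈ (S : Subgroup G) → x * x = 1 := fun S x hx => by
    by_cases hx1 : x = 1
    · rw [hx1, one_mul]
    obtain ⟨k, hk⟩ := IsPGroup.iff_orderOf.1 S.2 ⟨x, hx⟩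
    rw [Subgroup.orderOf_mk] at hk
    rcases hord x hx1 with h | h
    · rw [← pow_two, ← (Nat.prime_dvd_prime_iff_eq h Nat.prime_two).1
        (h.dvd_of_dvd_pow (dvd_of_eq hk)), pow_orderOf_eq_one]
    · exact absurd ((Nat.prime_dvd_prime_iff_eq hp Nat.prime_two).1
        (hp.dvd_of_dvd_pow (Dvd.intro_left 2 (h.symm.trans hk)))) hp2
  have hd : GW.DihedralTwo G := fun S => by
    have hS4 : Nat.card (S : Subgroup G) = 4 := by
      rw [S.card_eq_multiplicity, ← P.card_eq_multiplicity, hi]; rfl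
    haveI : Nontrivial (S : Subgroup G) := Finite.one_lt_card_iff_nontrivial.1 (by omega)
    haveI : IsKleinFour (S : Subgroup G) := ⟨hS4, Monoid.exponent_eq_prime_iff Nat.prime_two |>.2
      fun x hx => orderOf_eq_prime (by rw [pow_two]; exact Subtype.ext (hsq S x x.2)) hx⟩
    obtain ⟨e⟩ := IsKleinFour.nonempty_mulEquiv (G₁ := (S : Subgroup G)) (G₂ := DihedralGroup 2)
    exact ⟨2, le_rfl, ⟨e⟩⟩
  rcases GW.isKnown_of_simple h2 G inferInstance hd with ⟨F, iF, iFt, -, -, ⟨e⟩⟩ | h7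
  · exact psl_list h4 hG e
  · exact (Nonempty.elim h7 (alt_seven_false h4)).elim

end Cfsg.Agent.FiveOrbits
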