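import Cfsg.Agent.Lib.Spectrum.Frobenius

/-!
# A module in characteristic two on which elements of order `p` have zero norm

For a group `G` acting on a finite set `X`, the functions `X → ZMod 2` whose sums along all orbits
of elements of order `p` vanish form a module; in its semidirect product with `G` an element over
`g` of order `p` has order `p`, and over `g` of order `m` has order `m` or `2 m`, the latter
occurring as soon as `g` is semiregular on an invariant set of odd total weight.
-/

set_option autoImplicit false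

namespace Cfsg.Agent.Spectrum.Fpf

open Finset

variable (G : Type*) [Group G] (X : Type*) [MulAction G X] (p : ℕ)

/-- Functions with vanishing sums along the orbits of elements of order dividing `p`. -/
def zeroNorm : AddSubgroup (X → ZMod 2) where
  carrier := {f | ∀ u : G, u ^ p = 1 → u ≠ 1 → ∀ x : X, ∑ i ∈ range p, f (u ^ i • x) = 0}
  zero_mem' := by intro u _ _ x; simp
  add_mem' {a b} ha hb := by
    intro u h h1 x
    simp [sum_add_distrib, ha u h h1 x, hb u h h1 x]
  neg_mem' {a} ha := by
    intro u h h1 x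
    simp [sum_neg_distrib, ha u h h1 x]

variable {G X p}

theorem translate_mem (g : G) {f : X → ZMod 2} (hf : f ∈ zeroNorm G X p) :
    (fun x => f (g⁻¹ • x)) ∈ zeroNorm G X p := by
  intro u h h1 x
  have h' : (g⁻¹ * u * g) ^ p = 1 := by
    have := conj_pow (i := p) (a := g⁻¹) (b := u)
    simp only [inv_inv] at this
    rw [this, h, mul_one, inv_mul_cancel]
  have h1' : g⁻¹ * u * g ≠ 1 := fun e => h1 (by
    calc u = g * (g⁻¹ * u * g) * g⁻¹ := by group
      _ = 1 := by rw [e, mul_one, mul_inv_cancel])
  rw [← hf _ h' h1' (g⁻¹ • x)]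
  refine sum_congr rfl fun i _ => congrArg f ?_
  rw [smul_smul, smul_smul]
  congr 1
  have := conj_pow (i := i) (a := g⁻¹) (b := u)
  simp only [inv_inv] at this
  rw [this]
  group

/-- The action of `G` on `zeroNorm`. -/
@[implicit_reducible]
def action : DistribMulAction G (zeroNorm G X p) where
  smul g f := ⟨fun x => (f : X → ZMod 2) (g⁻¹ • x), translate_mem g f.2⟩
  one_smul f := Subtype.ext (funext fun x => by
    change (f : X → ZMod 2) ((1 : G)⁻¹ • x) = _
    simp)
  mul_smul g h f := Subtype.ext (funext fun x => by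
    change (f : X → ZMod 2) ((g * h)⁻¹ • x) = (f : X → ZMod 2) (h⁻¹ • g⁻¹ • x)
    simp [mul_smul])
  smul_zero g := rfl
  smul_add g f f' := rfl

/-- The semidirect product. -/
abbrev Ext (G : Type*) [Group G] (X : Type*) [MulAction G X] (p : ℕ) : Type _ :=
  letI : DistribMulAction G (zeroNorm G X p) := action
  Multiplicative (zeroNorm G X p) ⋊[mulAutHom] G

/-- The projection to `G`. -/
abbrev proj : Ext G X p →* G :=
  letI : DistribMulAction G (zeroNorm G X p) := action
  SemidirectProduct.rightHom

theorem pow_left (b : Ext G X p) (n : ℕ) (x : X) :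
    (((b ^ n).left.toAdd : zeroNorm G X p) : X → ZMod 2) x =
      ∑ i ∈ range n, (b.left.toAdd : X → ZMod 2) (((b.right) ^ i)⁻¹ • x) := by
  induction n with
  | zero => simp
  | succ n ih =>
    have hr : (b ^ n).right = b.right ^ n := by
      change (proj (b ^ n)) = _
      rw [map_pow]
      rfl
    rw [pow_succ, SemidirectProduct.mul_left, toAdd_mul, AddSubgroup.coe_add, Pi.add_apply, ih,
      sum_range_succ, hr]
    rfl

theorem pow_eq_one_of_left {b : Ext G X p} {n : ℕ} (hr : b.right ^ n = 1)
    (hl : ∀ x, ∑ i ∈ range n, (b.left.toAdd : X → ZMod 2) (((b.right) ^ i)⁻¹ • x) = 0) : b ^ n = 1 := by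
  refine SemidirectProduct.ext ?_ ?_
  · refine Multiplicative.toAdd.injective (Subtype.ext (funext fun x => ?_))
    rw [pow_left, hl]
    rfl
  · change proj (b ^ n) = 1
    rw [map_pow]
    exact hr

/-- Over an element of order `p` the order is `p`. -/
theorem pow_prime_eq_one {b : Ext G X p} (h : b.right ^ p = 1) (h1 : b.right ≠ 1) : b ^ p = 1 := by
  refine pow_eq_one_of_left h fun x => ?_
  rw [← (b.left.toAdd : zeroNorm G X p).2 b.right⁻¹ (by rw [inv_pow, h, inv_one])
    (by simpa using h1) x]
  exact sum_congr rfl fun i _ => by rw [inv_pow]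

/-- Over an element of order dividing `m` the order divides `2 m`. -/
theorem pow_two_mul_eq_one {b : Ext G X p} {m : ℕ} (h : b.right ^ m = 1) : b ^ (2 * m) = 1 := by
  refine pow_eq_one_of_left (by rw [mul_comm, pow_mul, h, one_pow]) fun x => ?_
  rw [two_mul, sum_range_add]
  have : ∀ i, b.right ^ (m + i) = b.right ^ i := fun i => by rw [pow_add, h, one_mul]
  simp only [this]
  exact CharTwo.add_self_eq_zero _

/-- An element of order `2 m` over `g`, from an invariant set of odd weight on which `g` is
semiregular. -/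
theorem exists_orderOf_two_mul [DecidableEq X] {g : G} {m : ℕ} (hm : orderOf g = m) (hm0 : 0 < m)
    {f : X → ZMod 2} (hf : f ∈ zeroNorm G X p) (S : Finset X) (hS : ∀ x ∈ S, g • x ∈ S)
    (hfree : ∀ x ∈ S, ∀ i, 0 < i → i < m → g ^ i • x ≠ x) (hsum : ∑ x ∈ S, f x ≠ 0) :
    ∃ b : Ext G X p, orderOf b = 2 * m := by
  -- a point of `S` where the norm of `f` does not vanish
  obtain ⟨x₀, hx₀⟩ : ∃ x, ∑ i ∈ range m, f (g ^ i • x) ≠ 0 := by
    by_contra hcon
    simp only [not_exists, not_not] at hcon
    refine hsum ?_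
    clear hsum
    induction S using Finset.strongInduction with
    | H S ih =>
      rcases S.eq_empty_or_nonempty with rfl | ⟨x, hx⟩
      · simp
      set O := (range m).image (fun i => g ^ i • x) with hO
      have hiter : ∀ i, g ^ i • x ∈ S := by
        intro i
        induction i with
        | zero => simpa using hx
        | succ i ihi => rw [pow_succ', mul_smul]; exact hS _ ihi
      have hOS : O ⊆ S := fun y hy => by
        obtain ⟨i, -, rfl⟩ := mem_image.1 hy
        exact hiter i
      have hxO : x ∈ O := mem_image.2 ⟨0, mem_range.2 hm0, by simp⟩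
      have hinj : Set.InjOn (fun i => g ^ i • x) (range m : Finset ℕ) := by
        intro i hi j hj hij
        simp only [coe_range, Set.mem_Iio] at hi hj
        by_contra hne
        rcases Nat.lt_or_gt_of_ne hne with hlt | hlt
        · exact hfree _ (hiter i) (j - i) (by omega) (by omega)
            (by rw [smul_smul, ← pow_add, Nat.sub_add_cancel hlt.le]; exact hij.symm)
        · exact hfree _ (hiter j) (i - j) (by omega) (by omega)
            (by rw [smul_smul, ← pow_add, Nat.sub_add_cancel hlt.le]; exact hij)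
      rw [← sum_sdiff hOS, hO, sum_image hinj, hcon x, add_zero, ← hO]
      refine ih (S \ O) (sdiff_ssubset hOS ⟨x, hxO⟩) ?_ (fun y hy => hfree y (mem_sdiff.1 hy).1)
      intro y hy
      rw [mem_sdiff] at hy ⊢
      refine ⟨hS y hy.1, fun h => hy.2 ?_⟩
      obtain ⟨i, hi, hiy⟩ := mem_image.1 h
      refine mem_image.2 ⟨(i + (m - 1)) % m, mem_range.2 (Nat.mod_lt _ hm0), ?_⟩
      have : g ^ (m - 1) • g • y = y := by
        rw [smul_smul, ← pow_succ, Nat.sub_add_cancel hm0, ← hm, pow_orderOf_eq_one, one_smul]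
      rw [← hm, pow_mod_orderOf, add_comm, pow_add, mul_smul, hm, hiy, this]
  let b : Ext G X p := ⟨Multiplicative.ofAdd ⟨f, hf⟩, g⁻¹⟩
  refine ⟨b, ?_⟩
  have hr : b.right ^ m = 1 := by
    change (g⁻¹) ^ m = 1
    rw [inv_pow, ← hm, pow_orderOf_eq_one, inv_one]
  have hd : m ∣ orderOf b := by
    rw [← hm, ← orderOf_inv g]
    exact orderOf_map_dvd proj b
  obtain ⟨c, hc⟩ := hd
  have h2 : orderOf b ∣ m * 2 := mul_comm 2 m ▸ orderOf_dvd_of_pow_eq_one (pow_two_mul_eq_one hr)
  rw [hc, Nat.mul_dvd_mul_iff_left hm0] at h2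
  rcases (Nat.dvd_prime Nat.prime_two).1 h2 with rfl | rfl
  · exfalso
    rw [mul_one] at hc
    refine hx₀ ?_
    have := pow_left b m x₀
    rw [show b ^ m = 1 from hc ▸ pow_orderOf_eq_one b] at this
    refine Eq.trans ?_ this.symm
    exact sum_congr rfl fun i _ => by
      change f _ = f (((g⁻¹) ^ i)⁻¹ • x₀)
      rw [inv_pow, inv_inv]
  · rw [hc, mul_comm]

/-- `Ext` is finite. -/
theorem finite_ext [Finite G] [Finite X] : Finite (Ext G X p) :=
  Finite.of_injective (fun b => (b.left.toAdd, b.right)) fun a b h => by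
    simp only [Prod.mk.injEq] at h
    exact SemidirectProduct.ext (Multiplicative.toAdd.injective h.1) h.2

theorem exists_ne_one_proj_eq_one {f : X → ZMod 2} (hf : f ∈ zeroNorm G X p) (h0 : f ≠ 0) :
    ∃ b : Ext G X p, b ≠ 1 ∧ proj b = 1 := by
  refine ⟨⟨Multiplicative.ofAdd ⟨f, hf⟩, 1⟩, fun h => h0 ?_, rfl⟩
  exact congrArg (fun b : Ext G X p => ((b.left.toAdd : zeroNorm G X p) : X → ZMod 2)) h

end Cfsg.Agent.Spectrum.Fpf
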