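import Cfsg.Agent.Lib.PrimeGraph.Module

/-!
Arbitrarily large groups `W ^ k ⋊ X` with a prescribed set of element orders, from a matrix representation of `X`.
-/

set_option autoImplicit false
set_option maxHeartbeats 400000

open Cfsg.Agent.PrimeGraph

namespace Cfsg.Agent.Spectrum.MatrixModule

variable {X : Type} [Group X] {R : Type} [CommRing R] {ι : Type} [Fintype ι] [DecidableEq ι]

/-- A representation acts on square matrices by left multiplication. -/
@[implicit_reducible]
def leftAction (ρ : X →* Matrix ι ι R) : DistribMulAction X (Matrix ι ι R) where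
  smul g A := ρ g * A
  one_smul A := by show ρ 1 * A = A; rw [map_one, one_mul]
  mul_smul g h A := by show ρ (g * h) * A = ρ g * (ρ h * A); rw [map_mul, mul_assoc]
  smul_zero _ := mul_zero _
  smul_add _ := mul_add _

theorem pow_left {W : Type*} [AddCommGroup W] [DistribMulAction X W] (y : ModGroup X W)
    (k : ℕ) : (y ^ k).left.toAdd = ∑ i ∈ Finset.range k, y.right ^ i • y.left.toAdd ∧
      (y ^ k).right = y.right ^ k := by
  induction k with
  | zero => simp
  | succ k ih =>
    refine ⟨?_, ?_⟩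
    · rw [pow_succ, SemidirectProduct.mul_left, Finset.sum_range_succ, ← ih.1, ih.2]
      rfl
    · rw [pow_succ, SemidirectProduct.mul_right, ih.2, pow_succ]

theorem sum_range_mul {S : Type*} [Semiring S] (x : S) {m : ℕ} (h : x ^ m = 1) (j : ℕ) :
    ∑ i ∈ Finset.range (m * j), x ^ i = j • ∑ i ∈ Finset.range m, x ^ i := by
  induction j with
  | zero => simp
  | succ j ih =>
    rw [Nat.mul_succ, Finset.sum_range_add, ih, succ_nsmul]
    congr 1
    exact Finset.sum_congr rfl fun i _ => by rw [pow_add, pow_mul, h, one_pow, one_mul]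

/-- `g ^ m = 1` and `p * m ∣ M` kill the sum up to `M`. -/
theorem ok_of_dvd {p : ℕ} [CharP R p] (ρ : X →* Matrix ι ι R) {g : X} {m M : ℕ} (h : g ^ m = 1)
    (hM : p * m ∣ M) : g ^ M = 1 ∧ ∑ i ∈ Finset.range M, ρ g ^ i = 0 := by
  obtain ⟨j, rfl⟩ := hM
  rw [show p * m * j = m * (p * j) by ring]
  refine ⟨by rw [pow_mul, h, one_pow], ?_⟩
  rw [sum_range_mul _ (by rw [← map_pow, h, map_one]), mul_nsmul', nsmul_eq_mul]
  ext a b
  simp [← Matrix.diagonal_natCast, CharP.cast_eq_zero]

/-- If the sum up to the order does not vanish, the order in the semidirect product is `p` times bigger. -/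
theorem mul_dvd_of_sum {p : ℕ} [hp : Fact p.Prime] [CharP R p] (ρ : X →* Matrix ι ι R) {g : X} {m : ℕ}
    (hm : orderOf g = m) (hs : ∑ i ∈ Finset.range m, ρ g ^ i ≠ 0) :
    ∀ k, g ^ k = 1 → ∑ i ∈ Finset.range k, ρ g ^ i = 0 → p * m ∣ k := by
  intro k hk h0
  obtain ⟨j, rfl⟩ := hm ▸ orderOf_dvd_of_pow_eq_one hk
  rw [mul_comm p]
  refine Nat.mul_dvd_mul_left m ?_
  rw [sum_range_mul _ (by rw [← map_pow, ← hm, pow_orderOf_eq_one, map_one])] at h0
  by_contra hj
  apply hs
  obtain ⟨u, hu⟩ : IsUnit (j : R) := (CharP.isUnit_natCast_iff hp.out).2 hj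
  have := congrArg (fun A => ((u⁻¹ : Rˣ) : R) • A) h0
  rwa [smul_zero, ← Nat.cast_smul_eq_nsmul R, smul_smul, ← hu, Units.inv_mul, one_smul] at this

/-- Arbitrarily large groups with the element orders the divisors of the numbers in `L`. -/
theorem exists_large [Finite X] [Fintype R] [Nontrivial R] [Nonempty ι] (ρ : X →* Matrix ι ι R) (L : List ℕ)
    (hup : ∀ g : X, ∃ M ∈ L, g ^ M = 1 ∧ ∑ i ∈ Finset.range M, ρ g ^ i = 0)
    (hlow : ∀ M ∈ L, ∃ g : X, ∀ k, g ^ k = 1 → ∑ i ∈ Finset.range k, ρ g ^ i = 0 → M ∣ k) (N : ℕ) :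
    ∃ (H : Type) (_ : Group H) (_ : Fintype H), N < Fintype.card H ∧
      (∀ x : H, ∃ M ∈ L, orderOf x ∣ M) ∧ ∀ M ∈ L, ∃ x : H, M ∣ orderOf x := by
  letI := leftAction ρ
  obtain ⟨H, _, _, ⟨e⟩⟩ := exists_small (ModGroup X (Fin (N + 1) → Matrix ι ι R))
  have hsum : ∀ (g : X) (k : ℕ) (w : Fin (N + 1) → Matrix ι ι R) (j : Fin (N + 1)),
      (∑ i ∈ Finset.range k, g ^ i • w) j = (∑ i ∈ Finset.range k, ρ g ^ i) * w j := by
    intro g k w j
    rw [Finset.sum_apply, Finset.sum_mul]
    exact Finset.sum_congr rfl fun i _ => by rw [← map_pow]; rfl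
  refine ⟨H, inferInstance, inferInstance, ?_, fun x => ?_, fun M hM => ?_⟩
  · rw [Fintype.card_eq_nat_card, ← Nat.card_congr e.toEquiv, card_modGroup]
    exact lt_of_lt_of_le (exists_lt_card_pow Finite.one_lt_card N) (Nat.le_mul_of_pos_right _ Nat.card_pos)
  · rw [← e.symm.orderOf_eq]
    set y := e.symm x
    obtain ⟨M, hM, h1, h2⟩ := hup y.right
    refine ⟨M, hM, orderOf_dvd_of_pow_eq_one (SemidirectProduct.ext ?_ ?_)⟩
    · apply Multiplicative.toAdd.injective
      rw [(pow_left y M).1]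
      funext j
      rw [hsum, h2, zero_mul]
      rfl
    · rw [(pow_left y M).2, h1]
      rfl
  · obtain ⟨g, hg⟩ := hlow M hM
    let y : ModGroup X (Fin (N + 1) → Matrix ι ι R) := ⟨Multiplicative.ofAdd (fun _ => 1), g⟩
    refine ⟨e y, ?_⟩
    rw [e.orderOf_eq]
    have hone := pow_orderOf_eq_one y
    refine hg _ ((pow_left y _).2.symm.trans (congrArg SemidirectProduct.right hone)) ?_
    have h := (pow_left y (orderOf y)).1
    rw [hone] at h
    have h' := congrFun h 0
    rw [hsum, show y.left.toAdd 0 = (1 : Matrix ι ι R) from rfl, mul_one] at h'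
    exact h'.symm

end Cfsg.Agent.Spectrum.MatrixModule
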