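import Cfsg.Agent.Lib.Spectrum.Frobenius

/-!
# Solvable Frobenius groups `V ⋊ C` with `C` an explicit list of matrices
-/

set_option autoImplicit false

namespace Cfsg.Agent.Spectrum

variable {R : Type} [CommRing R] [Fintype R] [DecidableEq R] {n : ℕ}

/-- The natural action of a group of matrices on column vectors. -/
@[implicit_reducible]
def matAction (C : Subgroup (Matrix (Fin n) (Fin n) R)ˣ) : DistribMulAction C (Fin n → R) where
  smul c v := Matrix.mulVec ((c : (Matrix (Fin n) (Fin n) R)ˣ) : Matrix (Fin n) (Fin n) R) v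
  one_smul := Matrix.one_mulVec
  mul_smul c d v := (Matrix.mulVec_mulVec v _ _).symm
  smul_zero c := Matrix.mulVec_zero _
  smul_add c := Matrix.mulVec_add _

/-- A solvable witness for a spectrum, from an explicit fixed-point-free list of matrices. -/
theorem exists_solvable_witness [Nontrivial R] {p : ℕ} (hp : p.Prime) (hchar : (p : R) = 0)
    (hn : 0 < n) (L : List (Matrix (Fin n) (Fin n) R)) (h1 : 1 ∈ L)
    (hmul : ∀ a ∈ L, ∀ b ∈ L, a * b ∈ L) (hs : Group.IsSolvable (listSubgroup L h1 hmul))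
    (hfpf : ∀ c ∈ L, c ≠ 1 → ∃ e : R, (c - 1).det * e = 1) (K : Finset ℕ)
    (hall : ∀ c ∈ L, ∃ k ∈ K, c ^ k = 1)
    (hK : ∀ k ∈ K, 1 < k ∧ ∃ c ∈ L, c ^ k = 1 ∧ ∀ m < k, 0 < m → c ^ m ≠ 1) :
    ∃ (H : Type) (_ : Group H) (_ : Fintype H), Group.IsSolvable H ∧
      Set.range (orderOf : H → ℕ) = {d | ∃ k ∈ insert p K, d ∣ k} := by
  classical
  set C := listSubgroup L h1 hmul
  let _ : DistribMulAction C (Fin n → R) := matAction C
  have : Fintype C := Fintype.ofFinite C
  have hfpf' : ∀ c : C, c ≠ 1 → ∀ v : Fin n → R, c • v = v → v = 0 := by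
    intro c hc v hv
    obtain ⟨e, he⟩ := hfpf _ c.2 fun h => hc (Subtype.ext (Units.ext h))
    set A := ((c : (Matrix (Fin n) (Fin n) R)ˣ) : Matrix (Fin n) (Fin n) R) - 1 with hA
    have h0 : A.mulVec v = 0 := by
      rw [hA, Matrix.sub_mulVec, Matrix.one_mulVec, sub_eq_zero]
      exact hv
    have h : A.adjugate.mulVec (A.mulVec v) = 0 := by rw [h0, Matrix.mulVec_zero]
    rw [Matrix.mulVec_mulVec, Matrix.adjugate_mul, Matrix.smul_mulVec, Matrix.one_mulVec] at h
    have := congrArg (fun w => e • w) h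
    simp only [smul_zero, smul_smul, mul_comm e, he, one_smul] at this
    exact this
  have hunit : ∀ a ∈ L, ∀ k, 0 < k → a ^ k = 1 → ∃ u : C, (u : (Matrix (Fin n) (Fin n) R)ˣ).val = a :=
    fun a ha k hk h => ⟨⟨Units.ofPowEqOne a k h hk.ne', ha⟩, rfl⟩
  let φ : C →* Matrix (Fin n) (Fin n) R := (Units.coeHom _).comp C.subtype
  have hφ : Function.Injective φ := fun a b h => Subtype.ext (Units.ext h)
  have hC : Set.range (orderOf : C → ℕ) = {d | ∃ k ∈ K, d ∣ k} := by
    refine range_orderOf_eq_divisors K (fun x => ?_) (fun k hk => ?_)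
    · obtain ⟨k, hk, h⟩ := hall _ x.2
      exact ⟨k, hk, hφ (by rw [map_pow, map_one]; exact h)⟩
    · obtain ⟨hk1, a, ha, hak, hamin⟩ := hK k hk
      obtain ⟨u, hu⟩ := hunit a ha k (by omega) hak
      refine ⟨by omega, u, ?_⟩
      rw [← orderOf_injective φ hφ u]
      exact orderOf_eq_of_forall (by omega) (by rw [show φ u = a from hu]; exact hak)
        (by rw [show φ u = a from hu]; exact hamin)
  have hfin : Fintype (Multiplicative (Fin n → R) ⋊[mulAutHom] C) :=
    Fintype.ofEquiv _ SemidirectProduct.equivProd.symm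
  have := hs
  refine ⟨_, inferInstance, hfin, solvable_semidirect, ?_⟩
  refine range_orderOf_semidirect hfpf' hp (fun v => ?_) ⟨fun _ => 1, fun h => ?_⟩ K hC
    fun k hk => (hK k hk).1
  · ext i
    simp [hchar]
  · exact one_ne_zero (congrFun h ⟨0, hn⟩)

/-- `X ^ k` reduced modulo `X ^ 3 - a X ^ 2 - b X - c`. -/
def powCoeff {S : Type*} [CommRing S] (a b c : S) : ℕ → S × S × S
  | 0 => (0, 0, 1)
  | k + 1 => let r := powCoeff a b c k; (r.1 * a + r.2.1, r.1 * b + r.2.2, r.1 * c)

/-- Powers of a matrix satisfying a cubic. -/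
theorem pow_eq_powCoeff {S : Type*} [CommRing S] {m : ℕ} {M : Matrix (Fin m) (Fin m) S} {a b c : S}
    (h : M ^ 3 = a • M ^ 2 + b • M + c • 1) (k : ℕ) :
    M ^ k = (powCoeff a b c k).1 • M ^ 2 + (powCoeff a b c k).2.1 • M
      + (powCoeff a b c k).2.2 • 1 := by
  induction k with
  | zero => simp [powCoeff]
  | succ k ih =>
    rw [pow_succ, ih, add_mul, add_mul, smul_mul_assoc, smul_mul_assoc, smul_mul_assoc, ← pow_succ,
      ← sq, one_mul, h]
    simp only [powCoeff]
    module

/-- If the coefficient triple of `X ^ k` is `(0, 0, 1)` then `M ^ k = 1`. -/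
theorem pow_eq_one_of_powCoeff {S : Type*} [CommRing S] {m : ℕ} {M : Matrix (Fin m) (Fin m) S}
    {a b c : S} (h : M ^ 3 = a • M ^ 2 + b • M + c • 1) {k : ℕ}
    (hk : powCoeff a b c k = (0, 0, 1)) : M ^ k = 1 := by
  simpa [hk] using pow_eq_powCoeff h k

/-- Cayley–Hamilton in dimension three. -/
theorem cayley_hamilton_three {S : Type*} [CommRing S] (M : Matrix (Fin 3) (Fin 3) S) :
    M ^ 3 = M.trace • M ^ 2 + (-M.adjugate.trace) • M + M.det • 1 := by
  ext i j
  fin_cases i <;> fin_cases j <;>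
    simp [pow_succ, Matrix.mul_apply, Fin.sum_univ_three, Matrix.trace_fin_three, Matrix.det_fin_three,
      Matrix.adjugate_fin_three] <;> ring

end Cfsg.Agent.Spectrum
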