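import Cfsg.Agent.Lib.GL.OrthTori
import Cfsg.Agent.Lib.GL.OrthResidual
import Cfsg.Agent.Lib.Zsigmondy.Basic

/-!
`Ω(2n+1, q)`, q odd, `n ≥ 3`, has no element of order `p (q ^ (n-1) + 1)`: such an element would fix a
three-dimensional nondegenerate space pointwise up to a unipotent, and act on the sphere `Q = 1` by an odd
permutation.
-/

set_option autoImplicit false

open Matrix Polynomial

namespace Cfsg.Agent.Spectrum.OddOrth

universe u

variable {F : Type u} [Field F] [Fintype F]

/-- Spheres of the three dimensional form. -/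
theorem card_sphere_three {α : F} (h2 : (2 : F) ≠ 0) (hα : α ≠ 0) :
    Nat.card {v : Unit ⊕ (Fin 1 ⊕ Fin 1) → F // quadFormOdd 1 F v = α} =
        Fintype.card F ^ 2 + Fintype.card F ∨
      Nat.card {v : Unit ⊕ (Fin 1 ⊕ Fin 1) → F // quadFormOdd 1 F v = α} + Fintype.card F =
        Fintype.card F ^ 2 := by
  classical
  let e : {v : Unit ⊕ (Fin 1 ⊕ Fin 1) → F // quadFormOdd 1 F v = α} ≃
      ({a : F // a ≠ 0} × F) ⊕ (F × {c : F // c ^ 2 = α}) :=
    { toFun := fun v => if h : v.1 (.inr (.inl 0)) = 0 then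
          Sum.inr (v.1 (.inr (.inr 0)), ⟨v.1 (.inl ()), by simpa [quadFormOdd, h] using v.2⟩)
        else Sum.inl (⟨v.1 (.inr (.inl 0)), h⟩, v.1 (.inl ()))
      invFun := Sum.elim
        (fun x => ⟨Sum.elim (fun _ => x.2) (Sum.elim (fun _ => x.1.1) (fun _ => (α - x.2 ^ 2) / x.1.1)), by
          simp [quadFormOdd, mul_div_cancel₀ _ x.1.2]⟩)
        (fun x => ⟨Sum.elim (fun _ => x.2.1) (Sum.elim (fun _ => 0) (fun _ => x.1)), by
          simp [quadFormOdd, x.2.2]⟩)
      left_inv := fun v => by
        obtain ⟨v, hv⟩ := v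
        by_cases h : v (.inr (.inl 0)) = 0
        · simp only [h, dite_true, Sum.elim_inr]
          refine Subtype.ext (funext fun i => ?_)
          rcases i with ⟨⟩ | i | i
          · rfl
          · simp only [Sum.elim_inr, Sum.elim_inl]; rw [Subsingleton.elim i 0, h]
          · simp only [Sum.elim_inr]; rw [Subsingleton.elim i 0]
        · simp only [h, dite_false, Sum.elim_inl]
          refine Subtype.ext (funext fun i => ?_)
          rcases i with ⟨⟩ | i | i
          · rfl
          · simp only [Sum.elim_inr, Sum.elim_inl]; rw [Subsingleton.elim i 0]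
          · simp only [Sum.elim_inr]
            rw [Subsingleton.elim i 0, div_eq_iff h]
            simp [quadFormOdd] at hv
            linear_combination -hv
      right_inv := fun x => by
        rcases x with ⟨a, c⟩ | ⟨b, c⟩
        · simp [a.2]
        · simp }
  rw [Nat.card_congr e, Nat.card_sum, Nat.card_prod, Nat.card_prod, Nat.card_eq_fintype_card,
    Fintype.card_subtype_compl, Fintype.card_subtype_eq, Nat.card_eq_fintype_card (α := F)]
  have hq : 1 ≤ Fintype.card F := Fintype.card_pos
  rcases em (IsSquare α) with ⟨r, hr⟩ | hns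
  · left
    have hr0 : r ≠ 0 := by rintro rfl; simp [hr] at hα
    have hne : r ≠ -r := fun h => hr0 ((mul_eq_zero.1 (by linear_combination h : (2 : F) * r = 0)).resolve_left h2)
    rw [Nat.card_congr (Equiv.subtypeEquivRight (q := fun x => x ∈ ({r, -r} : Finset F))
      fun x => by rw [hr, ← sq, sq_eq_sq_iff_eq_or_eq_neg]; simp), Nat.card_eq_fintype_card (α := {x // x ∈ _}),
      Fintype.card_coe, Finset.card_pair hne]
    obtain ⟨k, hk⟩ := Nat.exists_eq_add_of_le hq
    rw [hk, Nat.add_sub_cancel_left]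
    ring
  · right
    have : IsEmpty {c : F // c ^ 2 = α} := ⟨fun c => hns ⟨c.1, c.2.symm.trans (sq c.1)⟩⟩
    rw [Nat.card_of_isEmpty (α := {c : F // c ^ 2 = α}), mul_zero, Nat.add_zero]
    obtain ⟨k, hk⟩ := Nat.exists_eq_add_of_le hq
    rw [hk, Nat.add_sub_cancel_left]
    ring

omit [Fintype F] in
/-- An isometry of odd dimension without fixed vectors has determinant `-1`. -/
theorem det_eq_neg_one {ι : Type} [Fintype ι] [DecidableEq ι] (h2 : (2 : F) ≠ 0)
    {Q : QuadraticForm F (ι → F)} (hQ : (QuadraticMap.polarBilin Q).Nondegenerate) (hodd : Odd (Fintype.card ι))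
    (f : Module.End F (ι → F)) (hf : ∀ v, Q (f v) = Q v) (hfix : ∀ v, f v = v → v = 0) :
    LinearMap.det f = -1 := by
  set B := QuadraticMap.polarBilin Q with hB
  set A := LinearMap.toMatrix' f with hA
  set G := LinearMap.toMatrix₂' F B with hG
  have hGd : G.det ≠ 0 :=
    Matrix.nondegenerate_iff_det_ne_zero.1 (LinearMap.BilinForm.nondegenerate_toMatrix'_iff.2 hQ)
  have hcomp : B.compl₁₂ f f = B := LinearMap.ext₂ fun v w => by
    simp only [LinearMap.compl₁₂_apply, hB, QuadraticMap.polarBilin_apply_apply, QuadraticMap.polar, ← map_add, hf]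
  have hrel : A.transpose * G * A = G := by
    have h := LinearMap.toMatrix₂'_compl₁₂ B f f
    rw [hcomp] at h
    exact h.symm
  have hne : (A - 1).det ≠ 0 := by
    intro h0
    obtain ⟨v, hv, hv'⟩ := Matrix.exists_mulVec_eq_zero_iff.2 h0
    refine hv (hfix v ?_)
    rw [hA, Matrix.sub_mulVec, LinearMap.toMatrix'_mulVec, Matrix.one_mulVec, sub_eq_zero] at hv'
    exact hv'
  have e : (A - 1).transpose * G * A = G * (1 - A) := by
    rw [Matrix.transpose_sub, Matrix.transpose_one, Matrix.sub_mul, Matrix.sub_mul, Matrix.one_mul, hrel,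
      Matrix.mul_sub, Matrix.mul_one]
  have h := congrArg Matrix.det e
  rw [Matrix.det_mul, Matrix.det_mul, Matrix.det_mul, Matrix.det_transpose,
    show (1 : Matrix ι ι F) - A = -(A - 1) from (neg_sub A 1).symm, Matrix.det_neg, hodd.neg_one_pow] at h
  rw [← LinearMap.det_toMatrix', ← hA]
  exact mul_left_cancel₀ (mul_ne_zero hne hGd) (by linear_combination h)

variable {n : ℕ}

set_option maxHeartbeats 1600000 in
/-- The main lemma. -/
theorem no_mixed_order (p : ℕ) [hp : Fact p.Prime] [CharP F p] (hodd : Odd (Fintype.card F)) (hn : 3 ≤ n)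
    {Q : QuadraticForm F (Unit ⊕ (Fin n ⊕ Fin n) → F)} (hQdef : Q = Forms.quadOdd n F)
    (g : ↥(isometryGroup F ⇑Q)) (hg : g ∈ Omega F ⇑Q)
    (hord : orderOf g = p * (Fintype.card F ^ (n - 1) + 1)) : False := by
  classical
  have h2 := Forms.two_ne_zero_of_odd_card hodd
  have hQnd : (QuadraticMap.polarBilin Q).Nondegenerate := hQdef ▸ Forms.quadOdd_nondegenerate h2 n
  obtain ⟨kq, hkp, hq⟩ := FiniteField.card F p
  set q := Fintype.card F with hqdef
  have hq1 : 1 < q := Fintype.one_lt_card
  have hp2 : p ≠ 2 := by rintro rfl; exact h2 (by exact_mod_cast CharP.cast_eq_zero F 2)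
  set e := n - 1 with he
  set N := q ^ e + 1 with hN
  -- the primitive prime
  obtain ⟨r, hr, hrdvd, hrprim⟩ := Zsigmondy.exists_primitive_prime_divisor q (2 * e) hq1 (by omega)
    (fun h => by rw [h.1] at hodd; exact absurd hodd (by decide)) (fun h => by omega)
  have := Fact.mk hr
  have hpq : p ∣ q := hq ▸ dvd_pow_self p kq.ne_zero
  have hrp : ¬ r ∣ q := fun h => by
    have h1 : r ∣ q ^ (2 * e) := dvd_pow h (by omega)
    have := Nat.dvd_sub h1 hrdvd
    rw [Nat.sub_sub_self (Nat.one_le_pow _ _ (by omega))] at this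
    exact hr.ne_one (Nat.dvd_one.1 this)
  have hr2 : r ≠ 2 := by
    rintro rfl
    exact hrprim 1 one_pos (by omega) (by rw [pow_one]; exact (Nat.Odd.sub_odd hodd odd_one).two_dvd)
  have hrN : r ∣ N := by
    have : q ^ (2 * e) - 1 = (q ^ e - 1) * N := by
      rw [hN, mul_comm 2 e, pow_mul, mul_comm, ← Nat.sq_sub_sq, one_pow]
    exact (hr.dvd_mul.1 (this ▸ hrdvd)).resolve_left (hrprim e (by omega) (by omega))
  have hdiv : ∀ d, r ∣ q ^ d - 1 → 2 * e ∣ d := by
    intro d hd
    have hone : ∀ k, r ∣ q ^ k - 1 ↔ ((q : ZMod r)) ^ k = 1 := fun k => by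
      rw [← ZMod.natCast_eq_zero_iff, Nat.cast_sub (Nat.one_le_pow _ _ (by omega)), Nat.cast_pow, Nat.cast_one,
        sub_eq_zero]
    have ho : orderOf (q : ZMod r) = 2 * e :=
      (orderOf_eq_iff (by omega)).2 ⟨(hone _).1 hrdvd, fun k hk hk0 h => hrprim k hk0 hk ((hone k).2 h)⟩
    rw [← ho]
    exact orderOf_dvd_of_pow_eq_one ((hone d).1 hd)
  have hN0 : N ≠ 0 := by omega
  have hN2 : 2 ∣ N := (Odd.add_one (hodd.pow)).two_dvd
  have hcop : Nat.Coprime N p := by
    rw [Nat.coprime_comm, hp.out.coprime_iff_not_dvd]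
    exact fun h => hp.out.ne_one (Nat.dvd_one.1 ((Nat.dvd_add_right (dvd_pow hpq (by omega))).1 h))
  -- endomorphisms
  let V := Unit ⊕ (Fin n ⊕ Fin n) → F
  let M : ↥(isometryGroup F ⇑Q) →* Matrix (Unit ⊕ (Fin n ⊕ Fin n)) (Unit ⊕ (Fin n ⊕ Fin n)) F :=
    (Units.coeHom _).comp (isometryGroup F ⇑Q).subtype
  let φ : ↥(isometryGroup F ⇑Q) →* Module.End F V := Matrix.toLinAlgEquiv'.toMonoidHom.comp M
  have hφinj : Function.Injective φ := fun a b h =>
    Subtype.ext (Units.ext (Matrix.toLinAlgEquiv'.injective h))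
  have hφQ : ∀ a v, Q (φ a v) = Q v := fun a v => QForm.act_map Q a v
  have hdet : ∀ a, a ∈ Omega F ⇑Q → LinearMap.det (φ a) = 1 := fun a ha => by
    let χ : ↥(isometryGroup F ⇑Q) →* Fˣ :=
      Matrix.GeneralLinearGroup.det.comp (isometryGroup F ⇑Q).subtype
    have h1 := congrArg Units.val (QForm.omega_le_ker Q χ ha)
    show LinearMap.det (Matrix.toLin' (M a)) = 1
    rw [LinearMap.det_toLin']
    exact h1
  set u := φ (g ^ N) with hu
  set s := φ (g ^ p) with hs
  have hcomm : ∀ i j : ℕ, Commute (φ (g ^ i)) (φ (g ^ j)) := fun i j => (Commute.pow_pow_self g i j).map φ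
  have hsN : s ^ N = 1 := by rw [hs, ← map_pow, ← pow_mul, ← hord, pow_orderOf_eq_one, map_one]
  have hup : u ^ p = 1 := by rw [hu, ← map_pow, ← pow_mul, mul_comm, ← hord, pow_orderOf_eq_one, map_one]
  have hsne : ∀ k, s ^ k = 1 → N ∣ k := fun k hk => by
    rw [hs, ← map_pow, map_eq_one_iff φ hφinj, ← pow_mul, ← orderOf_dvd_iff_pow_eq_one, hord] at hk
    exact Nat.dvd_of_mul_dvd_mul_left hp.out.pos hk
  have hu1 : u ≠ 1 := fun h => by
    rw [hu, map_eq_one_iff φ hφinj, ← orderOf_dvd_iff_pow_eq_one, hord] at h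
    have := Nat.le_of_dvd (Nat.pos_of_ne_zero hN0) h
    have := Nat.mul_lt_mul_of_pos_right hp.out.one_lt (Nat.pos_of_ne_zero hN0)
    omega
  set x := s ^ (N / r) with hx
  have hxr : x ^ r = 1 := by rw [hx, ← pow_mul, Nat.div_mul_cancel hrN, hsN]
  have hx1 : x ≠ 1 := fun h => by
    have := Nat.le_of_dvd (Nat.div_pos (Nat.le_of_dvd (Nat.pos_of_ne_zero hN0) hrN) hr.pos) (hsne _ h)
    exact absurd (Nat.div_lt_self (Nat.pos_of_ne_zero hN0) hr.one_lt) (not_lt.2 this)
  have hxg : x = φ (g ^ (p * (N / r))) := by rw [hx, hs, ← map_pow, ← pow_mul]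
  have hcx : ∀ i, Commute (φ (g ^ i)) x := fun i => by rw [hxg]; exact hcomm i _
  -- the projection on the fixed space of `x`
  have hrF : (r : F) ≠ 0 := fun h =>
    hrp (((Nat.prime_dvd_prime_iff_eq hp.out hr).1 ((CharP.cast_eq_zero_iff F p r).1 h)) ▸ hpq)
  set E : Module.End F V := (r : F)⁻¹ • ∑ i ∈ Finset.range r, x ^ i with hE
  have hxE : x * E = E := by
    rw [hE, mul_smul_comm]
    congr 1
    have h := Finset.sum_range_succ' (fun i => x ^ i) r
    rw [Finset.sum_range_succ, hxr, pow_zero] at h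
    rw [Finset.mul_sum]
    simp only [← pow_succ']
    exact (add_right_cancel h).symm
  have hEfix : ∀ v, x v = v → E v = v := by
    intro v hv
    have hk : ∀ i, (x ^ i) v = v := fun i => by
      induction i with
      | zero => rfl
      | succ i ih => rw [pow_succ, Module.End.mul_apply, hv, ih]
    simp only [hE, LinearMap.smul_apply, LinearMap.coe_sum, Finset.sum_apply, hk, Finset.sum_const,
      Finset.card_range]
    rw [← Nat.cast_smul_eq_nsmul F, smul_smul, inv_mul_cancel₀ hrF, one_smul]
  have hxEv : ∀ v, x (E v) = E v := fun v => LinearMap.congr_fun hxE v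
  have hEE : E * E = E := LinearMap.ext fun v => hEfix _ (hxEv v)
  have hEEv : ∀ v, E (E v) = E v := fun v => LinearMap.congr_fun hEE v
  have hcE : ∀ f : Module.End F V, Commute f x → ∀ v, f (E v) = E (f v) := by
    intro f hf v
    have : Commute f E := (Commute.sum_right _ _ _ fun i _ => hf.pow_right i).smul_right _
    exact LinearMap.congr_fun this v
  set B := QuadraticMap.polarBilin Q with hB
  have hBφ : ∀ a v w, B (φ a v) (φ a w) = B v w := fun a v w => by
    simp only [hB, QuadraticMap.polarBilin_apply_apply, QuadraticMap.polar, ← map_add, hφQ]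
  have horth : ∀ c w, x c = c → E w = 0 → B c w = 0 := by
    intro c w hc hw
    have hxi : ∀ i, B c ((x ^ i) w) = B c w := fun i => by
      induction i with
      | zero => rfl
      | succ i ih =>
        rw [pow_succ', Module.End.mul_apply]
        conv_lhs => rw [← hc]
        rw [hxg, hBφ, ← hxg, ih]
    have h := congrArg (B c) hw
    simp only [hE, LinearMap.smul_apply, LinearMap.coe_sum, Finset.sum_apply, map_smul, map_sum, hxi, map_zero,
      Finset.sum_const, Finset.card_range] at h
    rw [← Nat.cast_smul_eq_nsmul F, smul_smul, inv_mul_cancel₀ hrF, one_smul] at h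
    exact h
  set C : Submodule F V := LinearMap.range E with hC
  set W : Submodule F V := LinearMap.ker E with hW
  have hmemC : ∀ v, v ∈ C ↔ E v = v := fun v => ⟨by rintro ⟨w, rfl⟩; exact hEEv w, fun h => ⟨v, h⟩⟩
  have hsplit : ∀ v, v - E v ∈ W := fun v => by rw [hW, LinearMap.mem_ker, map_sub, hEEv, sub_self]
  -- invariant subspaces of `W`
  have hirr : ∀ U : Submodule F V, U ≤ W → (∀ v ∈ U, x v ∈ U) → U ≠ ⊥ → 2 * e ∣ Module.finrank F U := by
    intro U hUW hUx hU0
    let τ₀ : U → U := fun v => ⟨x v, hUx v v.2⟩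
    have hτ : ∀ (i : ℕ) (v : U), ((τ₀^[i]) v : V) = (x ^ i) (v : V) := by
      intro i v
      induction i with
      | zero => rfl
      | succ i ih =>
        rw [Function.iterate_succ_apply', pow_succ', Module.End.mul_apply, ← ih]
    have hbij : Function.Bijective τ₀ := by
      have hperiod : ∀ v, τ₀^[r] v = v := fun v => Subtype.ext (by rw [hτ, hxr]; rfl)
      refine ⟨fun a b h => ?_, fun v => ⟨τ₀^[r - 1] v, ?_⟩⟩
      · rw [← hperiod a, ← hperiod b, show r = (r - 1) + 1 by have := hr.pos; omega,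
          Function.iterate_succ_apply, Function.iterate_succ_apply, h]
      · rw [← Function.iterate_succ_apply' τ₀, show (r - 1).succ = r by have := hr.pos; omega, hperiod]
    let τ : Equiv.Perm U := Equiv.ofBijective τ₀ hbij
    have hτpow : ∀ (i : ℕ) (v : U), (τ ^ i) v = τ₀^[i] v := fun i v => by rw [Equiv.Perm.coe_pow]; rfl
    have hfix : τ.supportᶜ = {0} := by
      ext v
      rw [Finset.mem_compl, Equiv.Perm.mem_support, not_not, Finset.mem_singleton]
      constructor
      · intro h
        have hv : x (v : V) = v := congrArg Subtype.val h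
        exact Subtype.ext ((hEfix _ hv).symm.trans (LinearMap.mem_ker.1 (hUW v.2)))
      · rintro rfl
        exact Subtype.ext (map_zero x)
    have hmod := Equiv.Perm.card_compl_support_modEq (p := r) (n := 1) (σ := τ) (Equiv.ext fun v => by
      rw [pow_one, hτpow]; exact Subtype.ext (by rw [hτ, hxr]; rfl))
    rw [hfix, Finset.card_singleton, ← Nat.card_eq_fintype_card, Module.natCard_eq_pow_finrank (K := F),
      Nat.card_eq_fintype_card] at hmod
    exact hdiv _ ((Nat.modEq_iff_dvd' (Nat.one_le_pow _ _ (by omega))).1 hmod)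
  have hW0 : W ≠ ⊥ := fun h => hx1 (LinearMap.ext fun v => by
    have := hsplit v
    rw [h, Submodule.mem_bot, sub_eq_zero] at this
    rw [this, hxEv]; rfl)
  have hVdim : Module.finrank F V = 2 * n + 1 := by simp [V]; ring
  have hWdim : Module.finrank F W = 2 * e := by
    obtain ⟨k, hk⟩ := hirr W le_rfl (fun v hv => by
      rw [hW, LinearMap.mem_ker] at hv ⊢
      rw [← hcE x (Commute.refl x), hv, map_zero]) hW0
    have hle := Submodule.finrank_le W
    rw [hVdim] at hle
    have hpos : Module.finrank F W ≠ 0 := fun h => hW0 (Submodule.finrank_eq_zero.1 h)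
    rcases k with _ | _ | k
    · exact absurd (hk.trans (mul_zero _)) hpos
    · simpa using hk
    · rw [hk] at hle
      have : 2 * e * 2 ≤ 2 * e * (k + 1 + 1) := Nat.mul_le_mul_left _ (by omega)
      generalize 2 * e * (k + 1 + 1) = K at this hle
      omega
  have hCdim : Module.finrank F C = 3 := by
    have := LinearMap.finrank_range_add_finrank_ker E
    rw [← hC, ← hW, hWdim, hVdim] at this
    omega
  have hsimple : ∀ f : Module.End F V, Commute f x → ∀ w₀, E w₀ = 0 → w₀ ≠ 0 → f w₀ = 0 →
      ∀ w, E w = 0 → f w = 0 := by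
    intro f hf w₀ hw₀ hne hfw w hw
    set U := LinearMap.ker f ⊓ W with hU
    have hd := hirr U inf_le_right (fun v hv => by
      rw [hU, Submodule.mem_inf, LinearMap.mem_ker, LinearMap.mem_ker] at hv
      rw [hU, Submodule.mem_inf, LinearMap.mem_ker, LinearMap.mem_ker]
      exact ⟨by rw [← Module.End.mul_apply, hf.eq, Module.End.mul_apply, hv.1, map_zero],
        by rw [← hcE x (Commute.refl x), hv.2, map_zero]⟩)
      (fun h => hne (by
        have : w₀ ∈ U := ⟨hfw, hw₀⟩
        rwa [h, Submodule.mem_bot] at this))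
    have hle : U ≤ W := inf_le_right
    have heq : U = W := Submodule.eq_of_le_of_finrank_le hle (by
      rw [hWdim]
      refine Nat.le_of_dvd (Nat.pos_of_ne_zero fun h => hne ?_) hd
      have : w₀ ∈ U := ⟨hfw, hw₀⟩
      rwa [Submodule.finrank_eq_zero.1 h, Submodule.mem_bot] at this)
    have : w ∈ U := heq ▸ (hw : w ∈ W)
    exact this.1
  obtain ⟨w₁, hw₁W, hw₁⟩ := Submodule.exists_mem_ne_zero_of_ne_bot hW0
  -- the unipotent part lives on `C`
  set ν := u - 1 with hν
  have hcνx : Commute ν x := (hcx N).sub_left (Commute.one_left x)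
  have hνp : ν ^ p = 0 := by
    have : CharP (Module.End F V) p := charP_of_injective_algebraMap (algebraMap F _).injective p
    rw [hν, sub_pow_char_of_commute _ (Commute.one_right u), hup, one_pow, sub_self]
  have hνW : ∀ w, E w = 0 → ν w = 0 := by
    have hex : ∃ w₀, E w₀ = 0 ∧ w₀ ≠ 0 ∧ ν w₀ = 0 := by
      have key : ∀ k, ∀ w, E w = 0 → w ≠ 0 → (ν ^ k) w = 0 → ∃ w₀, E w₀ = 0 ∧ w₀ ≠ 0 ∧ ν w₀ = 0 := by
        intro k
        induction k with
        | zero => intro w _ hw0 h; exact absurd h hw0
        | succ k ih =>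
          intro w hw hw0 h
          by_cases h0 : ν w = 0
          · exact ⟨w, hw, hw0, h0⟩
          · exact ih (ν w) (by rw [← hcE ν hcνx, hw, map_zero]) h0 (by rwa [pow_succ, Module.End.mul_apply] at h)
      exact key p w₁ hw₁W hw₁ (by rw [hνp]; rfl)
    obtain ⟨w₀, h1, h2', h3⟩ := hex
    exact hsimple ν hcνx w₀ h1 h2' h3
  have hνE : ∀ v, ν v = ν (E v) := fun v => by
    rw [← sub_eq_zero, ← map_sub]; exact hνW _ (hsplit v)
  have hνC : ∀ v, E (ν v) = ν v := fun v => by rw [← hcE ν hcνx, ← hνE]
  have hnonsq : ν * ν ≠ 0 := by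
    intro h0
    have hrk : Module.finrank F (LinearMap.range ν) ≤ 1 := by
      set νC := ν.domRestrict C with hνCdef
      have hr1 : LinearMap.range ν = LinearMap.range νC := by
        refine le_antisymm ?_ (LinearMap.range_comp_le_range _ _)
        rintro _ ⟨v, rfl⟩
        exact ⟨⟨E v, ⟨v, rfl⟩⟩, (hνE v).symm⟩
      have h1 := LinearMap.finrank_range_add_finrank_ker νC
      rw [hCdim, ← hr1] at h1
      have h2' : Module.finrank F (LinearMap.range ν) ≤ Module.finrank F (LinearMap.ker νC) := by
        let j : LinearMap.range ν →ₗ[F] LinearMap.ker νC :=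
          LinearMap.codRestrict _ (LinearMap.codRestrict C (LinearMap.range ν).subtype fun v => by
            obtain ⟨w, hw⟩ := v.2
            rw [hmemC]
            show E (v : V) = v
            rw [← hw, hνC]) fun v => by
            obtain ⟨w, hw⟩ := v.2
            show ν (v : V) = 0
            rw [← hw, ← Module.End.mul_apply, h0]; rfl
        refine LinearMap.finrank_le_finrank_of_injective (f := j) fun a b h => ?_
        have := congrArg (fun t : LinearMap.ker νC => ((t : C) : V)) h
        exact Subtype.ext this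
      omega
    obtain ⟨a, ha⟩ := finrank_le_one_iff.1 hrk
    have hskew : ∀ v, B (ν v) v = 0 := by
      intro v
      have h := hBφ (g ^ N) v v
      rw [← hu, show u = ν + 1 by rw [hν, sub_add_cancel]] at h
      simp only [LinearMap.add_apply, Module.End.one_apply, map_add, LinearMap.add_apply] at h
      have hsymm : B v (ν v) = B (ν v) v := by
        simp only [hB, QuadraticMap.polarBilin_apply_apply, QuadraticMap.polar_comm]
      have hνν : B (ν v) (ν v) = 0 := by
        have h' := hBφ (g ^ N) (ν v) v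
        rw [← hu, show u = ν + 1 by rw [hν, sub_add_cancel]] at h'
        simp only [LinearMap.add_apply, Module.End.one_apply, map_add, ← Module.End.mul_apply, h0,
          LinearMap.zero_apply, map_zero, zero_add] at h'
        linear_combination h'
      rw [hνν, hsymm] at h
      have : (2 : F) * B (ν v) v = 0 := by linear_combination h
      exact (mul_eq_zero.1 this).resolve_left h2
    obtain ⟨v₀, hv₀⟩ : ∃ v₀, ν v₀ ≠ 0 := by
      by_contra hall
      push Not at hall
      exact hu1 (sub_eq_zero.1 (LinearMap.ext hall : ν = 0))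
    have ha0 : (a : V) ≠ 0 := by
      intro h
      obtain ⟨c, hc⟩ := ha ⟨ν v₀, v₀, rfl⟩
      have hc' : c • (a : V) = ν v₀ := congrArg Subtype.val hc
      rw [h, smul_zero] at hc'
      exact hv₀ hc'.symm
    have hcoef : ∀ v, ∃ c : F, ν v = c • (a : V) := fun v => by
      obtain ⟨c, hc⟩ := ha ⟨ν v, v, rfl⟩
      exact ⟨c, (congrArg Subtype.val hc).symm⟩
    have hgen : ∀ v, ν v ≠ 0 → B (a : V) v = 0 := fun v hv => by
      obtain ⟨c, hc⟩ := hcoef v
      have h := hskew v
      rw [hc, map_smul, LinearMap.smul_apply, smul_eq_mul] at h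
      exact (mul_eq_zero.1 h).resolve_left fun hc0 => hv (by rw [hc, hc0, zero_smul])
    refine ha0 (hQnd.1 _ fun v => ?_)
    by_cases hv : ν v = 0
    · have h := hgen (v₀ + v) (by rw [map_add, hv, add_zero]; exact hv₀)
      rwa [map_add, hgen v₀ hv₀, zero_add] at h
    · exact hgen v hv
  obtain ⟨a₀, ha₀⟩ : ∃ v, ν (ν v) ≠ 0 := by
    by_contra hall
    push Not at hall
    exact hnonsq (LinearMap.ext hall)
  set a := E a₀ with ha
  have haC : E a = a := hEEv a₀
  have hνa : ν (ν a) ≠ 0 := by rwa [ha, ← hνE]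
  have hν3 : ∀ c, E c = c → ν (ν (ν c)) = 0 := by
    let νC : Module.End F C := ν.restrict fun v _ => (hmemC _).2 (hνC v)
    have hpow : ∀ (k : ℕ) (c : C), ((νC ^ k) c : V) = (ν ^ k) (c : V) := fun k c => by
      induction k with
      | zero => rfl
      | succ k ih => rw [pow_succ', pow_succ', Module.End.mul_apply, Module.End.mul_apply, ← ih]; rfl
    have hnil : IsNilpotent νC := ⟨p, LinearMap.ext fun c => Subtype.ext (by rw [hpow, hνp]; rfl)⟩
    have h3 : νC ^ 3 = 0 := by
      have h := LinearMap.aeval_self_charpoly νC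
      rw [IsNilpotent.charpoly_eq_X_pow_finrank hnil, map_pow, aeval_X, hCdim] at h
      exact h
    intro c hc
    have := hpow 3 ⟨c, (hmemC c).2 hc⟩
    rw [h3] at this
    exact this.symm
  have hindep : ∀ α β γ : F, α • a + β • ν a + γ • ν (ν a) = 0 → α = 0 ∧ β = 0 ∧ γ = 0 := by
    intro α β γ h
    have h3 := hν3 a haC
    have e1 := congrArg (fun v => ν (ν v)) h
    simp only [map_add, map_smul, h3, map_zero, smul_zero, add_zero] at e1
    have hα : α = 0 := (smul_eq_zero.1 e1).resolve_right hνa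
    rw [hα, zero_smul, zero_add] at h
    have e2 := congrArg ν h
    simp only [map_add, map_smul, h3, map_zero, smul_zero, add_zero] at e2
    have hβ : β = 0 := (smul_eq_zero.1 e2).resolve_right hνa
    rw [hβ, zero_smul, zero_add] at h
    exact ⟨hα, hβ, (smul_eq_zero.1 h).resolve_right hνa⟩
  have hspanC : ∀ c, E c = c → ∃ α β γ : F, c = α • a + β • ν a + γ • ν (ν a) := by
    let L : (Fin 3 → F) →ₗ[F] C :=
      LinearMap.codRestrict C (Fintype.linearCombination F ![a, ν a, ν (ν a)]) fun t => by
        rw [Fintype.linearCombination_apply, Fin.sum_univ_three]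
        refine (hmemC _).2 ?_
        simp [haC, hνC]
    have hLinj : Function.Injective L := by
      rw [← LinearMap.ker_eq_bot, LinearMap.ker_eq_bot']
      intro t ht
      have ht' := congrArg Subtype.val ht
      simp only [L, LinearMap.codRestrict_apply, Fintype.linearCombination_apply, Fin.sum_univ_three,
        Submodule.coe_zero] at ht'
      obtain ⟨h0, h1, h2'⟩ := hindep _ _ _ ht'
      funext i
      fin_cases i <;> assumption
    intro c hc
    obtain ⟨t, ht⟩ := ((LinearMap.injective_iff_surjective_of_finrank_eq_finrank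
      (by rw [Module.finrank_fin_fun, hCdim])).1 hLinj) ⟨c, (hmemC c).2 hc⟩
    refine ⟨t 0, t 1, t 2, ?_⟩
    have := congrArg Subtype.val ht
    simp only [L, LinearMap.codRestrict_apply, Fintype.linearCombination_apply, Fin.sum_univ_three] at this
    exact this.symm
  have hcsν : Commute s ν := (hcomm p N).sub_right (Commute.one_right s)
  have hcsx : Commute s x := hcx p
  obtain ⟨α, β, γ, hsa⟩ := hspanC (s a) (by rw [← hcE s hcsx, haC])
  have hsnν : ∀ v, s (ν v) = ν (s v) := fun v => LinearMap.congr_fun hcsν v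
  set d := s - α • (1 : Module.End F V) with hd
  have hdC : ∀ c, E c = c → d c = β • ν c + γ • ν (ν c) := by
    intro c hc
    obtain ⟨c0, c1, c2, rfl⟩ := hspanC c hc
    have h3 := hν3 a haC
    simp only [hd, LinearMap.sub_apply, LinearMap.smul_apply, Module.End.one_apply, map_add, map_smul, hsnν, hsa,
      h3, map_zero, smul_zero, add_zero, smul_add]
    module
  have hdd : ∀ k c, E c = c → 3 ≤ k → (d ^ k) c = 0 := by
    intro k c hc hk
    have hdEc : ∀ c, E c = c → E (d c) = d c := fun c hc => by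
      rw [hdC c hc, map_add, map_smul, map_smul, hνC, hνC]
    have hstep : ∀ c, E c = c → d (d (d c)) = 0 := by
      intro c hc
      have h1 := hdEc c hc
      rw [hdC _ (hdEc _ h1), hdC _ h1, hdC c hc]
      simp only [map_add, map_smul]
      have z3 : ∀ v, ν (ν (ν v)) = 0 := fun v => by rw [hνE v]; exact hν3 _ (hEEv v)
      simp only [z3, map_zero, smul_zero, add_zero]
    obtain ⟨j, rfl⟩ := Nat.exists_eq_add_of_le hk
    rw [add_comm, pow_add, Module.End.mul_apply, show (d ^ 3) c = d (d (d c)) from rfl, hstep c hc, map_zero]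
  have hsc : ∃ σ : F, ∀ c, E c = c → s c = σ • c := by
    obtain ⟨m, -, hm⟩ := Nat.exists_mul_mod_eq_one_of_coprime (Nat.Coprime.pow_left 2 hcop.symm)
      (show 1 < N by have := Nat.one_le_pow e q (by omega); omega)
    refine ⟨(α ^ p ^ 2) ^ m, fun c hc => ?_⟩
    have : CharP (Module.End F V) p := charP_of_injective_algebraMap (algebraMap F _).injective p
    have hdp : d ^ p ^ 2 = s ^ p ^ 2 - (α ^ p ^ 2) • (1 : Module.End F V) := by
      rw [hd, sub_pow_char_pow_of_commute _ 2 ((Commute.one_right s).smul_right α), _root_.smul_pow, one_pow]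
    have hp2' : 3 ≤ p ^ 2 := by have := hp.out.two_le; nlinarith
    have h1 : ∀ c, E c = c → (s ^ p ^ 2) c = (α ^ p ^ 2) • c := fun c hc => by
      have h := hdd _ c hc hp2'
      rw [hdp, LinearMap.sub_apply, LinearMap.smul_apply, Module.End.one_apply, sub_eq_zero] at h
      exact h
    have h2' : ∀ j, ((s ^ p ^ 2) ^ j) c = (α ^ p ^ 2) ^ j • c := fun j => by
      induction j with
      | zero => simp
      | succ j ih => rw [pow_succ', Module.End.mul_apply, ih, map_smul, h1 c hc, smul_smul, ← pow_succ]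
    rw [← h2', ← pow_mul, show s ^ (p ^ 2 * m) = s by rw [pow_eq_pow_mod _ hsN, hm, pow_one]]
  obtain ⟨σ, hσ⟩ := hsc
  have hσ2 : σ * σ = 1 := by
    obtain ⟨c, hc, hQc⟩ : ∃ c, E c = c ∧ Q c ≠ 0 := by
      by_contra hall
      push Not at hall
      have ha0 : a ≠ 0 := fun h => hνa (by rw [h, map_zero, map_zero])
      refine ha0 (hQnd.1 a fun v => ?_)
      rw [← add_sub_cancel (E v) v, map_add, horth a _ (by rw [← haC, hxEv]) (LinearMap.mem_ker.1 (hsplit v)),
        add_zero]
      simp only [hB, QuadraticMap.polarBilin_apply_apply, QuadraticMap.polar,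
        hall (a + E v) (by rw [map_add, haC, hEEv]), hall a haC, hall (E v) (hEEv v), sub_zero]
    have h := hφQ (g ^ p) c
    rw [← hs, hσ c hc, QuadraticMap.map_smul, smul_eq_mul] at h
    exact mul_right_cancel₀ hQc (h.trans (one_mul _).symm)
  -- the involution
  set z := s ^ (N / 2) with hz
  have hspow : ∀ k c, E c = c → (s ^ k) c = σ ^ k • c := fun k c hc => by
    induction k with
    | zero => simp
    | succ k ih => rw [pow_succ', Module.End.mul_apply, ih, map_smul, hσ c hc, smul_smul, pow_succ]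
  have hz2 : z * z = 1 := by rw [hz, ← pow_add, ← two_mul, Nat.mul_div_cancel' hN2, hsN]
  have hz1 : z ≠ 1 := fun h => by
    have := Nat.le_of_dvd (Nat.div_pos (Nat.le_of_dvd (Nat.pos_of_ne_zero hN0) hN2) two_pos) (hsne _ h)
    omega
  set b := σ ^ (N / 2) with hb
  have hb2 : b * b = 1 := by rw [hb, ← mul_pow, hσ2, one_pow]
  have hcz : Commute z x := hcsx.pow_left _
  obtain ⟨c', hc'1, hzW⟩ : ∃ c' : F, c' * c' = 1 ∧ ∀ w, E w = 0 → z w = c' • w := by
    by_cases h : ∃ w₀, E w₀ = 0 ∧ w₀ ≠ 0 ∧ z w₀ = w₀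
    · obtain ⟨w₀, h1, h2', h3⟩ := h
      refine ⟨1, one_mul 1, fun w hw => ?_⟩
      have := hsimple (z - 1) (hcz.sub_left (Commute.one_left x)) w₀ h1 h2' (by
        rw [LinearMap.sub_apply, h3, Module.End.one_apply, sub_self]) w hw
      rw [LinearMap.sub_apply, Module.End.one_apply, sub_eq_zero] at this
      rw [this, one_smul]
    · push Not at h
      refine ⟨-1, by ring, fun w hw => ?_⟩
      by_contra hne
      refine h (z w + w) (by rw [map_add, ← hcE z hcz, hw, map_zero, add_zero]) (fun h0 => hne ?_) ?_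
      · rw [neg_one_smul]; exact eq_neg_of_add_eq_zero_left h0
      · rw [map_add, ← Module.End.mul_apply, hz2, Module.End.one_apply, add_comm]
  have hzdec : z = b • E + c' • (1 - E) := LinearMap.ext fun v => by
    conv_lhs => rw [← add_sub_cancel (E v) v]
    rw [map_add, hzW _ (LinearMap.mem_ker.1 (hsplit v)), hz, hspow _ _ (hEEv v)]
    rfl
  have hgz : z = φ (g ^ (p * (N / 2))) := by rw [hz, hs, ← map_pow, ← pow_mul]
  have hdz : b ^ 3 * c' ^ (2 * e) = 1 := by
    have h := hdet _ (Subgroup.pow_mem _ hg (p * (N / 2)))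
    rwa [← hgz, hzdec, GL.det_idempotent_combination E (LinearMap.ext hEEv) b c', ← hC, ← hW, hCdim, hWdim] at h
  have hb1 : b = 1 := by
    rw [pow_succ, pow_two, hb2, one_mul, pow_mul, pow_two, hc'1, one_pow, mul_one] at hdz
    exact hdz
  have hc'2 : c' = -1 := (mul_self_eq_one_iff.1 hc'1).resolve_left fun h => hz1 (by
    rw [hzdec, hb1, h, one_smul, one_smul, add_sub_cancel])
  have hzfix : ∀ v, z v = v → E v = v := fun v hv => by
    rw [hzdec, hb1, hc'2] at hv
    simp only [LinearMap.add_apply, LinearMap.smul_apply, LinearMap.sub_apply, Module.End.one_apply] at hv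
    have h : (2 : F) • (E v - v) = 0 := by
      rw [two_smul]
      linear_combination (norm := module) hv
    exact sub_eq_zero.1 ((smul_eq_zero.1 h).resolve_left h2)
  -- the two-part
  obtain ⟨A, N', hN', hNN⟩ := Nat.exists_eq_pow_mul_and_not_dvd hN0 2 (by norm_num)
  have hA : A ≠ 0 := fun h => by rw [h, pow_zero, one_mul] at hNN; rw [hNN] at hN2; exact hN' hN2
  set t := φ (g ^ (p * N')) with ht
  have hts : t = s ^ N' := by rw [ht, hs, ← map_pow, ← pow_mul]
  have hzt : z = t ^ 2 ^ (A - 1) := by
    rw [hts, hz, ← pow_mul]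
    congr 1
    rw [hNN, show A = (A - 1) + 1 by omega, pow_succ, mul_assoc, mul_comm 2 N', ← mul_assoc,
      Nat.mul_div_cancel _ two_pos, mul_comm, Nat.add_sub_cancel]
  have ht1 : ∀ c, E c = c → t c = c := by
    obtain ⟨v, hv0, hv⟩ : ∃ v, v ≠ 0 ∧ t v = v := by
      by_contra hall
      push Not at hall
      have h := det_eq_neg_one h2 hQnd ⟨n, by simp; ring⟩ t (hφQ _)
        (fun v hv => by_contra fun h0 => hall v h0 hv)
      rw [hdet _ (Subgroup.pow_mem _ hg _)] at h
      exact h2 (by linear_combination h)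
    have hvC : E v = v := hzfix v (by
      rw [hzt]
      generalize 2 ^ (A - 1) = k
      induction k with
      | zero => rfl
      | succ k ih => rw [pow_succ, Module.End.mul_apply, hv, ih])
    rw [hts, hspow _ _ hvC] at hv
    have hσN : σ ^ N' = 1 := by
      have h : (σ ^ N' - 1) • v = 0 := by rw [sub_smul, one_smul, hv, sub_self]
      exact sub_eq_zero.1 ((smul_eq_zero.1 h).resolve_right hv0)
    intro c hc
    rw [hts, hspow _ _ hc, hσN, one_smul]
  -- the sphere
  set S := {v : V // Q v = 1}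
  set π := QForm.spherePerm Q (g ^ (p * N')) with hπ
  have hπapp : ∀ (j : ℕ) (v : S), ((π ^ j) v : V) = (t ^ j) v.1 := fun j v => by
    rw [hπ, ← map_pow, QForm.spherePerm_apply, ht, ← map_pow]; rfl
  have ht2A : t ^ 2 ^ A = 1 := by rw [hts, ← pow_mul, mul_comm, ← hNN, hsN]
  have hπfix : ∀ v : S, π v = v ↔ E v.1 = v.1 := by
    intro v
    have h1 : (π v : V) = t v.1 := by have := hπapp 1 v; rwa [pow_one, pow_one] at this
    constructor
    · intro h
      refine hzfix _ ?_
      have h' : t v.1 = v.1 := by rw [← h1, h]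
      rw [hzt]
      generalize 2 ^ (A - 1) = k
      induction k with
      | zero => rfl
      | succ k ih => rw [pow_succ, Module.End.mul_apply, h', ih]
    · intro h
      exact Subtype.ext (h1.trans (ht1 _ h))
  have hπ2A : π ^ 2 ^ A = 1 := Equiv.ext fun v => Subtype.ext (by rw [hπapp, ht2A]; rfl)
  have hcyc : ∀ m ∈ π.cycleType, m = 2 ^ A := by
    intro m hm
    obtain ⟨i, hi, hmi⟩ := (Nat.dvd_prime_pow Nat.prime_two).1
      ((Equiv.Perm.dvd_of_mem_cycleType hm).trans (orderOf_dvd_of_pow_eq_one hπ2A))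
    rcases Nat.lt_or_ge i A with hlt | hge
    · exfalso
      rw [Equiv.Perm.cycleType_def, Multiset.mem_map] at hm
      obtain ⟨c, hc, hcm⟩ := hm
      obtain ⟨hcyc, hcp⟩ := Equiv.Perm.mem_cycleFactorsFinset_iff.1 hc
      obtain ⟨v, hv⟩ := hcyc.nonempty_support
      have hne : π v ≠ v := by rw [← hcp v hv]; exact Equiv.Perm.mem_support.1 hv
      have hfix : (π ^ m) v = v := by
        have hpow : ∀ i : ℕ, (π ^ i) v = (c ^ i) v := fun i => by
          induction i with
          | zero => rfl
          | succ i ih => rw [pow_succ', pow_succ', Equiv.Perm.mul_apply, Equiv.Perm.mul_apply, ih,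
              hcp _ (Equiv.Perm.pow_apply_mem_support.2 hv)]
        rw [hpow, ← hcm]
        show (c ^ c.support.card) v = v
        rw [← hcyc.orderOf, pow_orderOf_eq_one]; rfl
      refine hne ((hπfix v).2 (hzfix _ ?_))
      have h' : (t ^ m) v.1 = v.1 := by rw [← hπapp, hfix]
      rw [hzt, show A - 1 = i + (A - 1 - i) by omega, pow_add, pow_mul, ← hmi]
      generalize 2 ^ (A - 1 - i) = k
      induction k with
      | zero => rfl
      | succ k ih => rw [pow_succ, Module.End.mul_apply, h', ih]
    · have : i = A := by omega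
      rw [hmi, this]
  have hsign : Equiv.Perm.sign π = 1 :=
    QForm.omega_le_ker Q (QForm.sphereSign Q) (Subgroup.pow_mem _ hg _)
  have hrep := Multiset.eq_replicate_card.2 hcyc
  have hsupp : π.support.card = π.cycleType.card * 2 ^ A := by
    rw [← Equiv.Perm.sum_cycleType]
    conv_lhs => rw [hrep]
    rw [Multiset.sum_replicate, smul_eq_mul]
  rw [Equiv.Perm.sign_of_cycleType, Equiv.Perm.sum_cycleType, hsupp] at hsign
  have heven : 2 ∣ π.cycleType.card := by
    rcases Nat.even_or_odd π.cycleType.card with h | h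
    · exact h.two_dvd
    · rw [(Even.add_odd (Even.mul_left (Nat.even_pow.2 ⟨even_two, hA⟩) _) h).neg_one_pow] at hsign
      exact absurd hsign (by decide)
  -- counting
  have hScard : Fintype.card S = q ^ (2 * n) + q ^ n := by
    rw [← Nat.card_eq_fintype_card, ← GL.card_sphere_odd h2 n]
    exact Nat.card_congr (Equiv.subtypeEquivRight fun v => by rw [hQdef, Forms.quadOdd_apply])
  have hBC : (QuadraticMap.polarBilin (Q.comp C.subtype)).Nondegenerate := by
    have key : ∀ c : C, (∀ d : C, B c.1 d.1 = 0) → c = 0 := fun c hc => Subtype.ext (hQnd.1 _ fun v => by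
      rw [← add_sub_cancel (E v) v, map_add, horth c.1 _ (by rw [← (hmemC _).1 c.2, hxEv])
        (LinearMap.mem_ker.1 (hsplit v)), hc ⟨E v, v, rfl⟩, add_zero])
    constructor <;> intro c hc <;> refine key c fun d => ?_ <;> have h := hc d <;>
      simp only [hB, QuadraticMap.polarBilin_apply_apply, QuadraticMap.polar, QuadraticMap.comp_apply,
        Submodule.coe_subtype, Submodule.coe_add, map_add] at h ⊢ <;>
      first | exact h | (rw [add_comm]; linear_combination h)
  obtain ⟨ee, l, hl, hel⟩ := GL.exists_similar_odd (n := 1) h2 hBC (Forms.quadOdd_nondegenerate (F := F) h2 1)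
    (by rw [hCdim]) (by simp)
  have hfixcard : π.supportᶜ.card = Nat.card {v : Unit ⊕ (Fin 1 ⊕ Fin 1) → F // quadFormOdd 1 F v = l} := by
    rw [← Fintype.card_coe, ← Nat.card_eq_fintype_card]
    have hm : ∀ v : S, v ∈ π.supportᶜ ↔ E v.1 = v.1 := fun v => by
      rw [Finset.mem_compl, Equiv.Perm.mem_support, not_not, hπfix]
    refine Nat.card_congr
      { toFun := fun v => ⟨ee ⟨v.1.1, (hmemC _).2 ((hm v.1).1 v.2)⟩, by
          rw [← Forms.quadOdd_apply, hel]
          show l * Q v.1.1 = l
          rw [v.1.2, mul_one]⟩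
        invFun := fun w => ⟨⟨(ee.symm w.1).1, by
          have h := hel (ee.symm w.1)
          rw [ee.apply_symm_apply, Forms.quadOdd_apply, w.2] at h
          exact mul_left_cancel₀ hl (h.symm.trans (mul_one l).symm)⟩,
          (hm _).2 ((hmemC _).1 (ee.symm w.1).2)⟩
        left_inv := fun v => by simp
        right_inv := fun w => by simp }
  have hsum : π.supportᶜ.card + π.support.card = Fintype.card S := by
    rw [Finset.card_compl, Nat.sub_add_cancel (Finset.card_le_univ _)]
  -- the element of order `r` has the same fixed points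
  set ρ := QForm.spherePerm Q (g ^ (p * (N / r))) with hρ
  have hρapp : ∀ v : S, (ρ v : V) = x v.1 := fun v => by rw [hρ, QForm.spherePerm_apply, hxg]; rfl
  have hρfix : ρ.supportᶜ = π.supportᶜ := by
    ext v
    rw [Finset.mem_compl, Finset.mem_compl, Equiv.Perm.mem_support, Equiv.Perm.mem_support, not_not, not_not,
      hπfix, Subtype.ext_iff, hρapp]
    exact ⟨hEfix _, fun h => by rw [← h, hxEv]⟩
  have hmod : π.supportᶜ.card ≡ Fintype.card S [MOD r] := hρfix ▸
    Equiv.Perm.card_compl_support_modEq (p := r) (n := 1) (σ := ρ) (by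
      rw [pow_one, hρ, ← map_pow, ← pow_mul, mul_assoc, Nat.div_mul_cancel hrN, ← hord, pow_orderOf_eq_one, map_one])
  obtain ⟨n', rfl⟩ : ∃ n', n = n' + 1 := ⟨n - 1, by omega⟩
  simp only [Nat.add_sub_cancel] at he
  rw [hScard, hfixcard] at hmod
  rw [hScard, hfixcard] at hsum
  rw [hsupp] at hsum
  obtain ⟨k, hk⟩ := heven
  rcases card_sphere_three h2 hl with h | h
  · rw [h, ← ZMod.natCast_eq_natCast_iff] at hmod
    have hqe : (q : ZMod r) ^ e = -1 := by
      have : ((N : ℕ) : ZMod r) = 0 := (ZMod.natCast_eq_zero_iff _ _).2 hrN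
      rw [hN] at this
      push_cast at this
      linear_combination this
    push_cast at hmod
    rw [← hqdef, show 2 * (n' + 1) = e + e + 2 by omega, show n' + 1 = e + 1 by omega, pow_add, pow_add, pow_add, hqe] at hmod
    have h0 : ((2 * q : ℕ) : ZMod r) = 0 := by push_cast; linear_combination hmod
    rcases hr.dvd_mul.1 ((ZMod.natCast_eq_zero_iff _ _).1 h0) with h | h
    · exact hr2 ((Nat.prime_dvd_prime_iff_eq hr Nat.prime_two).1 h)
    · exact hrp h
  · have hqodd : Odd (q ^ 2 * (q ^ e - 1) + q) := by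
      rw [Nat.odd_add']
      simp [hodd, Nat.even_mul, Nat.Odd.sub_odd (hodd.pow (n := e)) odd_one]
    have key : π.cycleType.card * 2 ^ A = N * (q ^ 2 * (q ^ e - 1) + q) := by
      have h1 : q ^ (2 * (n' + 1)) + q ^ (n' + 1) + q = N * (q ^ 2 * (q ^ e - 1) + q) + q ^ 2 := by
        rw [hN, ← he]
        have : 1 ≤ q ^ e := Nat.one_le_pow _ _ (by omega)
        zify [this]
        rw [he]
        ring
      rw [← hqdef] at h
      omega
    rw [hk, hNN, mul_comm (2 * k), mul_assoc] at key
    have h' := Nat.eq_of_mul_eq_mul_left (pow_pos two_pos A) key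
    rcases Nat.prime_two.dvd_mul.1 (h' ▸ dvd_mul_right 2 k) with h'' | h''
    · exact hN' h''
    · exact Nat.not_even_iff_odd.2 hqodd (even_iff_two_dvd.2 h'')

end Cfsg.Agent.Spectrum.OddOrth
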