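import Cfsg.Agent.Lib.QForm.Spinor

/-!
# Generalised eigenspaces of isometries at `±1` in odd characteristic

`genKer g c = ker (g - c)^n` is non-degenerate of dimension the multiplicity of `c` in the characteristic
polynomial, has no Jordan block of full even size, and the multiplicities are odd at `1`, even at `-1`
for determinant one in odd dimension.
-/

set_option autoImplicit false

open Polynomial
open scoped Matrix

namespace Cfsg.Agent.Spectrum.OrthJordan

open Module (finrank)

variable {F : Type*} [Field F] {ι : Type} [Fintype ι] [DecidableEq ι] {Q : QuadraticForm F (ι → F)}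

/-- An isometry as an endomorphism. -/
def toEnd (Q : QuadraticForm F (ι → F)) : ↥(isometryGroup F ⇑Q) →* Module.End F (ι → F) :=
  Matrix.toLinAlgEquiv'.toMonoidHom.comp ((Units.coeHom _).comp (isometryGroup F ⇑Q).subtype)

theorem toEnd_apply (g : ↥(isometryGroup F ⇑Q)) (v : ι → F) : toEnd Q g v = QForm.act Q g v := rfl

/-- `g - c`. -/
def sub (g : ↥(isometryGroup F ⇑Q)) (c : F) : Module.End F (ι → F) := toEnd Q g - c • 1

theorem sub_apply (g : ↥(isometryGroup F ⇑Q)) (c : F) (v : ι → F) :
    sub g c v = QForm.act Q g v - c • v := rfl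

/-- The generalised eigenspace. -/
def genKer (g : ↥(isometryGroup F ⇑Q)) (c : F) : Submodule F (ι → F) :=
  LinearMap.ker (sub g c ^ Fintype.card ι)

theorem genKer_eq_maxGen (g : ↥(isometryGroup F ⇑Q)) (c : F) :
    genKer g c = (toEnd Q g).maxGenEigenspace c := by
  rw [Module.End.maxGenEigenspace_eq_genEigenspace_finrank, Module.End.genEigenspace_nat,
    Module.finrank_fintype_fun_eq_card]
  rfl

theorem finrank_genKer (g : ↥(isometryGroup F ⇑Q)) (c : F) :
    finrank F (genKer g c) =
      ((g : Matrix.GeneralLinearGroup ι F) : Matrix ι ι F).charpoly.rootMultiplicity c := by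
  rw [genKer_eq_maxGen, LinearMap.finrank_maxGenEigenspace_eq, ← Matrix.charpoly_toLin']
  rfl

theorem mem_genKer_of_pow (g : ↥(isometryGroup F ⇑Q)) (c : F) (k : ℕ) {v : ι → F}
    (h : (sub g c ^ k) v = 0) : v ∈ genKer g c := by
  rw [genKer, ← Module.finrank_fintype_fun_eq_card F]
  exact Module.End.ker_pow_le_ker_pow_finrank _ k h

theorem adjoint_pow (g : ↥(isometryGroup F ⇑Q)) {c : F} (hc : c * c = 1) (k : ℕ) : ∀ x y : ι → F,
    QuadraticMap.polarBilin Q ((sub g c ^ k) x) y =
      (-c) ^ k * QuadraticMap.polarBilin Q x (QForm.act Q (g⁻¹ ^ k) ((sub g c ^ k) y)) := by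
  have hcomm : ∀ (h : ↥(isometryGroup F ⇑Q)), Commute h g → ∀ (k : ℕ) (v : ι → F),
      (sub g c ^ k) (QForm.act Q h v) = QForm.act Q h ((sub g c ^ k) v) := by
    intro h hh k v
    have h1 : Commute (toEnd Q h) (sub g c) := (hh.map (toEnd Q)).sub_right
      ((Commute.one_right (toEnd Q h)).smul_right c)
    exact (LinearMap.congr_fun (h1.pow_right k).eq v).symm
  have hstep : ∀ x y : ι → F, QuadraticMap.polarBilin Q (sub g c x) y =
      -c * QuadraticMap.polarBilin Q x (QForm.act Q g⁻¹ (sub g c y)) := by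
    intro x y
    have h1 : QForm.act Q g⁻¹ (sub g c y) = y - c • QForm.act Q g⁻¹ y := by
      rw [sub_apply, show QForm.act Q g⁻¹ (QForm.act Q g y - c • y) =
        QForm.act Q g⁻¹ (QForm.act Q g y) - c • QForm.act Q g⁻¹ y by
          simp only [QForm.act, Matrix.mulVec_sub, Matrix.mulVec_smul], QForm.act_inv_act]
    have h2 : QuadraticMap.polarBilin Q (QForm.act Q g x) y =
        QuadraticMap.polarBilin Q x (QForm.act Q g⁻¹ y) := by
      conv_lhs => rw [← QForm.act_act_inv Q g y]
      exact QForm.act_polar Q g x _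
    rw [h1, sub_apply, map_sub, map_smul, LinearMap.sub_apply, LinearMap.smul_apply, h2, map_sub, map_smul,
      smul_eq_mul, smul_eq_mul]
    linear_combination (-(QuadraticMap.polarBilin Q x (QForm.act Q g⁻¹ y))) * hc
  induction k with
  | zero => intro x y; simp [QForm.act_one]
  | succ k ih =>
    intro x y
    rw [pow_succ, Module.End.mul_apply, ih, hstep,
      show sub g c (QForm.act Q (g⁻¹ ^ k) ((sub g c ^ k) y)) =
        QForm.act Q (g⁻¹ ^ k) (sub g c ((sub g c ^ k) y)) by
        have := hcomm (g⁻¹ ^ k) ((Commute.refl g).inv_left.pow_left k) 1 ((sub g c ^ k) y)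
        rwa [pow_one] at this,
      ← QForm.act_mul, ← pow_succ' g⁻¹ k, ← Module.End.mul_apply (sub g c) (sub g c ^ k), ← pow_succ',
      ← pow_succ (sub g c) k, pow_succ (-c)]
    ring

/-- The generalised eigenspace is orthogonal to the range. -/
theorem polar_range (g : ↥(isometryGroup F ⇑Q)) {c : F} (hc : c * c = 1) {w : ι → F} (hw : w ∈ genKer g c)
    (z : ι → F) : QuadraticMap.polarBilin Q ((sub g c ^ Fintype.card ι) z) w = 0 := by
  rw [adjoint_pow g hc, show (sub g c ^ Fintype.card ι) w = 0 from hw]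
  simp [QForm.act]

theorem genKer_isCompl (g : ↥(isometryGroup F ⇑Q)) (c : F) :
    IsCompl (genKer g c) (LinearMap.range (sub g c ^ Fintype.card ι)) := by
  have hd : Disjoint (genKer g c) (LinearMap.range (sub g c ^ Fintype.card ι)) := by
    rw [Submodule.disjoint_def]
    rintro _ hv ⟨z, rfl⟩
    exact mem_genKer_of_pow g c (Fintype.card ι + Fintype.card ι) (by
      rw [pow_add, Module.End.mul_apply]; exact hv)
  refine ⟨hd, codisjoint_iff.2 (Submodule.eq_top_of_finrank_eq ?_)⟩
  have h1 := Submodule.finrank_sup_add_finrank_inf_eq (genKer g c) (LinearMap.range (sub g c ^ Fintype.card ι))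
  rw [hd.eq_bot, finrank_bot, Nat.add_zero] at h1
  rw [h1, genKer, add_comm]
  exact LinearMap.finrank_range_add_finrank_ker _

theorem genKer_sep (g : ↥(isometryGroup F ⇑Q)) {c : F} (hc : c * c = 1)
    (hQ : (QuadraticMap.polarBilin Q).Nondegenerate) {x : ι → F} (hx : x ∈ genKer g c)
    (h : ∀ y ∈ genKer g c, QuadraticMap.polarBilin Q y x = 0) : x = 0 := by
  refine hQ.2 x fun v => ?_
  obtain ⟨a, ha, b, ⟨z, rfl⟩, rfl⟩ := Submodule.mem_sup.1
    (((genKer_isCompl g c).sup_eq_top).symm ▸ (Submodule.mem_top : v ∈ ⊤))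
  rw [map_add, LinearMap.add_apply, h a ha, polar_range g hc hx, add_zero]

theorem genKer_nondegenerate (g : ↥(isometryGroup F ⇑Q)) {c : F} (hc : c * c = 1)
    (hQ : (QuadraticMap.polarBilin Q).Nondegenerate) :
    (QuadraticMap.polarBilin (Q.comp (genKer g c).subtype)).Nondegenerate := by
  have key : ∀ x : genKer g c, (∀ y : genKer g c, QuadraticMap.polarBilin Q (y : ι → F) x = 0) → x = 0 :=
    fun x hx => Subtype.ext (genKer_sep g hc hQ x.2 fun y hy => hx ⟨y, hy⟩)
  have hpol : ∀ x y : genKer g c, QuadraticMap.polarBilin (Q.comp (genKer g c).subtype) x y =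
      QuadraticMap.polarBilin Q (x : ι → F) y := fun x y => by
    simp [QuadraticMap.polar]
  refine ⟨fun x hx => key x fun y => ?_, fun y hy => key y fun x => ?_⟩
  · rw [QuadraticMap.polarBilin_apply_apply, QuadraticMap.polar_comm]
    have := hx y
    rwa [hpol] at this
  · rw [← hpol]; exact hy x

/-- `(g - c)^(dim)` kills the generalised eigenspace. -/
theorem pow_finrank_apply (g : ↥(isometryGroup F ⇑Q)) (c : F) {x : ι → F} (hx : x ∈ genKer g c) :
    (sub g c ^ finrank F (genKer g c)) x = 0 := by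
  have hinv : ∀ x ∈ genKer g c, sub g c x ∈ genKer g c := fun x hx => by
    refine mem_genKer_of_pow g c (Fintype.card ι) ?_
    rw [← Module.End.mul_apply, ← pow_succ, pow_succ', Module.End.mul_apply,
      show (sub g c ^ Fintype.card ι) x = 0 from hx, map_zero]
  set r : Module.End F (genKer g c) := (sub g c).restrict hinv with hr
  have hrpow : ∀ (i : ℕ) (x : genKer g c),
      (((r ^ i) x : genKer g c) : ι → F) = (sub g c ^ i) x := fun i x => by
    induction i with
    | zero => rfl
    | succ i ih => rw [pow_succ', pow_succ', Module.End.mul_apply, Module.End.mul_apply, ← ih]; rfl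
  have h := Module.End.ker_pow_le_ker_pow_finrank r (Fintype.card ι)
    (x := ⟨x, hx⟩) (Subtype.ext (by rw [hrpow]; exact hx))
  rw [← hrpow _ ⟨x, hx⟩, LinearMap.mem_ker.1 h]
  rfl

/-- No Jordan block of full even size at `±1`. -/
theorem block_lt (g : ↥(isometryGroup F ⇑Q)) {c : F} (hc : c * c = 1)
    (hQ : (QuadraticMap.polarBilin Q).Nondegenerate) (h2 : (2 : F) ≠ 0) {m : ℕ}
    (hm : finrank F (genKer g c) = m) (hev : Even m) (hpos : 0 < m) :
    ∀ x ∈ genKer g c, (sub g c ^ (m - 1)) x = 0 := by
  set W := genKer g c with hW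
  set N := sub g c with hN
  set k := m - 1 with hk
  have hkodd : Odd k := by
    obtain ⟨r, hr⟩ := hev
    exact ⟨r - 1, by omega⟩
  have hinv : ∀ x ∈ W, N x ∈ W := fun x hx => by
    refine mem_genKer_of_pow g c (Fintype.card ι) ?_
    rw [← Module.End.mul_apply, ← pow_succ, pow_succ', Module.End.mul_apply,
      show (N ^ Fintype.card ι) x = 0 from hx, map_zero]
  set r : Module.End F W := N.restrict hinv with hr
  have hrpow : ∀ (i : ℕ) (x : W), (((r ^ i) x : W) : ι → F) = (N ^ i) x := fun i x => by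
    induction i with
    | zero => rfl
    | succ i ih => rw [pow_succ', pow_succ', Module.End.mul_apply, Module.End.mul_apply, ← ih]; rfl
  have hrn : r ^ Fintype.card ι = 0 := LinearMap.ext fun x => Subtype.ext (by rw [hrpow]; exact x.2)
  have hrank : ∀ i, finrank F (LinearMap.range (r ^ i)) ≤ m - i := by
    intro i
    induction i with
    | zero => rw [Nat.sub_zero, ← hm]; exact Submodule.finrank_le _
    | succ i ih =>
      by_cases h0 : LinearMap.range (r ^ i) = ⊥
      · rw [pow_succ', Module.End.mul_eq_comp, LinearMap.range_comp, h0, Submodule.map_bot, finrank_bot]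
        exact Nat.zero_le _
      · have hle : LinearMap.range (r ^ (i + 1)) ≤ LinearMap.range (r ^ i) := by
          rw [pow_succ, Module.End.mul_eq_comp]
          exact LinearMap.range_comp_le_range _ _
        have hlt : LinearMap.range (r ^ (i + 1)) < LinearMap.range (r ^ i) := by
          refine lt_of_le_of_ne hle fun he => h0 ?_
          have hall : ∀ j, LinearMap.range (r ^ (i + j)) = LinearMap.range (r ^ i) := by
            intro j
            induction j with
            | zero => rfl
            | succ j ihj =>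
              rw [show i + (j + 1) = (i + j) + 1 by ring, pow_succ', Module.End.mul_eq_comp,
                LinearMap.range_comp, ihj, ← LinearMap.range_comp, ← Module.End.mul_eq_comp, ← pow_succ', he]
          rw [← hall (Fintype.card ι), pow_add, hrn, mul_zero, LinearMap.range_zero]
        have := Submodule.finrank_lt_finrank_of_lt hlt
        omega
  have h1 : finrank F (LinearMap.range (r ^ k)) ≤ 1 := (hrank k).trans (by omega)
  obtain ⟨⟨a, haW⟩, ha⟩ := finrank_le_one_iff.1
    ((Submodule.finrank_map_le W.subtype (LinearMap.range (r ^ k))).trans h1)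
  have hNm : ∀ y ∈ W, N ((N ^ k) y) = 0 := fun y hy => by
    have h := hrank m
    rw [Nat.sub_self, Nat.le_zero, Submodule.finrank_eq_zero, LinearMap.range_eq_bot] at h
    have h' := congrArg Subtype.val (LinearMap.congr_fun h ⟨y, hy⟩)
    rw [hrpow] at h'
    rw [← Module.End.mul_apply, ← pow_succ', show k + 1 = m by omega]
    exact h'
  have hskew : ∀ x ∈ W, QuadraticMap.polarBilin Q ((N ^ k) x) x = 0 := by
    intro x hx
    have hfix : ∀ i : ℕ, QForm.act Q (g⁻¹ ^ i) ((N ^ k) x) = c ^ i • (N ^ k) x := by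
      have hgx : QForm.act Q g ((N ^ k) x) = c • (N ^ k) x := by
        have h0 := hNm x hx
        rw [hN, sub_apply, sub_eq_zero] at h0
        exact h0
      intro i
      induction i with
      | zero => simp [QForm.act_one]
      | succ i ih =>
        rw [pow_succ, QForm.act_mul]
        have hgi : QForm.act Q g⁻¹ ((N ^ k) x) = c • (N ^ k) x := by
          have h3 := congrArg (fun v => c • QForm.act Q g⁻¹ v) hgx
          simp only [QForm.act_inv_act] at h3
          rw [h3]
          simp only [QForm.act, Matrix.mulVec_smul, smul_smul, hc, one_smul]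
        rw [hgi]
        simp only [QForm.act, Matrix.mulVec_smul] at ih ⊢
        rw [ih, smul_smul, ← pow_succ']
    have h := adjoint_pow g hc k x x
    rw [← hN, hfix, map_smul, smul_eq_mul, ← mul_assoc, ← mul_pow, neg_mul, hc, hkodd.neg_one_pow,
      QuadraticMap.polarBilin_apply_apply, QuadraticMap.polarBilin_apply_apply,
      QuadraticMap.polar_comm ⇑Q x] at h
    rw [QuadraticMap.polarBilin_apply_apply]
    exact (mul_eq_zero.1 (show (2 : F) * QuadraticMap.polar ⇑Q ((N ^ k) x) x = 0 by
      linear_combination h)).resolve_left h2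
  by_contra hne
  push Not at hne
  obtain ⟨x₀, hx₀, hne⟩ := hne
  have hcoef : ∀ y ∈ W, ∃ t : F, (N ^ k) y = t • a := fun y hy => by
    obtain ⟨t, ht⟩ := ha ⟨((r ^ k) ⟨y, hy⟩ : W),
      Submodule.mem_map_of_mem (f := W.subtype) ⟨⟨y, hy⟩, rfl⟩⟩
    refine ⟨t, ?_⟩
    rw [← hrpow k ⟨y, hy⟩]
    exact (congrArg Subtype.val ht).symm
  have hgen : ∀ y ∈ W, (N ^ k) y ≠ 0 → QuadraticMap.polarBilin Q a y = 0 := fun y hy hy0 => by
    obtain ⟨t, ht⟩ := hcoef y hy
    have h := hskew y hy
    rw [ht, map_smul, LinearMap.smul_apply, smul_eq_mul] at h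
    exact (mul_eq_zero.1 h).resolve_left fun h0 => hy0 (by rw [ht, h0, zero_smul])
  obtain ⟨t, ht⟩ := hcoef x₀ hx₀
  refine hne ?_
  rw [ht]
  suffices a = 0 by rw [this, smul_zero]
  refine genKer_sep g hc hQ (Submodule.map_subtype_le _ _ haW) fun y hy => ?_
  rw [QuadraticMap.polarBilin_apply_apply, QuadraticMap.polar_comm]
  by_cases hy0 : (N ^ k) y = 0
  · have h := hgen (x₀ + y) (W.add_mem hx₀ hy) (by rw [map_add, hy0, add_zero]; exact hne)
    rwa [map_add, hgen x₀ hx₀ hne, zero_add] at h
  · exact hgen y hy hy0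

/-- The characteristic polynomial is anti-palindromic. -/
theorem charpoly_reverse (g : ↥(isometryGroup F ⇑Q)) (hQ : (QuadraticMap.polarBilin Q).Nondegenerate)
    (hodd : Odd (Fintype.card ι))
    (hdet : ((g : Matrix.GeneralLinearGroup ι F) : Matrix ι ι F).det = 1) :
    ((g : Matrix.GeneralLinearGroup ι F) : Matrix ι ι F).charpoly.reverse =
      -((g : Matrix.GeneralLinearGroup ι F) : Matrix ι ι F).charpoly := by
  set A : Matrix ι ι F := ((g : Matrix.GeneralLinearGroup ι F) : Matrix ι ι F) with hA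
  set B := QuadraticMap.polarBilin Q with hB
  set f := Matrix.toLin' A with hf
  set G := LinearMap.toMatrix₂' F B with hG
  have hGd : G.det ≠ 0 :=
    Matrix.nondegenerate_iff_det_ne_zero.1 (LinearMap.BilinForm.nondegenerate_toMatrix'_iff.2 hQ)
  have hcomp : B.compl₁₂ f f = B := LinearMap.ext₂ fun v w => by
    simp only [LinearMap.compl₁₂_apply, hf, Matrix.toLin'_apply]
    exact QForm.act_polar Q g v w
  have hrel : A.transpose * G * A = G := by
    have h := LinearMap.toMatrix₂'_compl₁₂ B f f
    rw [hcomp, hf, LinearMap.toMatrix'_toLin'] at h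
    exact h.symm
  let U : (Matrix ι ι F)ˣ := Matrix.nonsingInvUnit G (Ne.isUnit hGd)
  have hinv : A⁻¹ = ((U⁻¹ : (Matrix ι ι F)ˣ) : Matrix ι ι F) * A.transpose * (U : Matrix ι ι F) := by
    refine Matrix.inv_eq_left_inv ?_
    calc ((U⁻¹ : (Matrix ι ι F)ˣ) : Matrix ι ι F) * A.transpose * (U : Matrix ι ι F) * A
        = ((U⁻¹ : (Matrix ι ι F)ˣ) : Matrix ι ι F) * (A.transpose * G * A) := by
          simp only [Matrix.mul_assoc]; rfl
      _ = 1 := by rw [hrel]; exact U.inv_mul
  have h := Matrix.charpoly_inv A (g : Matrix.GeneralLinearGroup ι F).isUnit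
  rw [hinv, Matrix.coe_units_inv, Matrix.charpoly_units_conj', Matrix.charpoly_transpose, hodd.neg_one_pow, hdet, Ring.inverse_one,
    map_one, mul_one, neg_one_mul, ← Matrix.reverse_charpoly] at h
  linear_combination h

/-- Parities of the multiplicities of `±1`. -/
theorem multiplicity_parity (h2 : (2 : F) ≠ 0) {χ : F[X]} (hχ : χ ≠ 0) (hd : Odd χ.natDegree)
    (hrev : χ.reverse = -χ) : Odd (χ.rootMultiplicity 1) ∧ Even (χ.rootMultiplicity (-1)) := by
  obtain ⟨R₁, hR₁, hnd₁⟩ := χ.exists_eq_pow_rootMultiplicity_mul_and_not_dvd hχ 1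
  rw [dvd_iff_isRoot] at hnd₁
  set a := χ.rootMultiplicity 1 with ha
  have hR₁0 : R₁ ≠ 0 := by rintro rfl; simp at hnd₁
  have hrev1 : ((X : F[X]) - C 1).reverse = -(X - C 1) := by
    rw [reverse, natDegree_X_sub_C, sub_eq_add_neg, ← map_neg, reflect_add, reflect_C]
    have : reflect 1 (X : F[X]) = 1 := by
      have := reflect_C_mul_X_pow 1 1 (c := (1 : F))
      simpa using this
    rw [this]
    simp
  have hpow : ∀ (P : F[X]) (n : ℕ), (P ^ n).reverse = P.reverse ^ n := fun P n => by
    induction n with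
    | zero => simp [reverse, reflect_one]
    | succ n ih => rw [pow_succ, pow_succ, reverse_mul_of_domain, ih]
  have hX0 : ((X : F[X]) - C 1) ^ a ≠ 0 := pow_ne_zero _ (X_sub_C_ne_zero 1)
  have hR₁rev : (-1 : F[X]) ^ a * R₁.reverse = -R₁ := by
    refine mul_left_cancel₀ hX0 ?_
    conv_rhs => rw [mul_neg, ← hR₁, ← hrev, hR₁, reverse_mul_of_domain, hpow, hrev1, neg_pow]
    ring
  have hev1 : ∀ P : F[X], P.reverse.eval 1 = P.eval 1 := fun P => by
    letI : Invertible (1 : F) := invertibleOne
    have h := eval₂_reverse_mul_pow (RingHom.id F) (1 : F) P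
    rwa [invOf_one, one_pow, mul_one] at h
  have haodd : Odd a := by
    have h := congrArg (Polynomial.eval 1) hR₁rev
    rw [eval_mul, eval_neg, eval_pow, eval_neg, eval_one, hev1] at h
    rcases Nat.even_or_odd a with he | ho
    · rw [he.neg_one_pow, one_mul] at h
      exact absurd ((mul_eq_zero.1 (show (2 : F) * R₁.eval 1 = 0 by linear_combination h)).resolve_left h2) hnd₁
    · exact ho
  refine ⟨haodd, ?_⟩
  have hR₁eq : R₁.reverse = R₁ := by
    rw [haodd.neg_one_pow, neg_one_mul, neg_inj] at hR₁rev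
    exact hR₁rev
  have hne : (1 : F) ≠ -1 := fun h => h2 (by linear_combination h)
  have hb : χ.rootMultiplicity (-1) = R₁.rootMultiplicity (-1) := by
    rw [hR₁, rootMultiplicity_mul (by rw [← hR₁]; exact hχ), rootMultiplicity_eq_zero, Nat.zero_add]
    rw [IsRoot, eval_pow, eval_sub, eval_X, eval_C]
    exact pow_ne_zero _ (sub_ne_zero.2 hne.symm)
  obtain ⟨R, hR, hnd⟩ := R₁.exists_eq_pow_rootMultiplicity_mul_and_not_dvd hR₁0 (-1)
  rw [dvd_iff_isRoot] at hnd
  set b := R₁.rootMultiplicity (-1) with hbdef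
  rw [hb]
  have hrev2 : ((X : F[X]) - C (-1)).reverse = X - C (-1) := by
    rw [map_neg, sub_neg_eq_add, reverse, natDegree_X_add_C, reflect_add, reflect_C]
    have : reflect 1 (X : F[X]) = 1 := by
      have := reflect_C_mul_X_pow 1 1 (c := (1 : F))
      simpa using this
    rw [this]
    simp
    ring
  have hRrev : R.reverse = R := by
    refine mul_left_cancel₀ (pow_ne_zero b (X_sub_C_ne_zero (-1 : F))) ?_
    conv_rhs => rw [← hR, ← hR₁eq, hR, reverse_mul_of_domain, hpow, hrev2]
  have hreven : Even R.natDegree := by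
    letI : Invertible (-1 : F) := invertibleOfNonzero (neg_ne_zero.2 one_ne_zero)
    have h := eval₂_reverse_mul_pow (RingHom.id F) (-1 : F) R
    have hi : (⅟(-1 : F)) = -1 := invOf_eq_right_inv (by ring)
    rw [hRrev, hi] at h
    rcases Nat.even_or_odd R.natDegree with he | ho
    · exact he
    · rw [ho.neg_one_pow] at h
      refine absurd ((mul_eq_zero.1 (show (2 : F) * R.eval (-1) = 0 by
        rw [eval]; linear_combination -h)).resolve_left h2) hnd
  have hR0 : R ≠ 0 := by rintro rfl; simp at hnd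
  have hdeg : χ.natDegree = a + (b + R.natDegree) := by
    rw [hR₁, natDegree_mul hX0 hR₁0, natDegree_pow, natDegree_X_sub_C, mul_one]
    congr 1
    rw [hR, natDegree_mul (pow_ne_zero _ (X_sub_C_ne_zero _)) hR0, natDegree_pow, natDegree_X_sub_C,
      mul_one]
  obtain ⟨x, hx⟩ := haodd
  obtain ⟨y, hy⟩ := hreven
  obtain ⟨z, hz⟩ := hd
  rw [hdeg, hx, hy] at hz
  rw [Nat.even_iff]
  omega

end Cfsg.Agent.Spectrum.OrthJordan
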