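import Cfsg.Agent.Lib.QForm.Classify
import Cfsg.Agent.Lib.QForm.OmegaQuot

/-!
# The action of semiregular isometries on spheres in odd dimension

An isometry of an odd-dimensional space, odd `q`, whose cyclic group acts semiregularly outside a
non-degenerate subspace of dimension `2w+1`, of even order `n > 2` with `(q^d ± 1)/n` odd
(`d = M - w`), induces an odd permutation of the sphere `Q = 1`.
-/

set_option autoImplicit false

namespace Cfsg.Agent.Spectrum.OrthSphere

open Module (finrank)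

variable {F : Type*} [Field F] [Fintype F]

/-- All spheres of the standard odd-dimensional form. -/
theorem card_sphere (h2 : (2 : F) ≠ 0) (m : ℕ) {α : F} (hα : α ≠ 0) :
    ∃ η : ℤ, (η = 1 ∨ η = -1) ∧
      (Nat.card {v : Unit ⊕ (Fin m ⊕ Fin m) → F // quadFormOdd m F v = α} : ℤ) =
        (Fintype.card F : ℤ) ^ (2 * m) + η * (Fintype.card F : ℤ) ^ m := by
  classical
  induction m with
  | zero =>
    let e : {v : Unit ⊕ (Fin 0 ⊕ Fin 0) → F // quadFormOdd 0 F v = α} ≃ {x : F // x ^ 2 = α} :=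
      { toFun := fun v => ⟨v.1 (Sum.inl ()), by simpa [quadFormOdd] using v.2⟩
        invFun := fun x => ⟨fun _ => x.1, by simpa [quadFormOdd] using x.2⟩
        left_inv := fun v => by
          refine Subtype.ext (funext fun i => ?_)
          rcases i with ⟨⟩ | i | i
          · rfl
          · exact i.elim0
          · exact i.elim0
        right_inv := fun x => rfl }
    rw [Nat.card_congr e]
    rcases em (IsSquare α) with ⟨r, hr⟩ | hns
    · refine ⟨1, Or.inl rfl, ?_⟩
      have hr0 : r ≠ 0 := by rintro rfl; simp [hr] at hα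
      have hne : r ≠ -r := fun h =>
        hr0 ((mul_eq_zero.1 (by linear_combination h : (2 : F) * r = 0)).resolve_left h2)
      rw [Nat.card_congr (Equiv.subtypeEquivRight (q := fun x => x ∈ ({r, -r} : Finset F))
        fun x => by rw [hr, ← sq, sq_eq_sq_iff_eq_or_eq_neg]; simp), Nat.card_eq_fintype_card,
        Fintype.card_coe, Finset.card_pair hne]
      simp
    · refine ⟨-1, Or.inr rfl, ?_⟩
      have : IsEmpty {x : F // x ^ 2 = α} := ⟨fun x => hns ⟨x.1, x.2.symm.trans (sq x.1)⟩⟩
      rw [Nat.card_of_isEmpty]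
      simp
  | succ m ih =>
    obtain ⟨η, hη, hc⟩ := ih
    refine ⟨η, hη, ?_⟩
    let V := Unit ⊕ (Fin m ⊕ Fin m) → F
    let e : {v : Unit ⊕ (Fin (m + 1) ⊕ Fin (m + 1)) → F // quadFormOdd (m + 1) F v = α} ≃
        {p : (F × F) × V // Forms.hypExt (Forms.quadOdd m F) p = α} :=
      (Forms.splitOdd m F).toEquiv.subtypeEquiv fun v => by
        change quadFormOdd (m + 1) F v = α ↔ Forms.hypExt (Forms.quadOdd m F) (Forms.splitOdd m F v) = α
        rw [← Forms.quadOdd_apply, Forms.quadOdd_succ]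
    let e2 : {p : (F × F) × V // Forms.hypExt (Forms.quadOdd m F) p = α} ≃
        ({a : F // a ≠ 0} × V) ⊕ (F × {v : V // quadFormOdd m F v = α}) :=
      { toFun := fun p => if h : p.1.1.1 = 0 then Sum.inr (p.1.1.2, ⟨p.1.2, by
            have := p.2
            rw [Forms.hypExt_apply, h, zero_mul, zero_add, Forms.quadOdd_apply] at this
            exact this⟩) else Sum.inl (⟨p.1.1.1, h⟩, p.1.2)
        invFun := Sum.elim
          (fun x => ⟨((x.1.1, (α - quadFormOdd m F x.2) / x.1.1), x.2), by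
            rw [Forms.hypExt_apply, Forms.quadOdd_apply, mul_div_cancel₀ _ x.1.2, sub_add_cancel]⟩)
          (fun x => ⟨((0, x.1), x.2.1), by
            rw [Forms.hypExt_apply, zero_mul, zero_add, Forms.quadOdd_apply, x.2.2]⟩)
        left_inv := fun p => by
          obtain ⟨⟨⟨a, b⟩, v⟩, hp⟩ := p
          by_cases h : a = 0
          · simp [h]
          · simp only [h, dite_false, Sum.elim_inl]
            rw [Forms.hypExt_apply, Forms.quadOdd_apply] at hp
            refine Subtype.ext (Prod.ext (Prod.ext rfl ?_) rfl)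
            rw [div_eq_iff h]
            linear_combination -hp
        right_inv := fun x => by
          rcases x with ⟨a, v⟩ | ⟨b, v⟩
          · simp [a.2]
          · simp }
    have hVc : Fintype.card V = Fintype.card F ^ (2 * m + 1) := by
      simp [V]
      ring
    have hq1 : 1 ≤ Fintype.card F := Fintype.card_pos
    rw [Nat.card_congr (e.trans e2), Nat.card_sum, Nat.card_prod, Nat.card_prod, Nat.card_eq_fintype_card,
      Fintype.card_subtype_compl, Fintype.card_subtype_eq, Nat.card_eq_fintype_card (α := V), hVc,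
      Nat.card_eq_fintype_card (α := F)]
    push_cast [Nat.cast_sub hq1]
    rw [hc]
    ring

/-- The sphere of a non-degenerate form in odd dimension. -/
theorem card_unit_sphere (h2 : (2 : F) ≠ 0) {V : Type*} [AddCommGroup V] [Module F V] [FiniteDimensional F V]
    (Q : QuadraticForm F V) (hQ : (QuadraticMap.polarBilin Q).Nondegenerate) {m : ℕ}
    (hd : finrank F V = 2 * m + 1) :
    ∃ η : ℤ, (η = 1 ∨ η = -1) ∧
      (Nat.card {v : V // Q v = 1} : ℤ) = (Fintype.card F : ℤ) ^ (2 * m) + η * (Fintype.card F : ℤ) ^ m := by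
  obtain ⟨c, hc, e, he⟩ := QForm.exists_iso_odd h2 m Q hQ hd
  obtain ⟨η, hη, hcard⟩ := card_sphere h2 m (inv_ne_zero hc)
  refine ⟨η, hη, ?_⟩
  rw [← hcard, Nat.card_congr (e.toEquiv.subtypeEquiv (q := fun v => quadFormOdd m F v = c⁻¹) fun v => ?_)]
  change Q v = 1 ↔ quadFormOdd m F (e v) = c⁻¹
  rw [← he]
  constructor <;> intro h
  · exact eq_inv_of_mul_eq_one_right h
  · rw [h, mul_inv_cancel₀ hc]

/-- A permutation all of whose moved points have period `n`. -/
theorem sign_semiregular {α : Type*} [Fintype α] [DecidableEq α] (σ : Equiv.Perm α) {n : ℕ}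
    (hn : 0 < n) (hpow : σ ^ n = 1) (hfree : ∀ i, 0 < i → i < n → ∀ x, (σ ^ i) x = x → σ x = x) :
    ∃ k, σ.support.card = n * k ∧ Equiv.Perm.sign σ = (-1) ^ (n * k + k) := by
  have hall : ∀ l ∈ σ.cycleType, l = n := by
    intro l hl
    have hdvd : l ∣ n := (Equiv.Perm.dvd_of_mem_cycleType hl).trans (orderOf_dvd_of_pow_eq_one hpow)
    rw [Equiv.Perm.cycleType_def, Multiset.mem_map] at hl
    obtain ⟨c, hc, rfl⟩ := hl
    obtain ⟨hcyc, hagree⟩ := Equiv.Perm.mem_cycleFactorsFinset_iff.1 hc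
    obtain ⟨x, hx⟩ := hcyc.nonempty_support
    have hxσ : σ x ≠ x := by rw [← hagree x hx]; exact Equiv.Perm.mem_support.1 hx
    have hiter : ∀ i : ℕ, (σ ^ i) x = (c ^ i) x := by
      intro i
      induction i with
      | zero => rfl
      | succ i ih =>
        rw [pow_succ', pow_succ', Equiv.Perm.mul_apply, Equiv.Perm.mul_apply, ih]
        exact (hagree _ (Equiv.Perm.pow_apply_mem_support.2 hx)).symm
    refine le_antisymm (Nat.le_of_dvd hn hdvd) (not_lt.1 fun hlt => hxσ (hfree _ ?_ hlt x ?_))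
    · exact Finset.card_pos.2 ⟨x, hx⟩
    · rw [hiter, Function.comp_apply, ← hcyc.orderOf, pow_orderOf_eq_one]
      rfl
  have hrep : σ.cycleType = Multiset.replicate σ.cycleType.card n := Multiset.eq_replicate_card.2 hall
  refine ⟨σ.cycleType.card, ?_, ?_⟩
  · rw [← σ.sum_cycleType]
    conv_lhs => rw [hrep]
    rw [Multiset.sum_replicate, smul_eq_mul, mul_comm]
  · rw [Equiv.Perm.sign_of_cycleType]
    conv_lhs => rw [hrep]
    rw [Multiset.sum_replicate, Multiset.card_replicate, smul_eq_mul, mul_comm]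

variable {ι : Type} [Fintype ι] [DecidableEq ι] [DecidableEq F]

/-- The sign on the sphere of a semiregular isometry. -/
theorem sphereSign_eq_neg_one (h2 : (2 : F) ≠ 0) {Q : QuadraticForm F (ι → F)}
    (hQ : (QuadraticMap.polarBilin Q).Nondegenerate) (s : ↥(isometryGroup F ⇑Q)) {M d w n : ℕ}
    {W : Submodule F (ι → F)} (hW : (QuadraticMap.polarBilin (Q.comp W.subtype)).Nondegenerate)
    (hcard : Fintype.card ι = 2 * M + 1) (hdimW : finrank F W = 2 * w + 1) (hM : M = d + w) (σ : Bool)
    (hn : 2 < n) {j : ℕ} (hj : Odd j)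
    (hN : n * j = if σ then Fintype.card F ^ d - 1 else Fintype.card F ^ d + 1)
    (hsn : s ^ n = 1) (hW1 : ∀ v ∈ W, QForm.act Q s v = v)
    (hfree : ∀ i, 0 < i → i < n → ∀ v, QForm.act Q (s ^ i) v = v → v ∈ W) :
    QForm.sphereSign Q s = -1 := by
  set q : ℤ := (Fintype.card F : ℤ) with hq
  set π := QForm.spherePerm Q s with hπ
  have hpi : ∀ (i : ℕ) (x : {v // Q v = 1}), ((π ^ i) x : ι → F) = QForm.act Q (s ^ i) x := fun i x => by
    rw [hπ, ← map_pow, QForm.spherePerm_apply]
  have hfixW : ∀ x : {v // Q v = 1}, π x = x ↔ (x : ι → F) ∈ W := fun x => by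
    rw [Subtype.ext_iff]
    have h1 := hpi 1 x
    rw [pow_one, pow_one] at h1
    rw [h1]
    exact ⟨fun h => hfree 1 one_pos (by omega) x (by rwa [pow_one]), hW1 x⟩
  obtain ⟨k, hk, hsign⟩ := sign_semiregular π (n := n) (by omega)
    (by rw [hπ, ← map_pow, hsn, map_one]) fun i h0 hi x hx => (hfixW x).2
      (hfree i h0 hi x (by rw [← hpi]; exact congrArg Subtype.val hx))
  obtain ⟨η, hη, hS⟩ := card_unit_sphere h2 Q hQ (m := M)
    (by rw [Module.finrank_fintype_fun_eq_card, hcard])
  obtain ⟨η', hη', hSW⟩ := card_unit_sphere h2 (Q.comp W.subtype) hW (m := w) hdimW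
  let e : {x : {v // Q v = 1} // π x = x} ≃ {v : W // (Q.comp W.subtype) v = 1} :=
    { toFun := fun x => ⟨⟨x.1.1, (hfixW x.1).1 x.2⟩, x.1.2⟩
      invFun := fun v => ⟨⟨v.1.1, v.2⟩, (hfixW _).2 v.1.2⟩
      left_inv := fun x => rfl
      right_inv := fun v => rfl }
  have hcount : (n : ℤ) * k + (q ^ (2 * w) + η' * q ^ w) = q ^ (2 * M) + η * q ^ M := by
    rw [← hS, ← hSW, ← Nat.card_congr e, ← Nat.cast_mul, ← hk, ← Nat.cast_add, Nat.cast_inj,
      Nat.card_eq_fintype_card, Nat.card_eq_fintype_card, Equiv.Perm.support]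
    rw [Fintype.card_subtype, ← Finset.card_univ, add_comm]
    exact Finset.card_filter_add_card_filter_not _
  have hq1 : 1 ≤ Fintype.card F ^ d := Nat.one_le_pow _ _ Fintype.card_pos
  obtain ⟨ε, hε, hnj⟩ : ∃ ε : ℤ, (ε = 1 ∨ ε = -1) ∧ (n : ℤ) * j = q ^ d + ε := by
    cases σ
    · exact ⟨1, Or.inl rfl, by rw [← Nat.cast_mul, hN]; simp [q]⟩
    · exact ⟨-1, Or.inr rfl, by rw [← Nat.cast_mul, hN]; simp [q, Nat.cast_sub hq1]; ring⟩
  have hfac : (n : ℤ) * k = q ^ w * ((q ^ d * q ^ d - 1) * q ^ w + η * q ^ d - η') := by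
    rw [hM, pow_mul', pow_mul', sq, sq, pow_add] at hcount
    linear_combination hcount
  have hεsq : ε * ε = 1 := by rcases hε with rfl | rfl <;> rfl
  have hcop : IsCoprime (n : ℤ) (q ^ w) := by
    rcases Nat.eq_zero_or_pos d with rfl | hd
    · exfalso
      have : n * j ≤ 2 := by rw [hN]; cases σ <;> simp
      have := Nat.le_mul_of_pos_right n hj.pos
      omega
    refine IsCoprime.pow_right ⟨ε * j, -(ε * q ^ (d - 1)), ?_⟩
    have : q ^ d = q ^ (d - 1) * q := by rw [← pow_succ, Nat.sub_add_cancel hd]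
    linear_combination ε * hnj + ε * this + hεsq
  obtain ⟨t, ht⟩ : (n : ℤ) ∣ (q ^ d * q ^ d - 1) * q ^ w + η * q ^ d - η' :=
    hcop.dvd_of_dvd_mul_left ⟨k, hfac.symm⟩
  have hη'eq : η' = -(ε * η) := by
    have hdvd : (n : ℤ) ∣ η' + ε * η := by
      refine ⟨(j : ℤ) * ((q ^ d - ε) * q ^ w + η) - t, ?_⟩
      linear_combination -ht - ((q ^ d - ε) * q ^ w + η) * hnj + q ^ w * hεsq
    have habs : (η' + ε * η).natAbs ≤ 2 := by
      rcases hη' with rfl | rfl <;> rcases hε with rfl | rfl <;> rcases hη with rfl | rfl <;> decide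
    rcases Nat.eq_zero_or_pos (η' + ε * η).natAbs with h0 | h0
    · have := Int.natAbs_eq_zero.1 h0
      linarith
    · have := Nat.le_of_dvd h0 (Int.natAbs_dvd_natAbs.2 hdvd)
      simp at this
      omega
  have hkodd : Odd k := by
    rw [hη'eq] at hfac
    have hk' : (k : ℤ) = q ^ w * j * ((q ^ d - ε) * q ^ w + η) := by
      have hn0 : (n : ℤ) ≠ 0 := by exact_mod_cast (show n ≠ 0 by omega)
      refine mul_left_cancel₀ hn0 ?_
      linear_combination hfac - (q ^ w * ((q ^ d - ε) * q ^ w + η)) * hnj + q ^ w * q ^ w * hεsq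
    have hqodd : Odd q := by
      rw [hq, Int.odd_coe_nat, Nat.odd_iff]
      exact FiniteField.odd_card_of_char_ne_two fun h => h2 (by
        have : CharP F 2 := ringChar.of_eq h
        exact CharTwo.two_eq_zero)
    rw [← Int.odd_coe_nat, hk']
    refine (hqodd.pow.mul ((Int.odd_coe_nat j).2 hj)).mul (Even.add_odd ?_ ?_)
    · exact (hqodd.pow.sub_odd (by rcases hε with rfl | rfl <;> decide)).mul_right _
    · rcases hη with rfl | rfl <;> decide
  have hneven : Even n := by
    by_contra hne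
    have hNodd : Odd (n * j) := (Nat.not_even_iff_odd.1 hne).mul hj
    have hqd : Odd (Fintype.card F ^ d) := Odd.pow (Nat.odd_iff.2 (FiniteField.odd_card_of_char_ne_two
      fun h => h2 (by
        have : CharP F 2 := ringChar.of_eq h
        exact CharTwo.two_eq_zero)))
    rw [hN] at hNodd
    cases σ
    · exact Nat.not_even_iff_odd.2 hNodd hqd.add_one
    · exact Nat.not_even_iff_odd.2 hNodd (Nat.Odd.sub_odd hqd odd_one)
  rw [show QForm.sphereSign Q s = Equiv.Perm.sign π from rfl, hsign,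
    ((hneven.mul_right k).add_odd hkodd).neg_one_pow]

end Cfsg.Agent.Spectrum.OrthSphere
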