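import Cfsg.Agent.Lib.Spectrum.OrthOrbits
import Cfsg.Agent.Lib.Spectrum.OrthSphere

/-!
# The exponents of elements of `Ω₉(q)`, odd `q`

`exists_bound`: for `g ∈ Ω₉(q)` some `k` in the list `IsMax` has every common divisor of
`minpoly g * (X - 1)` and the characteristic polynomial dividing `X ^ k - 1`.
-/

set_option autoImplicit false

open Polynomial

namespace Cfsg.Agent.Spectrum.OrthNine

open Cfsg.Agent.Spectrum.OrthOrbits Cfsg.Agent.Spectrum.OrthJordan

/-- The maximal element orders of `Ω₉(q)`, up to divisibility. -/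
inductive IsMax (q p : ℕ) : ℕ → Prop
  | four (s : Bool) : IsMax q p (tor q 4 s / 2)
  | threeOne (s : Bool) : IsMax q p (Nat.lcm (tor q 3 s) (tor q 1 (!s)))
  | threeP (s : Bool) : IsMax q p (p * (tor q 3 s / 2))
  | twoOneP (s : Bool) : IsMax q p (p * Nat.lcm (tor q 2 false) (tor q 1 s))
  | twoP : IsMax q p (p * tor q 2 true)
  | nine (s : Bool) (h : p = 3) : IsMax q p (9 * (tor q 2 s / 2))
  | twentyFive (s : Bool) (h : p = 5) : IsMax q p (25 * (tor q 1 s / 2))
  | fortyNine (h : p = 7) : IsMax q p 49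

theorem two_dvd_tor {q : ℕ} (hq : Odd q) (d : ℕ) (s : Bool) : 2 ∣ tor q d s := by
  cases s
  · exact hq.pow.add_one.two_dvd
  · exact (Nat.Odd.sub_odd hq.pow odd_one).two_dvd

theorem tor_sq {q : ℕ} (d : ℕ) : tor q (2 * d) true = tor q d false * tor q d true := by
  simp only [tor, if_true, Bool.false_eq_true, if_false]
  rw [← Nat.sq_sub_sq, one_pow, ← pow_mul, mul_comm]

theorem tor_dvd_half {q : ℕ} (hq : Odd q) (d : ℕ) (s : Bool) : tor q d s ∣ tor q (2 * d) true / 2 := by
  obtain ⟨u, hu⟩ := two_dvd_tor hq d (!s)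
  refine ⟨u, ?_⟩
  rw [tor_sq]
  cases s <;> simp only [Bool.not_false, Bool.not_true] at hu
  · rw [hu, mul_left_comm, Nat.mul_div_cancel_left _ two_pos]
  · rw [hu, mul_assoc, Nat.mul_div_cancel_left _ two_pos, mul_comm]

theorem tor_one_dvd_two {q : ℕ} (s : Bool) : tor q 1 s ∣ tor q 2 true := by
  rw [show 2 = 2 * 1 from rfl, tor_sq]
  cases s
  · exact dvd_mul_right _ _
  · exact dvd_mul_left _ _

theorem tor_one_dvd_three {q : ℕ} (hq : Odd q) (t s : Bool) :
    tor q 1 t ∣ Nat.lcm (tor q 3 s) (tor q 1 (!s)) := by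
  have h1 : q - 1 ∣ q ^ 3 - 1 := by simpa using Nat.sub_one_dvd_pow_sub_one q 3
  have h2 : q + 1 ∣ q ^ 3 + 1 := by simpa using Odd.nat_add_dvd_pow_add_pow q 1 (n := 3) (by decide)
  cases t <;> cases s <;> simp only [tor, Bool.false_eq_true, if_false, if_true, Bool.not_false, Bool.not_true,
    pow_one]
  · exact h2.trans (Nat.dvd_lcm_left _ _)
  · exact Nat.dvd_lcm_right _ _
  · exact Nat.dvd_lcm_right _ _
  · exact h1.trans (Nat.dvd_lcm_left _ _)

/-- The combinatorics of orbit degrees and multiplicities. -/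
theorem exists_max {α : Type*} {q p : ℕ} (hq : Odd q) (hp : p.Prime) (hp2 : p ≠ 2) (T : Finset α)
    (d ν : α → ℕ) (s : α → Bool) (a b νm : ℕ) (hpos : ∀ f ∈ T, 0 < d f ∧ 0 < ν f)
    (hw : 2 * (∑ f ∈ T, d f * ν f) + a + b ≤ 9) (ha : Odd a) (hb : Even b)
    (hνm : νm < b ∨ (νm = 0 ∧ b = 0)) :
    (∃ e L k, IsMax q p k ∧ L * p ^ e ∣ k ∧ a ≤ p ^ e ∧ (∀ f ∈ T, ν f ≤ p ^ e ∧ tor q (d f) (s f) ∣ L) ∧
      (0 < b → νm ≤ p ^ e ∧ 2 ∣ L)) ∨
    (∃ e f, T = {f} ∧ b = 0 ∧ a ≤ p ^ e ∧ ν f ≤ p ^ e ∧ d f ≤ 4 ∧ a = 9 - 2 * d f ∧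
      IsMax q p (tor q (d f) (s f) / 2 * p ^ e)) := by
  classical
  have hp3 : 3 ≤ p := by have := hp.two_le; omega
  obtain ⟨x, hx⟩ := ha
  obtain ⟨y, hy⟩ := hb
  set W := ∑ f ∈ T, d f * ν f
  set D := ∑ f ∈ T, d f with hD
  have hterm : ∀ f ∈ T, d f * ν f ≤ W := fun f hf =>
    Finset.single_le_sum (f := fun g => d g * ν g) (fun _ _ => Nat.zero_le _) hf
  have hνW : ∀ f ∈ T, ν f ≤ W := fun f hf =>
    le_trans (Nat.le_mul_of_pos_left _ (hpos f hf).1) (hterm f hf)
  have hDW : D ≤ W := Finset.sum_le_sum fun f hf => Nat.le_mul_of_pos_right _ (hpos f hf).2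
  have hd : ∀ f ∈ T, d f ≤ D := fun f hf => Finset.single_le_sum (fun _ _ => Nat.zero_le _) hf
  have hd2 : ∀ f ∈ T, ∀ g ∈ T, g ≠ f → d f + d g ≤ D := fun f hf g hg hne => by
    rw [hD, ← Finset.add_sum_erase T _ hf]
    exact Nat.add_le_add_left (Finset.single_le_sum (fun _ _ => Nat.zero_le _)
      (Finset.mem_erase.2 ⟨hne, hg⟩)) _
  have hgap : ∀ f ∈ T, D + ν f ≤ W + 1 := by
    intro f hf
    rw [hD, ← Finset.add_sum_erase T _ hf]
    have h1 : ∑ g ∈ T.erase f, d g ≤ ∑ g ∈ T.erase f, d g * ν g := Finset.sum_le_sum fun g hg =>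
      Nat.le_mul_of_pos_right _ (hpos g (Finset.mem_of_mem_erase hg)).2
    have h2 : W = d f * ν f + ∑ g ∈ T.erase f, d g * ν g :=
      (Finset.add_sum_erase T _ hf).symm
    obtain ⟨k, hk⟩ : ∃ k, ν f = k + 1 := ⟨ν f - 1, by have := (hpos f hf).2; omega⟩
    have h3 : k ≤ d f * k := Nat.le_mul_of_pos_left _ (hpos f hf).1
    rw [hk] at h2 ⊢
    rw [mul_add, mul_one] at h2
    omega
  have hνD : ∀ f ∈ T, d f = D → ∀ g ∈ T, g = f := fun f hf he g hg => by
    by_contra hne
    have := hd2 f hf g hg hne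
    have := (hpos g hg).1
    omega
  by_cases hD4 : D = 4
  · -- semisimple, weight four
    have hν : ∀ f ∈ T, ν f ≤ p ^ 0 := fun f hf => by have := hgap f hf; simp only [pow_zero]; omega
    by_cases h4 : ∃ f ∈ T, d f = 4
    · obtain ⟨f, hf, h4⟩ := h4
      refine Or.inr ⟨0, f, ?_, by omega, by simp; omega, hν f hf, by omega, by omega, ?_⟩
      · exact Finset.eq_singleton_iff_unique_mem.2 ⟨hf, hνD f hf (by omega)⟩
      · rw [h4, pow_zero, mul_one]; exact IsMax.four _
    push Not at h4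
    by_cases h3 : ∃ f ∈ T, d f = 3
    · obtain ⟨f, hf, h3⟩ := h3
      refine Or.inl ⟨0, Nat.lcm (tor q 3 (s f)) (tor q 1 (!(s f))), _, IsMax.threeOne (s f), by simp, by simp; omega,
        fun g hg => ⟨hν g hg, ?_⟩, fun hb0 => by omega⟩
      rcases eq_or_ne g f with rfl | hne
      · rw [h3]; exact Nat.dvd_lcm_left _ _
      · have := hd2 f hf g hg hne
        have := (hpos g hg).1
        rw [show d g = 1 by omega]
        exact tor_one_dvd_three hq _ _
    push Not at h3
    refine Or.inl ⟨0, tor q 4 true / 2, _, IsMax.four true, by simp, by simp; omega, fun g hg => ⟨hν g hg, ?_⟩,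
      fun hb0 => by omega⟩
    have := (hpos g hg).1
    have := hd g hg
    have := h4 g hg
    have := h3 g hg
    rcases (show d g = 1 ∨ d g = 2 by omega) with h | h <;> rw [h]
    · exact (tor_one_dvd_two _).trans (tor_dvd_half hq 2 true)
    · exact tor_dvd_half hq 2 _
  have hD3 : D ≤ 3 := by omega
  by_cases hD3' : D = 3
  · have hν : ∀ f ∈ T, ν f ≤ p ^ 1 := fun f hf => by have := hgap f hf; rw [pow_one]; omega
    by_cases h3 : ∃ f ∈ T, d f = 3
    · obtain ⟨f, hf, h3⟩ := h3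
      have hT : T = {f} := Finset.eq_singleton_iff_unique_mem.2 ⟨hf, hνD f hf (by omega)⟩
      have hν1 : ν f = 1 := by
        have := hterm f hf
        rw [h3] at this
        have := (hpos f hf).2
        omega
      by_cases hb0 : b = 0
      · rcases (show a = 1 ∨ a = 3 by omega) with ha1 | ha3
        · refine Or.inl ⟨0, Nat.lcm (tor q 3 (s f)) (tor q 1 (!(s f))), _, IsMax.threeOne (s f), by simp, by simp; omega, fun g hg => ?_,
            fun h => by omega⟩
          rw [hT, Finset.mem_singleton] at hg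
          subst hg
          exact ⟨by simp [hν1], by rw [h3]; exact Nat.dvd_lcm_left _ _⟩
        · refine Or.inr ⟨1, f, hT, hb0, by rw [pow_one]; omega, hν f hf, by omega, by omega, ?_⟩
          rw [h3, pow_one, mul_comm]; exact IsMax.threeP _
      · refine Or.inl ⟨0, Nat.lcm (tor q 3 (s f)) (tor q 1 (!(s f))), _, IsMax.threeOne (s f), by simp, by simp; omega, fun g hg => ?_,
          fun h => ⟨by simp; omega, (two_dvd_tor hq 3 _).trans (Nat.dvd_lcm_left _ _)⟩⟩
        rw [hT, Finset.mem_singleton] at hg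
        subst hg
        exact ⟨by simp [hν1], by rw [h3]; exact Nat.dvd_lcm_left _ _⟩
    push Not at h3
    by_cases h2 : ∃ f ∈ T, d f = 2 ∧ s f = false
    · obtain ⟨f, hf, h2, hs⟩ := h2
      obtain ⟨g, hg, hne⟩ : ∃ g ∈ T, g ≠ f := by
        by_contra hno
        push Not at hno
        have := Finset.eq_singleton_iff_unique_mem.2 ⟨hf, hno⟩
        rw [hD, this, Finset.sum_singleton] at hD3'
        omega
      refine Or.inl ⟨1, _, _, IsMax.twoOneP (s g), by rw [pow_one, mul_comm], by rw [pow_one]; omega,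
        fun u hu => ⟨hν u hu, ?_⟩,
        fun h => ⟨by rw [pow_one]; omega, (two_dvd_tor hq 2 _).trans (Nat.dvd_lcm_left _ _)⟩⟩
      rcases eq_or_ne u f with rfl | huf
      · rw [h2, hs]; exact Nat.dvd_lcm_left _ _
      · have := hd2 f hf u hu huf
        have := (hpos u hu).1
        have hu1 : d u = 1 := by omega
        have hug : u = g := by
          by_contra hug
          have h' : d f + (d u + d g) ≤ D := by
            rw [hD, ← Finset.add_sum_erase T _ hf]
            refine Nat.add_le_add_left ?_ _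
            rw [← Finset.sum_pair hug]
            exact Finset.sum_le_sum_of_subset (fun z hz => by
              rcases Finset.mem_insert.1 hz with rfl | hz
              · exact Finset.mem_erase.2 ⟨huf, hu⟩
              · rw [Finset.mem_singleton] at hz; subst hz; exact Finset.mem_erase.2 ⟨hne, hg⟩)
          have := (hpos g hg).1
          omega
        subst hug
        rw [hu1]
        exact Nat.dvd_lcm_right _ _
    · push Not at h2
      refine Or.inl ⟨1, _, _, IsMax.twoP, by rw [pow_one, mul_comm], by rw [pow_one]; omega,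
        fun u hu => ⟨hν u hu, ?_⟩, fun h => ⟨by rw [pow_one]; omega, two_dvd_tor hq 2 _⟩⟩
      have := hd u hu
      have := h3 u hu
      have := (hpos u hu).1
      rcases (show d u = 1 ∨ d u = 2 by omega) with h | h <;> rw [h]
      · exact tor_one_dvd_two _
      · rw [show s u = true by simpa using h2 u hu h]
  have hD2 : D ≤ 2 := by omega
  by_cases hsmall : a ≤ p ∧ νm ≤ p ∧ ∀ f ∈ T, ν f ≤ p
  · obtain ⟨hap, hνp, hνp'⟩ := hsmall
    by_cases h2 : ∃ f ∈ T, d f = 2 ∧ s f = false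
    · obtain ⟨f, hf, h2, hs⟩ := h2
      refine Or.inl ⟨1, _, _, IsMax.twoOneP true, by rw [pow_one, mul_comm], by rwa [pow_one],
        fun u hu => ⟨by rw [pow_one]; exact hνp' u hu, ?_⟩,
        fun h => ⟨by rwa [pow_one], (two_dvd_tor hq 2 _).trans (Nat.dvd_lcm_left _ _)⟩⟩
      rw [hνD f hf (by have := hd f hf; omega) u hu, h2, hs]
      exact Nat.dvd_lcm_left _ _
    · push Not at h2
      refine Or.inl ⟨1, _, _, IsMax.twoP, by rw [pow_one, mul_comm], by rwa [pow_one],
        fun u hu => ⟨by rw [pow_one]; exact hνp' u hu, ?_⟩,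
        fun h => ⟨by rwa [pow_one], two_dvd_tor hq 2 _⟩⟩
      have := hd u hu
      have := (hpos u hu).1
      rcases (show d u = 1 ∨ d u = 2 by omega) with h | h <;> rw [h]
      · exact tor_one_dvd_two _
      · rw [show s u = true by simpa using h2 u hu h]
  -- some exponent exceeds `p`
  have hbig : p < 9 := by
    by_contra hp9
    exact hsmall ⟨by omega, by omega, fun f hf => by have := hνW f hf; omega⟩
  have hp357 : p = 3 ∨ p = 5 ∨ p = 7 := by
    interval_cases p <;> first | exact absurd hp (by decide) | omega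
  have hTd : ∀ f ∈ T, 1 ≤ d f ∧ d f ≤ D ∧ ν f ≤ W := fun f hf => ⟨(hpos f hf).1, hd f hf, hνW f hf⟩
  rcases hp357 with h | h | h
  · subst h
    have he : ∀ f ∈ T, ν f ≤ 3 ^ 2 := fun f hf => by have := hνW f hf; omega
    by_cases h2 : ∃ f ∈ T, d f = 2
    · obtain ⟨f, hf, h2⟩ := h2
      have hT := hνD f hf (by have := hd f hf; omega)
      have ha5 : a = 5 ∧ b = 0 := by
        have := hterm f hf
        rw [h2] at this
        have := (hpos f hf).2
        have hf3 : ν f ≤ 3 := by omega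
        have : ¬ (a ≤ 3 ∧ νm ≤ 3) := fun h => hsmall ⟨h.1, h.2, fun g hg => hT g hg ▸ hf3⟩
        omega
      refine Or.inr ⟨2, f, Finset.eq_singleton_iff_unique_mem.2 ⟨hf, hT⟩, ha5.2,
        by rw [ha5.1]; norm_num, he f hf, by omega, by omega, ?_⟩
      rw [h2, mul_comm]; exact IsMax.nine _ rfl
    · push Not at h2
      refine Or.inl ⟨2, _, _, IsMax.nine true rfl, by rw [mul_comm]; norm_num, by norm_num; omega,
        fun u hu => ⟨he u hu, ?_⟩,
        fun hb => ⟨by norm_num; omega, (two_dvd_tor hq 1 true).trans (tor_dvd_half hq 1 true)⟩⟩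
      have := hTd u hu
      have := h2 u hu
      rw [show d u = 1 by omega]
      exact tor_dvd_half hq 1 _
  · subst h
    have he : ∀ f ∈ T, ν f ≤ 5 ^ 2 := fun f hf => by have := hνW f hf; omega
    have h67 : 6 ≤ a ∨ 6 ≤ νm := by
      by_contra hno
      exact hsmall ⟨by omega, by omega, fun f hf => by have := hνW f hf; omega⟩
    by_cases hT : T = ∅
    · obtain ⟨s₀, hs₀⟩ : ∃ s₀ : Bool, 2 ∣ tor q 1 s₀ / 2 := by
        obtain ⟨k, hk⟩ := hq
        rcases Nat.even_or_odd k with ⟨j, hj⟩ | ⟨j, hj⟩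
        · exact ⟨true, j, by simp [tor]; omega⟩
        · exact ⟨false, j + 1, by simp [tor]; omega⟩
      refine Or.inl ⟨2, 2, _, IsMax.twentyFive s₀ rfl, ?_, by norm_num; omega, by simp [hT],
        fun hb => ⟨by norm_num; omega, dvd_rfl⟩⟩
      rw [mul_comm]
      exact mul_dvd_mul (by norm_num) hs₀
    · obtain ⟨f, hf⟩ := Finset.nonempty_iff_ne_empty.2 hT
      obtain ⟨h1, h1', h1''⟩ := hTd f hf
      have := hterm f hf
      refine Or.inr ⟨2, f, Finset.eq_singleton_iff_unique_mem.2 ⟨hf, hνD f hf (by omega)⟩, by omega,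
        by norm_num; omega, he f hf, by omega, by omega, ?_⟩
      rw [show d f = 1 by omega, mul_comm]; exact IsMax.twentyFive _ rfl
  · subst h
    have hT : T = ∅ := Finset.not_nonempty_iff_eq_empty.1 fun ⟨f, hf⟩ => hsmall ⟨by
      have := hTd f hf; omega, by have := hTd f hf; omega, fun g hg => by have := hνW g hg; omega⟩
    have ha9 : a = 9 ∧ b = 0 := by
      have : ¬ (a ≤ 7 ∧ νm ≤ 7) := fun h => hsmall ⟨h.1, h.2, by simp [hT]⟩
      omega
    exact Or.inl ⟨2, 1, _, IsMax.fortyNine rfl, by norm_num, by rw [ha9.1]; norm_num, by simp [hT],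
      fun hb => by omega⟩

variable {F : Type*} [Field F] [Fintype F] {ι : Type} [Fintype ι] [DecidableEq ι]

/-- The exponent bound. -/
theorem exists_bound {p : ℕ} [Fact p.Prime] [CharP F p] (hodd : Odd (Fintype.card F))
    {Q : QuadraticForm F (ι → F)} (hQ : (QuadraticMap.polarBilin Q).Nondegenerate)
    (hι : Fintype.card ι = 9) (g : ↥(isometryGroup F ⇑Q)) (hg : g ∈ Omega F ⇑Q) :
    ∃ k, IsMax (Fintype.card F) p k ∧ ∀ P : F[X],
      P ∣ minpoly F ((g : Matrix.GeneralLinearGroup ι F) : Matrix ι ι F) * (X - C 1) →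
      P ∣ ((g : Matrix.GeneralLinearGroup ι F) : Matrix ι ι F).charpoly → P ∣ X ^ k - 1 := by
  classical
  have h2 : (2 : F) ≠ 0 := Forms.two_ne_zero_of_odd_card hodd
  have hp : p.Prime := Fact.out
  have hp2 : p ≠ 2 := fun h => h2 (by subst h; exact_mod_cast CharP.cast_eq_zero F 2)
  have hdet : ((g : Matrix.GeneralLinearGroup ι F) : Matrix ι ι F).det = 1 := congrArg Units.val
    (QForm.omega_le_ker Q (Matrix.GeneralLinearGroup.det.comp (isometryGroup F ⇑Q).subtype) hg)
  set A : Matrix ι ι F := ((g : Matrix.GeneralLinearGroup ι F) : Matrix ι ι F) with hA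
  obtain ⟨D⟩ := exists_data (p := p) h2 hQ (hι ▸ by decide) g hdet
  have hup : ∀ {k L : ℕ}, k ∣ L → (X ^ k - 1 : F[X]) ∣ X ^ L - 1 := by
    rintro k L ⟨j, hj⟩
    rw [hj, pow_mul]
    exact sub_one_dvd_pow_sub_one _ _
  have hμ : minpoly F A ∣ minpoly F A * (X - C 1) ∧ minpoly F A ∣ A.charpoly :=
    ⟨dvd_mul_right _ _, Matrix.minpoly_dvd_charpoly A⟩
  rcases exists_max hodd hp hp2 D.T D.d D.ν D.s D.a D.b D.νm D.pos (hι ▸ D.weight) D.a_odd D.b_even D.νm_lt with
    ⟨e, L, k, hk, hdvd, ha, hT, hb⟩ | ⟨e, f, hTf, hb, ha, hν, hd4, had, hk⟩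
  · exact ⟨k, hk, fun P h1 h2 => (D.cover e L ha hT hb P h1 h2).trans (hup hdvd)⟩
  set N := tor (Fintype.card F) (D.d f) (D.s f) with hN
  refine ⟨N / 2 * p ^ e, hk, D.extend e _ ha ?_⟩
  have hpow : ∀ m : ℕ, (minpoly F A ∣ X ^ m - 1) ↔ g ^ m = 1 := by
    intro m
    constructor
    · rintro ⟨u, hu⟩
      have h3 := congrArg (aeval A) hu
      rw [map_mul, minpoly.aeval, zero_mul, map_sub, map_pow, aeval_X, map_one, sub_eq_zero] at h3
      exact Subtype.ext (Units.ext (by
        rw [SubgroupClass.coe_pow, Units.val_pow_eq_pow_val]; exact h3))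
    · intro h
      refine minpoly.dvd F A ?_
      have h3 : A ^ m = 1 := by
        rw [hA, ← Units.val_pow_eq_pow_val, ← SubgroupClass.coe_pow, h]; rfl
      simp [h3]
  set s := g ^ p ^ e with hs
  have hsN : s ^ N = 1 := by
    rw [hs, ← pow_mul, mul_comm, ← hpow]
    refine D.cover e N ha (fun u hu => ?_) (fun h => absurd hb (by omega)) _ hμ.1 hμ.2
    rw [hTf, Finset.mem_singleton] at hu
    exact hu ▸ ⟨hν, dvd_rfl⟩
  rw [hpow, mul_comm, pow_mul, ← hs, ← orderOf_dvd_iff_pow_eq_one]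
  set n := orderOf s with hn
  obtain ⟨j, hj⟩ : n ∣ N := orderOf_dvd_of_pow_eq_one hsN
  rcases Nat.even_or_odd j with ⟨r, hr⟩ | hjodd
  · rw [hj, hr, ← two_mul, mul_left_comm, Nat.mul_div_cancel_left _ two_pos]
    exact dvd_mul_right _ _
  exfalso
  have hN2 : 2 ∣ N := two_dvd_tor hodd _ _
  have hn2 : 2 < n := by
    have heven : 2 ∣ n := (Nat.prime_two.dvd_mul.1 (hj ▸ hN2)).resolve_right fun h =>
      Nat.not_even_iff_odd.2 hjodd (even_iff_two_dvd.2 h)
    have hpos : n ≠ 0 := (orderOf_pos s).ne'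
    rcases Nat.lt_or_ge 2 n with h | h
    · exact h
    · refine absurd ?_ (D.ne_two e f (hTf ▸ Finset.mem_singleton_self f))
      have h2n : n = 2 := by have := Nat.le_of_dvd (Nat.pos_of_ne_zero hpos) heven; omega
      rw [hpow, mul_comm, pow_mul, ← hs, ← h2n]
      exact pow_orderOf_eq_one s
  have hact : ∀ (i : ℕ) (v : ι → F), Matrix.mulVec (aeval A ((X : F[X]) ^ (i * p ^ e) - 1)) v =
      QForm.act Q (s ^ i) v - v := by
    intro i v
    rw [map_sub, map_pow, aeval_X, map_one, Matrix.sub_mulVec, Matrix.one_mulVec, hs, ← pow_mul,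
      mul_comm i]
    simp [QForm.act, hA]
  have hsign := OrthSphere.sphereSign_eq_neg_one h2 hQ s (M := 4) (d := D.d f) (w := 4 - D.d f) (n := n)
    (genKer_nondegenerate g (one_mul 1) hQ) hι (by rw [D.rank_one, had]; omega) (by omega)
    (D.s f) hn2 hjodd (by rw [← hj, hN]; rfl) (pow_orderOf_eq_one s) (fun v hv => ?_) (fun i hi0 hin v hv => ?_)
  · rw [QForm.omega_le_ker Q (QForm.sphereSign Q) ((Omega F ⇑Q).pow_mem hg _)] at hsign
    exact absurd hsign (by decide)
  · have h0 := pow_finrank_apply g 1 hv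
    rw [D.rank_one] at h0
    have h1 : (sub g 1 ^ p ^ e) v = 0 := by
      rw [← Nat.sub_add_cancel ha, pow_add, Module.End.mul_apply, h0, map_zero]
    have : CharP (Module.End F (ι → F)) p :=
      have : Nonempty ι := Fintype.card_pos_iff.1 (by omega)
      charP_of_injective_algebraMap (algebraMap F _).injective p
    rw [sub, one_smul, sub_pow_char_pow_of_commute _ _ (Commute.one_right (toEnd Q g)), one_pow, ← map_pow, ← hs,
      LinearMap.sub_apply, toEnd_apply, Module.End.one_apply, sub_eq_zero] at h1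
    exact h1
  · rcases D.single e f hTf hb ha hν i with h | h
    · have : s ^ i = 1 := by rw [hs, ← pow_mul, mul_comm]; exact (hpow _).1 h
      have := Nat.le_of_dvd hi0 (orderOf_dvd_of_pow_eq_one this)
      omega
    · exact h v (by rw [hact, hv, sub_self])

end Cfsg.Agent.Spectrum.OrthNine
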