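import Cfsg.Agent.Lib.GL.IsometryBound
import Cfsg.Agent.Lib.Spectrum.OrthJordan

/-!
# Elementary divisors of orthogonal isometries, odd `q`
-/

set_option autoImplicit false

open Polynomial UniqueFactorizationMonoid

namespace Cfsg.Agent.Spectrum.OrthOrbits

open Cfsg.Agent.GL Cfsg.Agent.Spectrum.OrthJordan

variable {F : Type*} [Field F] [Fintype F] {ι : Type} [Fintype ι] [DecidableEq ι]

local notation "rev" => conjRev (RingHom.id F)

/-- The order of a root attached to an orbit of degree `d`. -/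
def tor (q d : ℕ) (s : Bool) : ℕ := if s then q ^ d - 1 else q ^ d + 1

/-- See the field comments. -/
structure Data (p : ℕ) (g : Matrix ι ι F) (W : F → Submodule F (ι → F)) where
  /-- Orbit representatives other than `X ∓ 1`. -/
  T : Finset F[X]
  /-- Degrees. -/
  d : F[X] → ℕ
  /-- Exponents in the minimal polynomial. -/
  ν : F[X] → ℕ
  /-- Split orbits. -/
  s : F[X] → Bool
  /-- Multiplicity of `1`. -/
  a : ℕ
  /-- Multiplicity of `-1`. -/
  b : ℕ
  /-- Exponent of `X + 1` in the minimal polynomial. -/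
  νm : ℕ
  pos : ∀ f ∈ T, 0 < d f ∧ 0 < ν f
  weight : 2 * (∑ f ∈ T, d f * ν f) + a + b ≤ Fintype.card ι
  a_odd : Odd a
  b_even : Even b
  νm_lt : νm < b ∨ (νm = 0 ∧ b = 0)
  rank_one : Module.finrank F (W 1) = a
  cover : ∀ e L, a ≤ p ^ e → (∀ f ∈ T, ν f ≤ p ^ e ∧ tor (Fintype.card F) (d f) (s f) ∣ L) →
    (0 < b → νm ≤ p ^ e ∧ 2 ∣ L) → ∀ P : F[X], P ∣ minpoly F g * (X - C 1) → P ∣ g.charpoly →
      P ∣ X ^ (L * p ^ e) - 1
  single : ∀ e f, T = {f} → b = 0 → a ≤ p ^ e → ν f ≤ p ^ e → ∀ i,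
    (minpoly F g ∣ X ^ (i * p ^ e) - 1) ∨
      ∀ v, Matrix.mulVec (aeval g ((X : F[X]) ^ (i * p ^ e) - 1)) v = 0 → v ∈ W 1
  ne_two : ∀ e, ∀ f ∈ T, ¬ minpoly F g ∣ X ^ (2 * p ^ e) - 1
  extend : ∀ e L, a ≤ p ^ e → minpoly F g ∣ X ^ (L * p ^ e) - 1 →
    ∀ P : F[X], P ∣ minpoly F g * (X - C 1) → P ∣ g.charpoly → P ∣ X ^ (L * p ^ e) - 1

/-- Every element of determinant one in odd dimension has such data. -/
theorem exists_data {p : ℕ} [Fact p.Prime] [CharP F p] (h2 : (2 : F) ≠ 0)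
    {Q : QuadraticForm F (ι → F)} (hQ : (QuadraticMap.polarBilin Q).Nondegenerate)
    (hι : Odd (Fintype.card ι)) (g : ↥(isometryGroup F ⇑Q))
    (hdet : ((g : Matrix.GeneralLinearGroup ι F) : Matrix ι ι F).det = 1) :
    Nonempty (Data p ((g : Matrix.GeneralLinearGroup ι F) : Matrix ι ι F) (genKer g)) := by
  classical
  set A : Matrix ι ι F := ((g : Matrix.GeneralLinearGroup ι F) : Matrix ι ι F) with hAdef
  let h : (ι → F) → (ι → F) → F := fun u v => QuadraticMap.polarBilin Q u v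
  have hh : IsReflexiveSesq (RingHom.id F) h :=
    { invol := fun _ => rfl
      add_left := fun u u' v => by simp [h]
      smul_left := fun c u v => by simp [h]
      add_right := fun u v v' => by simp [h]
      smul_right := fun c u v => by simp [h]
      refl := fun u v huv => by
        simp only [h, QuadraticMap.polarBilin_apply_apply] at huv ⊢
        rwa [QuadraticMap.polar_comm]
      nondeg := fun v hv => hQ.2 v hv }
  have hA : Preserves h A := fun u v => QForm.act_polar Q g u v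
  set q := Fintype.card F with hqdef
  have hint : IsIntegral F A := Algebra.IsIntegral.isIntegral A
  set μ := minpoly F A with hμdef
  have hμ0 : μ ≠ 0 := minpoly.ne_zero hint
  set χ := A.charpoly with hχdef
  have hχm : χ.Monic := Matrix.charpoly_monic A
  have hμχ : μ ∣ χ := Matrix.minpoly_dvd_charpoly A
  have hχ0 : χ.coeff 0 ≠ 0 := fun h0 => by
    have := A.det_eq_sign_charpoly_coeff
    rw [hdet, ← hχdef, h0, mul_zero] at this
    exact one_ne_zero this
  have hc0 : ∀ P, P ∣ μ → P.coeff 0 ≠ 0 := fun P hP h0 => hχ0 (by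
    obtain ⟨c, hc⟩ := hP.trans hμχ
    rw [hc, mul_coeff_zero, h0, zero_mul])
  have hsymm : ∀ P, P ∣ μ → rev P ∣ μ := by
    intro P hP
    refine (conjRev_dvd _ hP).trans ?_
    have := conjRev_dvd (RingHom.id F) (minpoly_dvd_conjRev hh hA)
    rwa [conjRev_conjRev hh.invol (hc0 μ dvd_rfl)] at this
  set S := (normalizedFactors μ).toFinset with hS
  let ν : F[X] → ℕ := fun f => (normalizedFactors μ).count f
  have hmem : ∀ f ∈ S, Irreducible f ∧ f.Monic ∧ f ∣ μ ∧ 1 ≤ ν f := by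
    intro f hf
    rw [hS, Multiset.mem_toFinset] at hf
    have hi := irreducible_of_normalized_factor f hf
    refine ⟨hi, ?_, dvd_of_mem_normalizedFactors hf, Multiset.one_le_count_iff_mem.2 hf⟩
    rw [← normalize_normalized_factor f hf]
    exact Polynomial.monic_normalize hi.ne_zero
  have hprod : Associated (∏ f ∈ S, f ^ ν f) μ := by
    rw [hS, ← Finset.prod_multiset_count]
    exact prod_normalizedFactors hμ0
  have hcount : ∀ g : F[X], Irreducible g → ∀ k, g ^ k ∣ μ → k ≤ ν (normalize g) := by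
    intro g hg k hk
    rw [dvd_iff_normalizedFactors_le_normalizedFactors (pow_ne_zero _ hg.ne_zero) hμ0,
      normalizedFactors_pow, normalizedFactors_irreducible hg, Multiset.nsmul_singleton] at hk
    exact Multiset.le_count_iff_replicate_le.2 hk
  let r : F[X] → F[X] := fun f => normalize (rev f)
  have hrev : ∀ f ∈ S, r f ∈ S ∧ r (r f) = f ∧ (r f).natDegree = f.natDegree ∧ ν f ≤ ν (r f) := by
    intro f hf
    obtain ⟨hi, hmo, hd, h1⟩ := hmem f hf
    have h0 := hc0 f hd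
    have hg := irreducible_conjRev hh.invol hi h0
    have hpd : rev f ^ ν f ∣ μ := by
      rw [← conjRev_pow]
      refine hsymm _ ((Finset.dvd_prod_of_mem (fun f => f ^ ν f) hf).trans hprod.dvd)
    have hle := hcount _ hg _ hpd
    refine ⟨?_, ?_, ?_, hle⟩
    · rw [hS, Multiset.mem_toFinset, ← Multiset.one_le_count_iff_mem]
      exact h1.trans hle
    · have h2 := associated_conjRev (normalize_associated (rev f))
      rw [conjRev_conjRev hh.invol h0] at h2
      show normalize (rev (normalize (rev f))) = f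
      rw [normalize_eq_normalize h2.dvd h2.symm.dvd, hmo.normalize_eq_self]
    · show (normalize (rev f)).natDegree = _
      rw [natDegree_eq_of_degree_eq (degree_eq_degree_of_associated (normalize_associated _)),
        natDegree_conjRev _ h0]
  have hνr : ∀ f ∈ S, ν (r f) = ν f := fun f hf => by
    obtain ⟨h1, h2, -, h4⟩ := hrev f hf
    have h5 := (hrev _ h1).2.2.2
    rw [h2] at h5
    omega
  -- the linear factors `X ∓ 1`
  have hXC : ∀ c : F, c * c = 1 → r (X - C c) = X - C c := by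
    intro c hc
    have hc' : c ≠ 0 := left_ne_zero_of_mul (hc.trans_ne one_ne_zero)
    have hrf : rev (X - C c) = C (-c) * (X - C c) := by
      rw [conjRev, Polynomial.map_id, reverse, natDegree_X_sub_C, sub_eq_add_neg, ← map_neg, reflect_add,
        reflect_C]
      have : reflect 1 (X : F[X]) = 1 := by
        have := reflect_C_mul_X_pow 1 1 (c := (1 : F))
        simpa using this
      rw [this, pow_one, mul_add, ← map_mul, neg_mul_neg, hc, map_one]
      ring
    show normalize (rev (X - C c)) = X - C c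
    conv_rhs => rw [← (monic_X_sub_C c).normalize_eq_self]
    have hu : IsUnit (C (-c) : F[X]) := isUnit_C.2 (Ne.isUnit (neg_ne_zero.2 hc'))
    have hass : Associated (rev (X - C c)) (X - C c) := hrf ▸ associated_unit_mul_left _ _ hu
    exact normalize_eq_normalize hass.dvd hass.symm.dvd
  set S₀ := S.filter fun f => f ≠ X - C 1 ∧ f ≠ X - C (-1) with hS₀
  have hrS₀ : ∀ f ∈ S₀, r f ∈ S₀ := by
    intro f hf
    obtain ⟨hfS, h1, hm⟩ := Finset.mem_filter.1 hf
    refine Finset.mem_filter.2 ⟨(hrev f hfS).1, fun he => h1 ?_, fun he => hm ?_⟩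
    · rw [← (hrev f hfS).2.1, he, hXC 1 (one_mul 1)]
    · rw [← (hrev f hfS).2.1, he, hXC (-1) (by ring)]
  have hself : ∀ f ∈ S₀, r f = f → ∃ a, 0 < a ∧ f.natDegree = 2 * a ∧ f ∣ X ^ (q ^ a + 1) - 1 := by
    intro f hf he
    obtain ⟨hfS, h1, hm⟩ := Finset.mem_filter.1 hf
    obtain ⟨hi, hmo, hd, -⟩ := hmem f hfS
    refine (selfRev_facts hmo hi (hc0 f hd) ?_).resolve_left ?_
    · calc f = normalize (rev f) := he.symm
        _ ∣ rev f := (normalize_associated _).dvd
    · rintro ⟨c, hc, rfl⟩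
      rcases mul_self_eq_one_iff.1 hc with rfl | rfl
      · exact h1 rfl
      · exact hm rfl
  let idx : F[X] → ℕ := fun f => S.toList.idxOf f
  have hidx : ∀ f ∈ S, ∀ g, idx f = idx g → f = g := fun f hf g h =>
    (List.idxOf_inj (Finset.mem_toList.2 hf)).1 h
  let T₁ := S₀.filter fun f => r f = f
  let T₂ := S₀.filter fun f => idx f < idx (r f)
  let T₂' := S₀.filter fun f => idx (r f) < idx f
  have hcases : ∀ f ∈ S₀, f ∈ T₁ ∨ f ∈ T₂ ∨ f ∈ T₂' := by
    intro f hf
    rcases lt_trichotomy (idx f) (idx (r f)) with h | h | h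
    · exact Or.inr (Or.inl (Finset.mem_filter.2 ⟨hf, h⟩))
    · exact Or.inl (Finset.mem_filter.2 ⟨hf, (hidx f (Finset.mem_filter.1 hf).1 _ h).symm⟩)
    · exact Or.inr (Or.inr (Finset.mem_filter.2 ⟨hf, h⟩))
  have hS₀S : ∀ f ∈ S₀, f ∈ S := fun f hf => (Finset.mem_filter.1 hf).1
  have hT1 : ∀ f ∈ T₁, 0 < f.natDegree / 2 ∧ f.natDegree = 2 * (f.natDegree / 2) ∧
      f ∣ X ^ (q ^ (f.natDegree / 2) + 1) - 1 := by
    intro f hf
    obtain ⟨hf₀, he⟩ := Finset.mem_filter.1 hf
    obtain ⟨a, ha, hda, hdv⟩ := hself f hf₀ he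
    rw [hda, Nat.mul_div_cancel_left _ two_pos]
    exact ⟨ha, rfl, hdv⟩
  let dg : F[X] → ℕ := fun f => if r f = f then f.natDegree / 2 else f.natDegree
  have ha1 : ∀ f ∈ T₁, dg f = f.natDegree / 2 := fun f hf => if_pos (Finset.mem_filter.1 hf).2
  have ha2 : ∀ f ∈ T₂, dg f = f.natDegree := fun f hf => if_neg fun he => by
    have := (Finset.mem_filter.1 hf).2
    rw [he] at this
    exact lt_irrefl _ this
  have hd12 : Disjoint T₁ T₂ := Finset.disjoint_filter.2 fun f _ h1 h2 => by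
    rw [h1] at h2; exact lt_irrefl _ h2
  have hsub : ∀ (c : F) (k : ℕ) (P : F[X]) (v : ι → F),
      Matrix.mulVec (aeval A ((X - C c) ^ k * P)) v = (sub g c ^ k) (Matrix.mulVec (aeval A P) v) := by
    intro c k P v
    have hlin : Matrix.toLinAlgEquiv' (aeval A (X - C c)) = sub g c := by
      rw [map_sub, aeval_X, aeval_C, Algebra.algebraMap_eq_smul_one, map_sub, map_smul, map_one]
      rfl
    rw [map_mul, ← Matrix.mulVec_mulVec, ← hlin, ← map_pow Matrix.toLinAlgEquiv', Matrix.toLinAlgEquiv'_apply,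
      map_pow]
  -- multiplicities of `±1`
  set a := χ.rootMultiplicity 1 with hadef
  set b := χ.rootMultiplicity (-1) with hbdef
  have hdegχ : χ.natDegree = Fintype.card ι := Matrix.charpoly_natDegree_eq_dim A
  obtain ⟨hao, hbe⟩ := multiplicity_parity h2 hχm.ne_zero (hdegχ ▸ hι) (charpoly_reverse g hQ hι hdet)
  set R₀ := ∏ f ∈ S₀, f ^ ν f with hR₀
  have hR₀μ : R₀ ∣ μ := (Finset.prod_dvd_prod_of_subset _ _ _ (Finset.filter_subset _ _)).trans hprod.dvd
  have hco₀ : ∀ c : F, (∀ f ∈ S₀, f ≠ X - C c) → ∀ k, IsCoprime ((X - C c) ^ k) R₀ := by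
    intro c hne k
    refine (IsCoprime.prod_right fun f hf => (((irreducible_X_sub_C c).coprime_iff_not_dvd.2 fun hd =>
      hne f hf ?_).pow_right)).pow_left
    exact (Polynomial.eq_of_monic_of_associated (monic_X_sub_C c) (hmem f (hS₀S f hf)).2.1
      ((irreducible_X_sub_C c).associated_of_dvd (hmem f (hS₀S f hf)).1 hd)).symm
  have hco1 : ∀ k, IsCoprime (((X : F[X]) - C 1) ^ k) R₀ := hco₀ 1 fun f hf => (Finset.mem_filter.1 hf).2.1
  have hcom : ∀ k, IsCoprime (((X : F[X]) - C (-1)) ^ k) R₀ :=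
    hco₀ (-1) fun f hf => (Finset.mem_filter.1 hf).2.2
  have hne1 : (1 : F) ≠ -1 := fun h => h2 (by linear_combination h)
  have hcopm : ∀ i j, IsCoprime (((X : F[X]) - C 1) ^ i) ((X - C (-1)) ^ j) := fun i j =>
    (isCoprime_X_sub_C_of_isUnit_sub (sub_ne_zero.2 hne1).isUnit).pow
  set νm := ν (X - C (-1)) with hνm
  set ν1 := ν (X - C 1) with hν1
  have hμeq : Associated μ ((X - C 1) ^ ν1 * (X - C (-1)) ^ νm * R₀) := by
    refine hprod.symm.trans (Associated.of_eq ?_)
    have hsplit := Finset.prod_filter_mul_prod_filter_not S (fun f => f ≠ X - C 1 ∧ f ≠ X - C (-1))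
      (fun f => f ^ ν f)
    rw [← hsplit, ← hS₀, ← hR₀, mul_comm]
    congr 1
    have hne' : (X : F[X]) - C 1 ≠ X - C (-1) := fun h => hne1 (C_injective (sub_right_injective h))
    rw [← Finset.prod_pair (f := fun f => f ^ ν f) hne']
    refine Finset.prod_subset_one_on_sdiff (fun f hf => ?_) (fun f hf => ?_) (fun f _ => rfl)
    · obtain ⟨-, hf⟩ := Finset.mem_filter.1 hf
      rw [Finset.mem_insert, Finset.mem_singleton]
      tauto
    · obtain ⟨hf1, hf2⟩ := Finset.mem_sdiff.1 hf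
      have hν0 : ν f = 0 := by
        refine Multiset.count_eq_zero.2 fun hm => hf2 (Finset.mem_filter.2 ⟨Multiset.mem_toFinset.2 hm, ?_⟩)
        rw [Finset.mem_insert, Finset.mem_singleton] at hf1
        tauto
      simp only [hν0, pow_zero]
  have hν1a : ν1 ≤ a := (le_rootMultiplicity_iff hχm.ne_zero).2
    (((Dvd.dvd.mul_right (dvd_mul_right _ _) _).trans hμeq.symm.dvd).trans hμχ)
  have hνmb : νm ≤ b := (le_rootMultiplicity_iff hχm.ne_zero).2
    (((Dvd.dvd.mul_right (dvd_mul_left _ _) _).trans hμeq.symm.dvd).trans hμχ)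
  have hbig : (X - C 1) ^ a * (X - C (-1)) ^ b * R₀ ∣ χ :=
    IsCoprime.mul_dvd ((hco1 a).mul_left (hcom b))
      ((hcopm a b).mul_dvd (pow_rootMultiplicity_dvd χ 1) (pow_rootMultiplicity_dvd χ (-1)))
      (hR₀μ.trans hμχ)
  have hR₀0 : R₀ ≠ 0 := Finset.prod_ne_zero_iff.2 fun f hf => pow_ne_zero _ (hmem f (hS₀S f hf)).1.ne_zero
  have hweight : 2 * (∑ f ∈ T₁ ∪ T₂, dg f * ν f) + a + b ≤ Fintype.card ι := by
    have h1 := natDegree_le_of_dvd hbig hχm.ne_zero
    rw [hdegχ, natDegree_mul (mul_ne_zero (pow_ne_zero _ (X_sub_C_ne_zero _)) (pow_ne_zero _ (X_sub_C_ne_zero _)))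
      hR₀0, natDegree_mul (pow_ne_zero _ (X_sub_C_ne_zero _)) (pow_ne_zero _ (X_sub_C_ne_zero _)),
      natDegree_pow, natDegree_pow, natDegree_X_sub_C, natDegree_X_sub_C, mul_one, mul_one, hR₀,
      natDegree_prod _ _ fun f hf => pow_ne_zero _ (hmem f (hS₀S f hf)).1.ne_zero] at h1
    simp only [natDegree_pow] at h1
    have hd₂ : Disjoint (T₁ ∪ T₂) T₂' := by
      refine Finset.disjoint_union_left.2 ⟨Finset.disjoint_filter.2 fun f _ h1 h2 => ?_,
        Finset.disjoint_filter.2 fun f _ h1 h2 => lt_asymm h1 h2⟩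
      rw [h1] at h2; exact lt_irrefl _ h2
    have hU : S₀ = T₁ ∪ T₂ ∪ T₂' := Finset.Subset.antisymm
      (fun f hf => by rcases hcases f hf with h | h | h <;> simp [h])
      (Finset.union_subset (Finset.union_subset (Finset.filter_subset _ _) (Finset.filter_subset _ _))
        (Finset.filter_subset _ _))
    rw [hU, Finset.sum_union hd₂, Finset.sum_union hd12] at h1
    rw [Finset.sum_union hd12, mul_add]
    have e1 : ∑ f ∈ T₁, ν f * f.natDegree = 2 * ∑ f ∈ T₁, dg f * ν f := by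
      rw [Finset.mul_sum]
      exact Finset.sum_congr rfl fun f hf => by
        rw [ha1 f hf, ← mul_assoc, ← (hT1 f hf).2.1, mul_comm]
    have e2 : ∑ f ∈ T₂, ν f * f.natDegree = ∑ f ∈ T₂, dg f * ν f :=
      Finset.sum_congr rfl fun f hf => by rw [ha2 f hf, mul_comm]
    have e3 : ∑ f ∈ T₂', ν f * f.natDegree = ∑ f ∈ T₂, dg f * ν f := by
      rw [← e2]
      refine Finset.sum_nbij' r r (fun f hf => ?_) (fun f hf => ?_) (fun f hf => ?_) (fun f hf => ?_)
        (fun f hf => ?_) <;> obtain ⟨hf₀, hlt⟩ := Finset.mem_filter.1 hf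
      · exact Finset.mem_filter.2 ⟨hrS₀ f hf₀, by rw [(hrev f (hS₀S f hf₀)).2.1]; exact hlt⟩
      · exact Finset.mem_filter.2 ⟨hrS₀ f hf₀, by rw [(hrev f (hS₀S f hf₀)).2.1]; exact hlt⟩
      · exact (hrev f (hS₀S f hf₀)).2.1
      · exact (hrev f (hS₀S f hf₀)).2.1
      · rw [(hrev f (hS₀S f hf₀)).2.2.1, hνr f (hS₀S f hf₀)]
    rw [e1, e2, e3] at h1
    omega
  have hνmlt : νm < b ∨ (νm = 0 ∧ b = 0) := by
    rcases Nat.eq_zero_or_pos b with hb0 | hb0
    · exact Or.inr ⟨by omega, hb0⟩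
    refine Or.inl (lt_of_le_of_ne hνmb fun he => ?_)
    have hblock := block_lt g (c := (-1 : F)) (by ring) hQ h2 (finrank_genKer g (-1)) hbe hb0
    set R := (X - C 1) ^ ν1 * R₀ with hR
    have hμ' : Associated μ ((X - C (-1)) ^ b * R) := by rw [hR, ← he]; convert hμeq using 1; ring
    have hdvd : (X - C (-1)) ^ b * R ∣ (X - C (-1)) ^ (b - 1) * R := by
      refine hμ'.symm.dvd.trans (minpoly.dvd F A (Matrix.toLin'.injective (LinearMap.ext fun v => ?_)))
      rw [Matrix.toLin'_apply, map_zero, LinearMap.zero_apply, hsub (-1)]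
      refine hblock _ (mem_genKer_of_pow g (-1) b ?_)
      rw [← hsub (-1)]
      obtain ⟨w, hw⟩ := hμ'.dvd
      rw [hw, map_mul, hμdef, minpoly.aeval, zero_mul, Matrix.zero_mulVec]
    have hR0 : R ≠ 0 := mul_ne_zero (pow_ne_zero _ (X_sub_C_ne_zero _)) hR₀0
    have := natDegree_le_of_dvd hdvd (mul_ne_zero (pow_ne_zero _ (X_sub_C_ne_zero _)) hR0)
    rw [natDegree_mul (pow_ne_zero _ (X_sub_C_ne_zero _)) hR0, natDegree_mul (pow_ne_zero _ (X_sub_C_ne_zero _)) hR0,
      natDegree_pow, natDegree_pow, natDegree_X_sub_C] at this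
    omega
  have hchar : ∀ (L e : ℕ), ((X : F[X]) ^ L - 1) ^ p ^ e = X ^ (L * p ^ e) - 1 := fun L e => by
    rw [sub_pow_char_pow, one_pow, ← pow_mul]
  have hX1 : ∀ (L e : ℕ) (k : ℕ), k ≤ p ^ e → ((X : F[X]) - C 1) ^ k ∣ X ^ (L * p ^ e) - 1 := by
    intro L e k hk
    rw [← hchar, map_one]
    exact (pow_dvd_pow _ hk).trans (pow_dvd_pow_of_dvd (sub_one_dvd_pow_sub_one _ _) _)
  have hreduce : ∀ P : F[X], P ∣ μ * (X - C 1) → P ∣ χ →
      P ∣ (X - C 1) ^ a * ((X - C (-1)) ^ νm * R₀) := by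
    intro P hP1 hP2
    have hP0 : P ≠ 0 := fun h0 => hχm.ne_zero (eq_zero_of_zero_dvd (h0 ▸ hP2))
    obtain ⟨P₁, hP₁, hnd⟩ := P.exists_eq_pow_rootMultiplicity_mul_and_not_dvd hP0 1
    have hj : P.rootMultiplicity 1 ≤ a :=
      (le_rootMultiplicity_iff hχm.ne_zero).2 ((pow_rootMultiplicity_dvd P 1).trans hP2)
    have hco : IsCoprime P₁ ((X - C 1) ^ (ν1 + 1)) :=
      (((irreducible_X_sub_C (1 : F)).coprime_iff_not_dvd.2 hnd).symm).pow_right
    have h1 : P₁ ∣ μ * (X - C 1) := (Dvd.intro_left _ hP₁.symm).trans hP1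
    have h2' : P₁ ∣ (X - C 1) ^ (ν1 + 1) * ((X - C (-1)) ^ νm * R₀) :=
      h1.trans (by rw [pow_succ, mul_right_comm, ← mul_assoc]; exact mul_dvd_mul_right hμeq.dvd _)
    rw [hP₁]
    exact mul_dvd_mul (pow_dvd_pow _ hj) (hco.dvd_of_dvd_mul_left h2')
  have hup : ∀ {k L : ℕ}, k ∣ L → (X ^ k - 1 : F[X]) ∣ X ^ L - 1 := by
    rintro k L ⟨j, hj⟩
    rw [hj, pow_mul]
    exact sub_one_dvd_pow_sub_one _ _
  refine ⟨⟨T₁ ∪ T₂, dg, ν, fun f => decide (f ∈ T₂), a, b, νm, fun f hf => ?_, hweight, hao, hbe, hνmlt,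
    finrank_genKer g 1, fun e L ha0 hT hb P hP1 hP2 => ?_, fun e f hTf hb0 ha0 hνf i => ?_,
    fun e f hf hd => ?_, fun e L ha0 hμ' P hP1 hP2 => ?_⟩⟩
  · rcases Finset.mem_union.1 hf with h | h
    · exact ⟨by rw [ha1 f h]; exact (hT1 f h).1, (hmem f (hS₀S f (Finset.mem_filter.1 h).1)).2.2.2⟩
    · exact ⟨by rw [ha2 f h]; exact (hmem f (hS₀S f (Finset.mem_filter.1 h).1)).1.natDegree_pos,
        (hmem f (hS₀S f (Finset.mem_filter.1 h).1)).2.2.2⟩
  · refine (hreduce P hP1 hP2).trans (IsCoprime.mul_dvd ((hcopm a νm).mul_right (hco1 a)) (hX1 L e a ha0)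
      (IsCoprime.mul_dvd (hcom νm) ?_ ?_))
    · rcases Nat.eq_zero_or_pos νm with h0 | h0
      · rw [h0, pow_zero]; exact one_dvd _
      have hb0 : 0 < b := by omega
      rw [← hchar]
      refine (pow_dvd_pow _ (hb hb0).1).trans (pow_dvd_pow_of_dvd (dvd_iff_isRoot.2 ?_) _)
      obtain ⟨j, rfl⟩ := (hb hb0).2
      simp [pow_mul]
    · have hminus : ∀ f' ∈ T₂, ∀ f ∈ S, f'.natDegree = f.natDegree → f ∣ X ^ L - 1 := by
        intro f' hf' f hf hdeg
        have hX : ¬ f ∣ X := fun hd => by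
          have h1 := Polynomial.eq_of_monic_of_associated (hmem f hf).2.1 monic_X
            ((hmem f hf).1.associated_of_dvd irreducible_X hd)
          exact hc0 f (hmem f hf).2.2.1 (by rw [h1, coeff_X_zero])
        refine (irreducible_dvd_X_pow_sub_one (hmem f hf).1 hX (L := q ^ dg f' - 1) ?_).trans (hup ?_)
        · rw [ha2 f' hf', hdeg]
        · have := (hT f' (Finset.mem_union_right _ hf')).2
          simpa [tor, hf'] using this
      have hfac : ∀ f ∈ S₀, ν f ≤ p ^ e ∧ f ∣ X ^ L - 1 := by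
        intro f hf
        rcases hcases f hf with h | h | h
        · refine ⟨(hT f (Finset.mem_union_left _ h)).1, ?_⟩
          have h2 := (hT1 f h).2.2
          rw [← ha1 f h] at h2
          refine h2.trans (hup ?_)
          have := (hT f (Finset.mem_union_left _ h)).2
          simpa [tor, Finset.disjoint_left.1 hd12 h] using this
        · exact ⟨(hT f (Finset.mem_union_right _ h)).1, hminus f h f (hS₀S f hf) rfl⟩
        · obtain ⟨-, hlt⟩ := Finset.mem_filter.1 h
          have hr : r f ∈ T₂ :=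
            Finset.mem_filter.2 ⟨hrS₀ f hf, by rw [(hrev f (hS₀S f hf)).2.1]; exact hlt⟩
          refine ⟨?_, hminus (r f) hr f (hS₀S f hf) (hrev f (hS₀S f hf)).2.2.1⟩
          rw [← hνr f (hS₀S f hf)]
          exact (hT _ (Finset.mem_union_right _ hr)).1
      rw [← hchar]
      refine Finset.prod_dvd_of_coprime (fun f hf g hg hfg => ?_) fun f hf => ?_
      · refine IsCoprime.pow ((hmem f (hS₀S f hf)).1.coprime_iff_not_dvd.2 fun hd => hfg ?_)
        exact Polynomial.eq_of_monic_of_associated (hmem f (hS₀S f hf)).2.1 (hmem g (hS₀S g hg)).2.1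
          ((hmem f (hS₀S f hf)).1.associated_of_dvd (hmem g (hS₀S g hg)).1 hd)
      · exact (pow_dvd_pow _ (hfac f hf).1).trans (pow_dvd_pow_of_dvd (hfac f hf).2 _)
  · have hS₀' : ∀ g ∈ S₀, g = f ∨ g = r f := by
      intro g hg
      rcases hcases g hg with h | h | h
      · exact Or.inl (Finset.mem_singleton.1 (hTf ▸ Finset.mem_union_left _ h))
      · exact Or.inl (Finset.mem_singleton.1 (hTf ▸ Finset.mem_union_right _ h))
      · obtain ⟨-, hlt⟩ := Finset.mem_filter.1 h
        have hr : r g ∈ T₂ := Finset.mem_filter.2 ⟨hrS₀ g hg, by rw [(hrev g (hS₀S g hg)).2.1]; exact hlt⟩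
        have hm : r g ∈ T₁ ∪ T₂ := Finset.mem_union_right _ hr
        rw [hTf, Finset.mem_singleton] at hm
        exact Or.inr (by rw [← hm, (hrev g (hS₀S g hg)).2.1])
    have hfS₀ : f ∈ S₀ := by
      have : f ∈ T₁ ∪ T₂ := hTf ▸ Finset.mem_singleton_self f
      rcases Finset.mem_union.1 this with h | h <;> exact (Finset.mem_filter.1 h).1
    have hrdvd : ∀ g ∈ S, g ∣ X ^ i - 1 → r g ∣ X ^ i - 1 := by
      intro g hg hd
      rcases Nat.eq_zero_or_pos i with hi | hi
      · rw [hi, pow_zero, sub_self]; exact dvd_zero _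
      have h1 := conjRev_dvd_X_pow_sub_C (σ := RingHom.id F) (f := g) hh.invol hi (c := 1) (by simp) (by
        rw [map_one]; exact hd)
      refine (normalize_associated _).dvd.trans ?_
      simpa using h1
    have hμ'' : Associated μ ((X - C 1) ^ ν1 * R₀) := by
      rcases hνmlt with h | h
      · omega
      · rw [h.1, pow_zero, mul_one] at hμeq; exact hμeq
    by_cases hone : f ∣ X ^ i - 1
    · left
      refine hμ''.dvd.trans ((hco1 ν1).mul_dvd (hX1 i e ν1 (hν1a.trans ha0)) ?_)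
      rw [← hchar]
      have hfac : ∀ g ∈ S₀, ν g ≤ p ^ e ∧ g ∣ X ^ i - 1 := by
        intro g hg
        rcases hS₀' g hg with rfl | rfl
        · exact ⟨hνf, hone⟩
        · exact ⟨by rw [hνr f (hS₀S f hfS₀)]; exact hνf, hrdvd f (hS₀S f hfS₀) hone⟩
      refine Finset.prod_dvd_of_coprime (fun u hu w hw huw => ?_) fun u hu => ?_
      · refine IsCoprime.pow ((hmem u (hS₀S u hu)).1.coprime_iff_not_dvd.2 fun hd => huw ?_)
        exact Polynomial.eq_of_monic_of_associated (hmem u (hS₀S u hu)).2.1 (hmem w (hS₀S w hw)).2.1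
          ((hmem u (hS₀S u hu)).1.associated_of_dvd (hmem w (hS₀S w hw)).1 hd)
      · exact (pow_dvd_pow _ (hfac u hu).1).trans (pow_dvd_pow_of_dvd (hfac u hu).2 _)
    · right
      intro v hv
      have hco : IsCoprime R₀ ((X : F[X]) ^ (i * p ^ e) - 1) := by
        rw [← hchar]
        refine IsCoprime.prod_left fun u hu => IsCoprime.pow ((hmem u (hS₀S u hu)).1.coprime_iff_not_dvd.2 ?_)
        rcases hS₀' u hu with rfl | rfl
        · exact hone
        · intro hd
          exact hone (by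
            have := hrdvd _ (hS₀S _ hu) hd
            rwa [(hrev f (hS₀S f hfS₀)).2.1] at this)
      obtain ⟨x, y, hxy⟩ := hco
      refine mem_genKer_of_pow g 1 ν1 ?_
      have hs1 := hsub 1 ν1 1 v
      rw [mul_one, map_one (aeval A), Matrix.one_mulVec] at hs1
      rw [← hs1]
      obtain ⟨w, hw⟩ := hμ''.dvd
      have e1 : ((X : F[X]) - C 1) ^ ν1 = x * ((X - C 1) ^ ν1 * R₀) +
          (y * (X - C 1) ^ ν1) * (X ^ (i * p ^ e) - 1) := by
        linear_combination (-((X - C (1 : F)) ^ ν1)) * hxy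
      rw [e1, hw, map_add, map_mul, map_mul, hμdef, minpoly.aeval, zero_mul, mul_zero, zero_add,
        map_mul _ (y * _), ← Matrix.mulVec_mulVec, hv, Matrix.mulVec_zero]
  · have hf₀ : f ∈ S₀ := by
      rcases Finset.mem_union.1 hf with h | h <;> exact (Finset.mem_filter.1 h).1
    obtain ⟨hfS, h1, hm⟩ := Finset.mem_filter.1 hf₀
    obtain ⟨hi, hmo, hfμ, -⟩ := hmem f hfS
    rw [← hchar] at hd
    have h2' := hi.prime.dvd_of_dvd_pow (hfμ.trans hd)
    rw [show (X : F[X]) ^ 2 - 1 = (X - C 1) * (X - C (-1)) by rw [map_neg, map_one]; ring] at h2'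
    rcases hi.prime.dvd_or_dvd h2' with h | h
    · exact h1 (Polynomial.eq_of_monic_of_associated hmo (monic_X_sub_C _)
        (hi.associated_of_dvd (irreducible_X_sub_C _) h))
    · exact hm (Polynomial.eq_of_monic_of_associated hmo (monic_X_sub_C _)
        (hi.associated_of_dvd (irreducible_X_sub_C _) h))
  · refine (hreduce P hP1 hP2).trans (IsCoprime.mul_dvd ((hcopm a νm).mul_right (hco1 a)) (hX1 L e a ha0) ?_)
    exact ((dvd_mul_left _ ((X - C 1) ^ ν1)).trans (by rw [← mul_assoc]; exact hμeq.symm.dvd)).trans hμ'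

end Cfsg.Agent.Spectrum.OrthOrbits
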