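import Cfsg.Agent.Lib.Spectrum.OrthSphere
import Cfsg.Agent.Lib.Spectrum.OrthOrbits
import Cfsg.Agent.Lib.Spectrum.OddOrthMixed
import Cfsg.Agent.Lib.QForm.OrthSumForm
import Cfsg.Agent.Lib.QForm.SpinorApps
import Cfsg.Agent.Lib.QForm.Std

/-!
# Tori of even-dimensional orthogonal spaces, odd `q`

`exists_torus`: for `d ≥ 1` and either sign, a space of dimension `2d` of that type has an isometry of
order `q^d ∓ 1` and determinant one outside `Ω`.
-/

set_option autoImplicit false

open scoped Matrix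

namespace Cfsg.Agent.Spectrum.OrthTorus

open Cfsg.Agent.Spectrum.OrthOrbits Cfsg.Agent.QForm

universe u

variable {F : Type u} [Field F] [Fintype F] [DecidableEq F]

/-- The discriminant class: `1` for plus type, `-1` for minus type, in even dimension. -/
noncomputable def disc {ι : Type} [Fintype ι] [DecidableEq ι] (Q : QuadraticForm F (ι → F)) : ℤ :=
  quadraticChar F ((-1) ^ (Fintype.card ι / 2) * (gram ⇑Q ⇑(Pi.basisFun F ι)).det)

theorem disc_dichotomy {ι : Type} [Fintype ι] [DecidableEq ι] {Q : QuadraticForm F (ι → F)}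
    (hQ : (QuadraticMap.polarBilin Q).Nondegenerate) : disc Q = 1 ∨ disc Q = -1 :=
  quadraticChar_dichotomy (mul_ne_zero (pow_ne_zero _ (neg_ne_zero.2 one_ne_zero)) (det_gram_ne_zero hQ _))

theorem disc_sumForm {ι κ : Type} [Fintype ι] [DecidableEq ι] [Fintype κ] [DecidableEq κ]
    (Q₁ : QuadraticForm F (ι → F)) (Q₂ : QuadraticForm F (κ → F)) (h : Even (Fintype.card ι)) :
    disc (sumForm Q₁ Q₂) = disc Q₁ * disc Q₂ := by
  obtain ⟨m, hm⟩ := h
  have hM : gram ⇑(sumForm Q₁ Q₂) ⇑(Pi.basisFun F (ι ⊕ κ)) = Matrix.fromBlocks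
      (gram ⇑Q₁ ⇑(Pi.basisFun F ι)) 0 0 (gram ⇑Q₂ ⇑(Pi.basisFun F κ)) := by
    have hl : ∀ x : ι, (Pi.single (Sum.inl x) (1 : F) : ι ⊕ κ → F) ∘ Sum.inl = Pi.single x 1 := fun x => by
      funext y; simp [Pi.single_apply]
    have hl' : ∀ x : ι, (Pi.single (Sum.inl x) (1 : F) : ι ⊕ κ → F) ∘ Sum.inr = 0 := fun x => by
      funext y; simp [Pi.single_apply]
    have hr : ∀ x : κ, (Pi.single (Sum.inr x) (1 : F) : ι ⊕ κ → F) ∘ Sum.inr = Pi.single x 1 := fun x => by
      funext y; simp [Pi.single_apply]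
    have hr' : ∀ x : κ, (Pi.single (Sum.inr x) (1 : F) : ι ⊕ κ → F) ∘ Sum.inl = 0 := fun x => by
      funext y; simp [Pi.single_apply]
    ext x y
    rw [gram, Matrix.of_apply, polar_sumForm]
    rcases x with x | x <;> rcases y with y | y <;> simp [gram, hl, hl', hr, hr', Pi.basisFun_apply]
  rw [disc, disc, disc, ← map_mul, hM, Matrix.det_fromBlocks_zero₂₁, Fintype.card_sum,
    show (Fintype.card ι + Fintype.card κ) / 2 = Fintype.card ι / 2 + Fintype.card κ / 2 by omega, pow_add]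
  exact congrArg _ (by ring)

theorem disc_plusForm (m : ℕ) : disc (plusForm F m) = 1 := by
  rw [disc, det_gram_plus, Fintype.card_sum, Fintype.card_fin, ← two_mul, Nat.mul_div_cancel_left _ two_pos,
    ← mul_pow, neg_mul_neg, one_mul, one_pow, map_one]

theorem disc_minusForm (h2 : (2 : F) ≠ 0) (m : ℕ) {a b : F}
    (hab : ∀ z₁ z₂ : F, z₁ ^ 2 + a * z₁ * z₂ + b * z₂ ^ 2 = 0 → z₁ = 0 ∧ z₂ = 0) :
    disc (minusForm F m a b) = -1 := by
  rw [disc, det_gram_minus, Fintype.card_sum, Fintype.card_sum, Fintype.card_fin, Fintype.card_fin,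
    show (m + m + 2) / 2 = m + 1 by omega, ← mul_assoc, ← mul_pow, neg_mul_neg, one_mul, one_pow, one_mul]
  exact quadraticChar_neg_one_iff_not_isSquare.2 (not_isSquare_disc h2 hab)

theorem exists_iso_of_disc (h2 : (2 : F) ≠ 0) {ι κ : Type} [Fintype ι] [DecidableEq ι] [Fintype κ]
    [DecidableEq κ] {Q : QuadraticForm F (ι → F)} {Q' : QuadraticForm F (κ → F)}
    (hQ : (QuadraticMap.polarBilin Q).Nondegenerate) (hQ' : (QuadraticMap.polarBilin Q').Nondegenerate)
    (hcard : Fintype.card ι = Fintype.card κ) (hdisc : disc Q = disc Q') :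
    ∃ e : (ι → F) ≃ₗ[F] (κ → F), ∀ v, Q' (e v) = Q v := by
  let σ := Fintype.equivOfCardEq hcard
  refine (isometric_iff h2 Q Q' hQ hQ' (Pi.basisFun F ι) ((Pi.basisFun F κ).reindex σ.symm)).2 ?_
  have he : (gram ⇑Q' ⇑((Pi.basisFun F κ).reindex σ.symm)).det = (gram ⇑Q' ⇑(Pi.basisFun F κ)).det := by
    rw [← Matrix.det_submatrix_equiv_self σ (gram ⇑Q' ⇑(Pi.basisFun F κ))]
    congr 1
    ext i j
    simp [gram]
  rw [he]
  have h1 : (-1 : F) ^ (Fintype.card ι / 2) ≠ 0 := pow_ne_zero _ (neg_ne_zero.2 one_ne_zero)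
  have hD := det_gram_ne_zero hQ (Pi.basisFun F ι)
  have hD' := det_gram_ne_zero hQ' (Pi.basisFun F κ)
  rw [← quadraticChar_one_iff_isSquare (mul_ne_zero hD hD'), map_mul]
  rw [disc, disc, ← hcard, map_mul, map_mul] at hdisc
  have h2' := mul_left_cancel₀ (quadraticChar_eq_zero_iff.not.2 h1) hdisc
  rw [h2', ← sq]
  rcases quadraticChar_dichotomy hD' with h | h <;> rw [h] <;> rfl

/-- `O(Q₁) × O(Q₂) → O(Q₁ ⊕ Q₂)` for quadratic forms. -/
noncomputable def sumMap {ι κ : Type} [Fintype ι] [DecidableEq ι] [Fintype κ] [DecidableEq κ]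
    (Q₁ : QuadraticForm F (ι → F)) (Q₂ : QuadraticForm F (κ → F)) :
    ↥(isometryGroup F ⇑Q₁) × ↥(isometryGroup F ⇑Q₂) →* ↥(isometryGroup F ⇑(sumForm Q₁ Q₂)) :=
  sumHom ⇑Q₁ ⇑Q₂

theorem sumMap_mem_omega {ι κ : Type} [Fintype ι] [DecidableEq ι] [Fintype κ] [DecidableEq κ]
    {Q₁ : QuadraticForm F (ι → F)} {Q₂ : QuadraticForm F (κ → F)} {g₁ : ↥(isometryGroup F ⇑Q₁)}
    {g₂ : ↥(isometryGroup F ⇑Q₂)} (h₁ : g₁ ∈ Omega F ⇑Q₁) (h₂ : g₂ ∈ Omega F ⇑Q₂) :
    sumMap Q₁ Q₂ (g₁, g₂) ∈ Omega F ⇑(sumForm Q₁ Q₂) := sumHom_mem_omega ⇑Q₁ ⇑Q₂ h₁ h₂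

theorem act_sumMap {ι κ : Type} [Fintype ι] [DecidableEq ι] [Fintype κ] [DecidableEq κ]
    (Q₁ : QuadraticForm F (ι → F)) (Q₂ : QuadraticForm F (κ → F)) (g₁ : ↥(isometryGroup F ⇑Q₁))
    (g₂ : ↥(isometryGroup F ⇑Q₂)) (v : ι ⊕ κ → F) :
    act (sumForm Q₁ Q₂) (sumMap Q₁ Q₂ (g₁, g₂)) v =
      Sum.elim (act Q₁ g₁ (v ∘ Sum.inl)) (act Q₂ g₂ (v ∘ Sum.inr)) := by
  show Matrix.fromBlocks _ 0 0 _ *ᵥ v = _
  rw [Matrix.fromBlocks_mulVec]
  simp [act]

/-- The line. -/
noncomputable abbrev lineForm (F : Type u) [Field F] : QuadraticForm F (Unit ⊕ (Fin 0 ⊕ Fin 0) → F) :=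
  Forms.quadOdd 0 F

/-- An isometry of a space of even dimension without fixed vectors has determinant one. -/
theorem det_eq_one (h2 : (2 : F) ≠ 0) {ι : Type} [Fintype ι] [DecidableEq ι] {Q : QuadraticForm F (ι → F)}
    (hQ : (QuadraticMap.polarBilin Q).Nondegenerate) (hev : Even (Fintype.card ι))
    (g : ↥(isometryGroup F ⇑Q)) (hfix : ∀ v, act Q g v = v → v = 0) :
    ((g : Matrix.GeneralLinearGroup ι F) : Matrix ι ι F).det = 1 := by
  set A : Matrix ι ι F := ((g : Matrix.GeneralLinearGroup ι F) : Matrix ι ι F)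
  let f : Module.End F (ι ⊕ (Unit ⊕ (Fin 0 ⊕ Fin 0)) → F) :=
    Matrix.toLin' (Matrix.fromBlocks A 0 0 (-1))
  have hdet := OddOrth.det_eq_neg_one h2 (sumForm_nondegenerate Q (lineForm F) hQ
    (Forms.quadOdd_nondegenerate h2 0)) (by simpa using hev.add_one) f (fun v => ?_) (fun v hv => ?_)
  · rw [LinearMap.det_toLin', Matrix.det_fromBlocks_zero₂₁, Matrix.det_neg] at hdet
    simpa using hdet
  · show Q ((Matrix.fromBlocks A 0 0 (-1) *ᵥ v) ∘ Sum.inl) +
      lineForm F ((Matrix.fromBlocks A 0 0 (-1) *ᵥ v) ∘ Sum.inr) = _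
    rw [Matrix.fromBlocks_mulVec, Sum.elim_comp_inl, Sum.elim_comp_inr, Matrix.zero_mulVec, Matrix.zero_mulVec,
      add_zero, zero_add, Matrix.neg_mulVec, Matrix.one_mulVec, QuadraticMap.map_neg]
    exact congrArg (· + lineForm F (v ∘ Sum.inr)) (act_map Q g (v ∘ Sum.inl))
  · rw [Matrix.toLin'_apply, Matrix.fromBlocks_mulVec, Matrix.zero_mulVec, Matrix.zero_mulVec, add_zero,
      zero_add, Matrix.neg_mulVec, Matrix.one_mulVec] at hv
    have e1 : v ∘ Sum.inl = 0 := hfix _ (funext fun i => congrFun hv (Sum.inl i))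
    funext i
    rcases i with i | i
    · exact congrFun e1 i
    · have h := congrFun hv (Sum.inr i)
      simp only [Sum.elim_inr, Pi.neg_apply, Function.comp_apply] at h
      exact (mul_eq_zero.1 (show (2 : F) * v (Sum.inr i) = 0 by linear_combination -h)).resolve_left h2

/-- A freely acting isometry of order `q^d ± 1` lies outside `Ω`. -/
theorem notMem_omega (hodd : Odd (Fintype.card F)) {ι : Type} [Fintype ι] [DecidableEq ι]
    {Q : QuadraticForm F (ι → F)} (hQ : (QuadraticMap.polarBilin Q).Nondegenerate) {d : ℕ}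
    (hcard : Fintype.card ι = 2 * d) (σ : Bool) (g : ↥(isometryGroup F ⇑Q))
    (hord : orderOf g = tor (Fintype.card F) d σ)
    (hfree : ∀ i v, act Q (g ^ i) v = v → v = 0 ∨ g ^ i = 1) (hdisc : disc Q = if σ then 1 else -1) :
    g ∉ Omega F ⇑Q := by
  intro hg
  have h2 := Forms.two_ne_zero_of_odd_card hodd
  rcases Nat.eq_zero_or_pos d with rfl | hd
  · have : g = 1 := isometry_ext Q fun v => by
      have : IsEmpty ι := Fintype.card_eq_zero_iff.1 (by omega)
      exact funext fun i => isEmptyElim i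
    rw [this, orderOf_one] at hord
    cases σ <;> simp [tor] at hord
  rcases Nat.lt_or_ge 2 (orderOf g) with hn | hn
  · have hW : ∀ (v : ι ⊕ (Unit ⊕ (Fin 0 ⊕ Fin 0)) → F) (x : ↥(isometryGroup F ⇑Q)),
        act (sumForm Q (lineForm F)) (sumMap Q (lineForm F) (x, 1)) v =
          Sum.elim (act Q x (v ∘ Sum.inl)) (v ∘ Sum.inr) := fun v x => by
      rw [act_sumMap, act_one]
    let W : Submodule F (ι ⊕ (Unit ⊕ (Fin 0 ⊕ Fin 0)) → F) := LinearMap.ker (LinearMap.funLeft F F Sum.inl)
    let eW : W ≃ₗ[F] (Unit ⊕ (Fin 0 ⊕ Fin 0) → F) :=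
      { toFun := fun v => v.1 ∘ Sum.inr
        map_add' := fun _ _ => rfl
        map_smul' := fun _ _ => rfl
        invFun := fun u => ⟨Sum.elim 0 u, by ext i; rfl⟩
        left_inv := fun v => Subtype.ext (funext fun i => by
          rcases i with i | i
          · exact (congrFun (LinearMap.mem_ker.1 v.2) i).symm
          · rfl)
        right_inv := fun u => rfl }
    have hWQ : ∀ v : W, lineForm F (eW v) = (sumForm Q (lineForm F)).comp W.subtype v := fun v => by
      show _ = Q ((v.1) ∘ Sum.inl) + lineForm F (v.1 ∘ Sum.inr)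
      rw [show v.1 ∘ Sum.inl = 0 from LinearMap.mem_ker.1 v.2, QuadraticMap.map_zero, zero_add]
      rfl
    have hW0 : (QuadraticMap.polarBilin ((sumForm Q (lineForm F)).comp W.subtype)).Nondegenerate :=
      Forms.polar_nondegenerate_of_equiv (Q' := lineForm F) eW hWQ (Forms.quadOdd_nondegenerate h2 0)
    have hQ' : (QuadraticMap.polarBilin (sumForm Q (lineForm F))).Nondegenerate :=
      sumForm_nondegenerate Q (lineForm F) hQ (Forms.quadOdd_nondegenerate h2 0)
    have hmem : sumMap Q (lineForm F) (g, 1) ∈ Omega F ⇑(sumForm Q (lineForm F)) :=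
      sumMap_mem_omega hg (one_mem _)
    have hsign := OrthSphere.sphereSign_eq_neg_one h2 hQ' (sumMap Q (lineForm F) (g, 1)) (M := d) (d := d)
      (w := 0) (n := orderOf g) hW0 (by simp [hcard]) (by rw [eW.finrank_eq]; simp) rfl σ hn (j := 1) odd_one
      (by rw [mul_one, hord]; rfl)
      (by rw [← map_pow, Prod.pow_mk, pow_orderOf_eq_one, one_pow]; exact map_one _)
      (fun v hv => by
        rw [hW]
        funext i
        rcases i with i | i
        · have h0 : v ∘ Sum.inl = 0 := LinearMap.mem_ker.1 hv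
          rw [Sum.elim_inl, h0]
          exact (congrFun (Matrix.mulVec_zero _) i).trans (congrFun h0 i).symm
        · rfl)
      (fun i hi0 hin v hv => by
        rw [← map_pow, Prod.pow_mk, one_pow] at hv
        rw [show act (sumForm Q (lineForm F)) (sumMap Q (lineForm F) (g ^ i, 1)) v = _ from hW v (g ^ i)] at hv
        have h1 : act Q (g ^ i) (v ∘ Sum.inl) = v ∘ Sum.inl := funext fun x => congrFun hv (Sum.inl x)
        rcases hfree i _ h1 with h | h
        · exact LinearMap.mem_ker.2 h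
        · exact absurd (Nat.le_of_dvd hi0 (orderOf_dvd_of_pow_eq_one h)) (by omega))
    rw [omega_le_ker _ (sphereSign _) hmem] at hsign
    exact absurd hsign (by decide)
  · -- `q = 3`, `d = 1`, `g = -1`
    have hq3 : 3 ≤ Fintype.card F := by
      have := Fintype.one_lt_card (α := F)
      obtain ⟨k, hk⟩ := hodd
      omega
    have hpow : 3 ≤ Fintype.card F ^ d := le_trans hq3 (Nat.le_self_pow hd.ne' _)
    have hs : σ = true ∧ Fintype.card F ^ d = 3 := by
      cases σ <;> simp [tor] at hord ⊢ <;> omega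
    obtain rfl : d = 1 := by
      by_contra h
      have : Fintype.card F ^ 2 ≤ Fintype.card F ^ d := Nat.pow_le_pow_right Fintype.card_pos (by omega)
      have := Nat.pow_le_pow_left hq3 2
      omega
    rw [hs.1, tor] at hord
    simp only [if_true] at hord
    rw [hs.2] at hord
    have hinv : ∀ v, act Q g (act Q g v) = v := fun v => by
      rw [← act_mul, ← sq, show 2 = orderOf g by omega, pow_orderOf_eq_one, act_one]
    have hg1 : ((g : Matrix.GeneralLinearGroup ι F) : Matrix ι ι F) = -1 := by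
      refine Matrix.ext_iff_mulVec.2 fun v => ?_
      rw [Matrix.neg_mulVec, Matrix.one_mulVec]
      have h1 : act Q g (act Q g v + v) = act Q g v + v := by
        show ((g : Matrix.GeneralLinearGroup ι F) : Matrix ι ι F) *ᵥ _ = _
        rw [Matrix.mulVec_add]
        exact (congrArg (· + act Q g v) (hinv v)).trans (add_comm _ _)
      rcases hfree 1 _ (by rwa [pow_one]) with h | h
      · exact eq_neg_of_add_eq_zero_left h
      · rw [pow_one] at h
        rw [h, orderOf_one] at hord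
        omega
    have h1 := (neg_one_mem_omega_iff h2 hQ (hcard ▸ even_two_mul _) (Pi.basisFun F ι)).1 ⟨g, hg, hg1⟩
    rw [disc, hs.1, if_pos rfl, hcard, Nat.mul_div_cancel_left _ two_pos, pow_one, map_mul,
      (quadraticChar_one_iff_isSquare (det_gram_ne_zero hQ _)).2 h1, mul_one] at hdisc
    have h3 := FiniteField.isSquare_neg_one_iff (F := F)
    rw [quadraticChar_one_iff_isSquare (neg_ne_zero.2 one_ne_zero), h3] at hdisc
    rw [pow_one] at hs
    omega

/-- The split torus. -/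
theorem exists_split (hodd : Odd (Fintype.card F)) {d : ℕ} (hd : 0 < d) :
    ∃ g : ↥(isometryGroup F ⇑(plusForm F d)), orderOf g = tor (Fintype.card F) d true ∧
      (∀ i v, act _ (g ^ i) v = v → v = 0 ∨ g ^ i = 1) := by
  obtain ⟨p, hp⟩ := CharP.exists F
  have : Fact p.Prime := ⟨CharP.char_is_prime F p⟩
  have : NeZero d := ⟨hd.ne'⟩
  let E := FiniteField.Extension F p d
  let b : Module.Basis (Fin d) F E := Module.finBasisOfFinrankEq F E (FiniteField.finrank_extension F p d)
  obtain ⟨z, hz⟩ := IsCyclic.exists_ofOrder_eq_natCard (α := Eˣ)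
  rw [Nat.card_units, FiniteField.natCard_extension, ← Fintype.card_eq_nat_card] at hz
  let L : Eˣ →* Matrix (Fin d) (Fin d) F := (Algebra.leftMulMatrix b).toMonoidHom.comp (Units.coeHom E)
  let ψ : Eˣ →* Matrix (Fin d ⊕ Fin d) (Fin d ⊕ Fin d) F :=
    { toFun := fun u => Matrix.fromBlocks (L u) 0 0 (L u⁻¹)ᵀ
      map_one' := by simp
      map_mul' := fun u v => by
        rw [Matrix.fromBlocks_multiply, mul_inv_rev, map_mul, map_mul, Matrix.transpose_mul]
        simp }
  have hiso : ∀ u, ψ.toHomUnits u ∈ isometryGroup F ⇑(plusForm F d) := fun u v _ => by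
    show plusForm F d (ψ u *ᵥ v) = plusForm F d v
    rw [plusForm_apply, plusForm_apply]
    show (∑ i, (ψ u *ᵥ v) (.inl i) * (ψ u *ᵥ v) (.inr i)) = (v ∘ Sum.inl) ⬝ᵥ (v ∘ Sum.inr)
    have h1 : (fun i => (ψ u *ᵥ v) (.inl i)) = L u *ᵥ (v ∘ Sum.inl) := by
      funext i; simp [ψ, Matrix.fromBlocks_mulVec]
    have h2 : (fun i => (ψ u *ᵥ v) (.inr i)) = (L u⁻¹)ᵀ *ᵥ (v ∘ Sum.inr) := by
      funext i; simp [ψ, Matrix.fromBlocks_mulVec]
    show (fun i => (ψ u *ᵥ v) (.inl i)) ⬝ᵥ (fun i => (ψ u *ᵥ v) (.inr i)) = _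
    rw [h1, h2, Matrix.dotProduct_mulVec, Matrix.vecMul_transpose, Matrix.mulVec_mulVec, ← map_mul,
      inv_mul_cancel, map_one, Matrix.one_mulVec]
  let φ : Eˣ →* ↥(isometryGroup F ⇑(plusForm F d)) := ψ.toHomUnits.codRestrict _ hiso
  have hzero : ∀ u : Eˣ, u ≠ 1 → (L u - 1).det ≠ 0 := fun u hu h => by
    have hne : ((u : E) - 1) ≠ 0 := sub_ne_zero.2 fun he => hu (Units.ext he)
    have hunit : IsUnit ((Algebra.leftMulMatrix b) ((u : E) - 1)) := (Ne.isUnit hne).map _
    rw [map_sub, map_one] at hunit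
    exact ((Matrix.isUnit_iff_isUnit_det _).1 hunit).ne_zero h
  have hfree : ∀ u : Eˣ, u ≠ 1 → ∀ v, act _ (φ u) v = v → v = 0 := by
    intro u hu v hv
    have hv' : ψ u *ᵥ v = v := hv
    rw [show ψ u = Matrix.fromBlocks (L u) 0 0 (L u⁻¹)ᵀ from rfl, Matrix.fromBlocks_mulVec,
      Matrix.zero_mulVec, Matrix.zero_mulVec, add_zero, zero_add] at hv'
    have e1 : v ∘ Sum.inl = 0 := Matrix.eq_zero_of_mulVec_eq_zero (hzero u hu) (by
      rw [Matrix.sub_mulVec, Matrix.one_mulVec, sub_eq_zero]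
      exact funext fun i => congrFun hv' (Sum.inl i))
    have e2 : v ∘ Sum.inr = 0 := Matrix.eq_zero_of_mulVec_eq_zero (M := ((L u⁻¹)ᵀ - 1)) (by
      rw [← Matrix.transpose_one, ← Matrix.transpose_sub, Matrix.det_transpose]
      exact hzero _ (inv_ne_one.2 hu)) (by
      rw [Matrix.sub_mulVec, Matrix.one_mulVec, sub_eq_zero]
      exact funext fun i => congrFun hv' (Sum.inr i))
    funext i
    rcases i with i | i
    · exact congrFun e1 i
    · exact congrFun e2 i
  refine ⟨φ z, ?_, fun i v hv => ?_⟩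
  · rw [orderOf_injective φ (fun u w h => ?_), hz]
    · rfl
    · have h1 : ψ u = ψ w := congrArg (fun x : ↥(isometryGroup F ⇑(plusForm F d)) =>
        ((x : Matrix.GeneralLinearGroup (Fin d ⊕ Fin d) F) : Matrix (Fin d ⊕ Fin d) (Fin d ⊕ Fin d) F)) h
      exact Units.ext (Algebra.leftMulMatrix_injective b (Matrix.fromBlocks_inj.1 h1).1)
  · rw [← map_pow] at hv ⊢
    by_cases hu : z ^ i = 1
    · exact Or.inr (by rw [hu, map_one])
    · exact Or.inl (hfree _ hu v hv)

/-- The elliptic torus. -/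
theorem exists_nonsplit (hodd : Odd (Fintype.card F)) {d : ℕ} (hd : 0 < d) :
    ∃ (Q : QuadraticForm F (Fin d ⊕ Fin d → F)) (g : ↥(isometryGroup F ⇑Q)),
      (QuadraticMap.polarBilin Q).Nondegenerate ∧ orderOf g = tor (Fintype.card F) d false ∧
      (∀ i v, act Q (g ^ i) v = v → v = 0 ∨ g ^ i = 1) ∧ (d = 1 → ∀ v, Q v = 0 → v = 0) := by
  have h2 := Forms.two_ne_zero_of_odd_card hodd
  obtain ⟨p, hp⟩ := CharP.exists F
  have : Fact p.Prime := ⟨CharP.char_is_prime F p⟩
  obtain ⟨a, -, hqp⟩ := FiniteField.card F p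
  set q := Fintype.card F with hq
  have : NeZero (2 * d) := ⟨by omega⟩
  let E := FiniteField.Extension F p (2 * d)
  have : CharP E p := charP_of_injective_algebraMap (algebraMap F E).injective p
  obtain ⟨g, hg⟩ := IsCyclic.exists_ofOrder_eq_natCard (α := Eˣ)
  rw [Nat.card_units, FiniteField.natCard_extension, ← Fintype.card_eq_nat_card, ← hq] at hg
  have hqd : 2 ≤ q ^ d := le_trans Fintype.one_lt_card (Nat.le_self_pow hd.ne' q)
  have hcard : q ^ (2 * d) - 1 = (q ^ d - 1) * (q ^ d + 1) := by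
    rw [show q ^ (2 * d) = (q ^ d) ^ 2 by rw [← pow_mul, mul_comm], mul_comm, ← Nat.sq_sub_sq, one_pow]
  set z : Eˣ := g ^ (q ^ d - 1) with hz
  have hord : orderOf z = q ^ d + 1 := by
    rw [hz, orderOf_pow' _ (by omega), hg, hcard, Nat.gcd_mul_right_left, Nat.mul_div_cancel_left _ (by omega)]
  let ψ : E →+* E := iterateFrobenius E p (a * d)
  have hψ : ∀ x, ψ x = x ^ q ^ d := fun x => by
    rw [hqp, ← pow_mul]; exact iterateFrobenius_def p (a * d) x
  have hψam : ∀ c : F, ψ (algebraMap F E c) = algebraMap F E c := fun c => by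
    rw [hψ, ← map_pow, FiniteField.pow_card_pow]
  have hψψ : ∀ x : E, ψ (ψ x) = x := by
    intro x
    have := Fintype.ofFinite E
    have hc : Fintype.card E = q ^ (2 * d) := by
      rw [Fintype.card_eq_nat_card, FiniteField.natCard_extension, ← Fintype.card_eq_nat_card]
    rw [hψ, hψ, ← pow_mul, ← pow_add, ← two_mul, ← hc, FiniteField.pow_card]
  have htr : ∀ w : E, Algebra.trace F E (ψ w) = Algebra.trace F E w := by
    intro w
    apply (algebraMap F E).injective
    conv_rhs => rw [← hψam]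
    rw [FiniteField.algebraMap_trace_eq_sum_pow, FiniteField.algebraMap_trace_eq_sum_pow, map_sum]
    exact Finset.sum_congr rfl fun i _ => (map_pow ψ w _).symm
  have hψsmul : ∀ (r : F) (y : E), ψ (r • y) = r • ψ y := fun r y => by
    rw [Algebra.smul_def, map_mul, hψam, ← Algebra.smul_def]
  let B : LinearMap.BilinForm F E := LinearMap.mk₂ F (fun x y => Algebra.trace F E (x * ψ y))
    (fun a b c => by simp [add_mul]) (fun r a b => by simp)
    (fun a b c => by simp [mul_add]) (fun r a b => by simp [hψsmul])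
  let b : Module.Basis (Fin d ⊕ Fin d) F E :=
    (Module.finBasisOfFinrankEq F E ((FiniteField.finrank_extension F p (2 * d)).trans (two_mul d))).reindex
      finSumFinEquiv.symm
  let e : E ≃ₗ[F] (Fin d ⊕ Fin d → F) := b.equivFun
  let Q : QuadraticForm F (Fin d ⊕ Fin d → F) := B.toQuadraticMap.comp e.symm.toLinearMap
  have hBB : ∀ x y : E, QuadraticMap.polar ⇑B.toQuadraticMap x y = 2 * Algebra.trace F E (x * ψ y) := by
    intro x y
    have e : Algebra.trace F E (y * ψ x) = Algebra.trace F E (x * ψ y) := by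
      rw [← htr (x * ψ y), map_mul ψ, hψψ, mul_comm (ψ x) y]
    simp [QuadraticMap.polar, B, add_mul, mul_add, e]
    ring
  have hnd : ∀ x : E, (∀ y, QuadraticMap.polar ⇑B.toQuadraticMap x y = 0) → x = 0 := by
    intro x hx
    refine (traceForm_nondegenerate F E).1 _ fun y => ?_
    have := hx (ψ y)
    rw [hBB, hψψ] at this
    simpa [Algebra.traceForm_apply] using (mul_eq_zero.1 this).resolve_left h2
  have hQ : (QuadraticMap.polarBilin Q).Nondegenerate :=
    Forms.polar_nondegenerate_of_equiv (Q' := B.toQuadraticMap) e.symm (fun _ => rfl)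
      ⟨fun x hx => hnd x fun y => by simpa using hx y, fun x hx => hnd x fun y => by
        rw [QuadraticMap.polar_comm]; simpa using hx y⟩
  let M : Eˣ →* Matrix (Fin d ⊕ Fin d) (Fin d ⊕ Fin d) F :=
    (Algebra.leftMulMatrix b).toMonoidHom.comp (Units.coeHom E)
  have hM : ∀ u v, M u *ᵥ v = e ((u : E) * e.symm v) := fun u v => by
    obtain ⟨x, rfl⟩ := e.surjective v
    rw [e.symm_apply_apply]
    exact Algebra.leftMulMatrix_mulVec_repr b (u : E) x
  have hiso : ∀ i : ℕ, M.toHomUnits (z ^ i) ∈ isometryGroup F ⇑Q := fun i v _ => by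
    show Q (M (z ^ i) *ᵥ v) = Q v
    rw [hM]
    show Algebra.trace F E (e.symm (e _) * ψ (e.symm (e _))) = _
    rw [e.symm_apply_apply]
    have hz1 : (z : E) * ψ (z : E) = 1 := by
      rw [hψ, ← pow_succ', ← hord, ← orderOf_units, pow_orderOf_eq_one]
    have hzi : ((z ^ i : Eˣ) : E) * ψ ((z ^ i : Eˣ) : E) = 1 := by
      rw [Units.val_pow_eq_pow_val, map_pow, ← mul_pow, hz1, one_pow]
    show Algebra.trace F E _ = Algebra.trace F E (e.symm v * ψ (e.symm v))
    congr 1
    rw [map_mul, mul_mul_mul_comm, hzi, one_mul]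
  have hMinj : Function.Injective M.toHomUnits := fun u w h =>
    Units.ext (Algebra.leftMulMatrix_injective b (congrArg Units.val h))
  refine ⟨Q, ⟨M.toHomUnits (z ^ 1), hiso 1⟩, hQ, ?_, fun i v hv => ?_, fun hd1 v hv => ?_⟩
  · rw [← Subgroup.orderOf_coe]
    show orderOf (M.toHomUnits (z ^ 1)) = _
    rw [orderOf_injective _ hMinj, pow_one, hord]
    rfl
  · by_cases hu : z ^ i = 1
    · refine Or.inr (Subtype.ext ?_)
      show M.toHomUnits (z ^ 1) ^ i = 1
      rw [pow_one, ← map_pow, hu, map_one]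
    · left
      have hv' : M (z ^ i) *ᵥ v = v := by
        have he : ((⟨M.toHomUnits (z ^ 1), hiso 1⟩ : ↥(isometryGroup F ⇑Q)) ^ i : ↥(isometryGroup F ⇑Q)) =
            (⟨M.toHomUnits (z ^ i), hiso i⟩ : ↥(isometryGroup F ⇑Q)) := Subtype.ext (by
          show M.toHomUnits (z ^ 1) ^ i = M.toHomUnits (z ^ i)
          rw [pow_one]
          exact (map_pow M.toHomUnits z i).symm)
        rw [he] at hv
        exact hv
      rw [hM] at hv'
      have hne : ((z ^ i : Eˣ) : E) - 1 ≠ 0 := sub_ne_zero.2 fun he => hu (Units.ext he)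
      have h0 : e.symm v = 0 := by
        refine (mul_eq_zero.1 (show (((z ^ i : Eˣ) : E) - 1) * e.symm v = 0 from ?_)).resolve_left hne
        rw [sub_mul, one_mul, sub_eq_zero]
        exact e.injective (by rw [hv', e.apply_symm_apply])
      simpa using congrArg e h0
  · subst hd1
    set x := e.symm v with hx
    have hw : ψ (x * ψ x) = x * ψ x := by rw [map_mul, hψψ, mul_comm]
    have hv' : Algebra.trace F E (x * ψ x) = 0 := hv
    have h := congrArg (algebraMap F E) hv'
    rw [map_zero, FiniteField.algebraMap_trace_eq_sum_pow, FiniteField.finrank_extension,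
      Finset.sum_range_succ, Finset.sum_range_one, pow_zero, pow_one, Fintype.card_eq_nat_card.symm.trans hq.symm,
      pow_one] at h
    rw [hψ (x * ψ x), pow_one] at hw
    rw [hw, ← two_mul, mul_eq_zero] at h
    have h2E : (2 : E) ≠ 0 := by
      rw [← map_ofNat (algebraMap F E) 2]
      exact (map_ne_zero _).2 h2
    have hx0 : x = 0 := by
      rcases mul_eq_zero.1 (h.resolve_left h2E) with h' | h'
      · exact h'
      · exact (map_eq_zero ψ).1 h'
    simpa [hx] using congrArg e hx0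

/-- The elliptic torus lives on a space of minus type. -/
theorem disc_nonsplit (hodd : Odd (Fintype.card F)) {d : ℕ} (hd : 0 < d)
    {Q : QuadraticForm F (Fin d ⊕ Fin d → F)} (hQ : (QuadraticMap.polarBilin Q).Nondegenerate)
    (g : ↥(isometryGroup F ⇑Q)) (hord : orderOf g = tor (Fintype.card F) d false)
    (hfree : ∀ i v, act Q (g ^ i) v = v → v = 0 ∨ g ^ i = 1)
    (haniso : d = 1 → ∀ v, Q v = 0 → v = 0) : disc Q = -1 := by
  classical
  have h2 := Forms.two_ne_zero_of_odd_card hodd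
  refine (disc_dichotomy hQ).resolve_left fun hdisc => ?_
  have hP : (QuadraticMap.polarBilin (plusForm F d)).Nondegenerate := by
    rw [show plusForm F d = Forms.quadPlus d F from QuadraticMap.ext fun v => by
      rw [plusForm_apply, Forms.quadPlus_apply]]
    exact Forms.quadPlus_nondegenerate d
  obtain ⟨e, he⟩ := exists_iso_of_disc h2 hQ hP rfl (hdisc.trans (disc_plusForm d).symm)
  obtain ⟨m, rfl⟩ : ∃ m, d = m + 1 := ⟨d - 1, by omega⟩
  set q := Fintype.card F with hq
  set n := orderOf g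
  have hq3 : 3 ≤ q := by
    have := Fintype.one_lt_card (α := F)
    obtain ⟨k, hk⟩ := hodd
    omega
  -- singular vectors
  let π : Equiv.Perm {v : Fin (m + 1) ⊕ Fin (m + 1) → F // Q v = 0} :=
    { toFun := fun v => ⟨act Q g v.1, (act_map Q g v.1).trans v.2⟩
      invFun := fun v => ⟨act Q g⁻¹ v.1, (act_map Q g⁻¹ v.1).trans v.2⟩
      left_inv := fun v => Subtype.ext (act_inv_act Q g v.1)
      right_inv := fun v => Subtype.ext (act_act_inv Q g v.1) }
  have hπ : ∀ (i : ℕ) v, ((π ^ i) v).1 = act Q (g ^ i) v.1 := fun i v => by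
    induction i with
    | zero => exact (act_one Q v.1).symm
    | succ i ih => rw [pow_succ', pow_succ' g, Equiv.Perm.mul_apply, act_mul, ← ih]; rfl
  have hn0 : 0 < n := orderOf_pos g
  have hn1 : n ≠ 1 := by
    rw [hord]
    simp only [tor, Bool.false_eq_true, if_false]
    have := Nat.one_le_pow (m + 1) q (by omega)
    omega
  have hfix : ∀ v, π v = v ↔ v.1 = 0 := fun v => by
    have h1 := hπ 1 v
    rw [pow_one, pow_one] at h1
    rw [Subtype.ext_iff, h1]
    constructor
    · intro h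
      rcases hfree 1 v.1 (by rwa [pow_one]) with h' | h'
      · exact h'
      · rw [pow_one] at h'
        exact absurd (show orderOf g = 1 by rw [h', orderOf_one]) hn1
    · intro h
      rw [h]
      exact Matrix.mulVec_zero _
  obtain ⟨k, hk, -⟩ := OrthSphere.sign_semiregular π hn0 (Equiv.ext fun v => Subtype.ext (by
      rw [hπ, pow_orderOf_eq_one]; exact act_one Q v.1)) fun i hi0 hin v hv => by
    rcases hfree i v.1 (by rw [← hπ, hv]) with h | h
    · exact (hfix v).2 h
    · exact absurd (Nat.le_of_dvd hi0 (orderOf_dvd_of_pow_eq_one h)) (by omega)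
  have hsupp : π.support = Finset.univ.erase ⟨0, QuadraticMap.map_zero Q⟩ := by
    ext v
    rw [Equiv.Perm.mem_support, Finset.mem_erase, ne_eq, ne_eq, hfix, Subtype.ext_iff]
    simp
  rw [hsupp, Finset.card_erase_of_mem (Finset.mem_univ _), Finset.card_univ, ← Nat.card_eq_fintype_card,
    Nat.card_congr (e.toEquiv.subtypeEquiv (q := fun v => Forms.quadPlus (m + 1) F v = 0) fun v => by
      show Q v = 0 ↔ Forms.quadPlus (m + 1) F (e v) = 0
      rw [← he, plusForm_apply, Forms.quadPlus_apply]),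
    Forms.card_quadPlus_zeros, ← hq, Nat.add_sub_cancel, hord] at hk
  simp only [tor, Bool.false_eq_true, if_false] at hk
  have h1 : 1 ≤ q ^ (m + 1) := Nat.one_le_pow _ _ (by omega)
  have hdvd : q ^ (m + 1) + 1 ∣ 2 * (q ^ m + 1) := by
    refine (Nat.dvd_add_right (Dvd.intro k hk.symm)).1 ⟨q ^ m + 1, ?_⟩
    rw [← add_mul]
    congr 1
    omega
  have hle := Nat.le_of_dvd (by positivity) hdvd
  rcases Nat.eq_zero_or_pos m with rfl | hm
  · -- dimension two, `q = 3`
    simp only [zero_add, pow_one, pow_zero] at hdvd hle hk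
    let v₀ : Fin (0 + 1) ⊕ Fin (0 + 1) → F := e.symm (Sum.elim 1 0)
    have hv₀ : Q v₀ = 0 := by rw [← he, e.apply_symm_apply, plusForm_apply]; simp [quadFormPlus]
    have h := congrArg e (haniso rfl v₀ hv₀)
    rw [e.apply_symm_apply, map_zero] at h
    simpa using congrFun h (Sum.inl 0)
  · have : 3 * q ^ m ≤ q ^ (m + 1) := by rw [pow_succ']; exact Nat.mul_le_mul_right _ hq3
    have : 1 < q ^ m := Nat.one_lt_pow hm.ne' (by omega)
    omega

/-- Tori of both types: order `q^d ∓ 1`, determinant one, outside `Ω`. -/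
theorem exists_torus (hodd : Odd (Fintype.card F)) {d : ℕ} (hd : 0 < d) (s : Bool) :
    ∃ (Q : QuadraticForm F (Fin d ⊕ Fin d → F)) (g : ↥(isometryGroup F ⇑Q)),
      (QuadraticMap.polarBilin Q).Nondegenerate ∧ disc Q = (if s then 1 else -1) ∧
      orderOf g = tor (Fintype.card F) d s ∧
      ((g : Matrix.GeneralLinearGroup (Fin d ⊕ Fin d) F) : Matrix (Fin d ⊕ Fin d) (Fin d ⊕ Fin d) F).det = 1 ∧
      g ∉ Omega F ⇑Q := by
  have h2 := Forms.two_ne_zero_of_odd_card hodd
  have hpos : ∀ b : Bool, 1 < tor (Fintype.card F) d b := fun b => by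
    have h := Nat.le_self_pow hd.ne' (Fintype.card F)
    have := Fintype.one_lt_card (α := F)
    obtain ⟨k, hk⟩ := hodd
    cases b <;> simp [tor] <;> omega
  have key : ∀ (Q : QuadraticForm F (Fin d ⊕ Fin d → F)) (g : ↥(isometryGroup F ⇑Q)) (b : Bool),
      (QuadraticMap.polarBilin Q).Nondegenerate → orderOf g = tor (Fintype.card F) d b →
      disc Q = (if b then 1 else -1) → (∀ i v, act Q (g ^ i) v = v → v = 0 ∨ g ^ i = 1) →
      ((g : Matrix.GeneralLinearGroup (Fin d ⊕ Fin d) F) : Matrix (Fin d ⊕ Fin d) (Fin d ⊕ Fin d) F).det = 1 ∧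
        g ∉ Omega F ⇑Q := by
    intro Q g b hQ hord hdisc hfree
    refine ⟨det_eq_one h2 hQ (by simp) g fun v hv => ?_,
      notMem_omega hodd hQ (by simp [two_mul]) b g hord hfree hdisc⟩
    rcases hfree 1 v (by rwa [pow_one]) with h | h
    · exact h
    · rw [pow_one] at h
      have := hpos b
      rw [← hord, h, orderOf_one] at this
      omega
  cases s
  · obtain ⟨Q, g, hQ, hord, hfree, haniso⟩ := exists_nonsplit hodd hd
    have hdisc := disc_nonsplit hodd hd hQ g hord hfree haniso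
    exact ⟨Q, g, hQ, by simpa using hdisc, hord, key Q g false hQ hord (by simpa using hdisc) hfree⟩
  · obtain ⟨g, hord, hfree⟩ := exists_split (F := F) hodd hd
    have hP : (QuadraticMap.polarBilin (plusForm F d)).Nondegenerate := by
      rw [show plusForm F d = Forms.quadPlus d F from QuadraticMap.ext fun v => by
        rw [plusForm_apply, Forms.quadPlus_apply]]
      exact Forms.quadPlus_nondegenerate d
    exact ⟨plusForm F d, g, hP, by simpa using disc_plusForm d, hord,
      key _ g true hP hord (by simpa using disc_plusForm d) hfree⟩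

end Cfsg.Agent.Spectrum.OrthTorus
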