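import Cfsg.Agent.Lib.Spectrum.OrthNine
import Cfsg.Agent.Lib.Spectrum.OrthTorus
import Cfsg.Agent.Lib.QForm.UnipFix

/-!
# Elements realising the maximal orders in `Ω₉(q)` and in `V ⋊ Ω₈⁻(q)`, odd `q`
-/

set_option autoImplicit false

open scoped Matrix

namespace Cfsg.Agent.Spectrum.OrthWitness

open Cfsg.Agent.QForm Cfsg.Agent.Spectrum.OrthTorus Cfsg.Agent.Spectrum.OrthOrbits Cfsg.Agent.Spectrum.OrthNine

universe u

variable {F : Type u} [Field F]

/-- The image of an element of `Ω` under a homomorphism of isometry groups. -/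
theorem map_mem_omega {ι κ : Type} [Fintype ι] [DecidableEq ι] [Fintype κ] [DecidableEq κ] {f : (ι → F) → F}
    {f' : (κ → F) → F} (φ : ↥(isometryGroup F f) →* ↥(isometryGroup F f')) {g : ↥(isometryGroup F f)}
    (hg : g ∈ Omega F f) : φ g ∈ Omega F f' := by
  have h : (commutator ↥(isometryGroup F f)).map φ ≤ commutator ↥(isometryGroup F f') := by
    rw [commutator_def, Subgroup.map_commutator]
    exact Subgroup.commutator_mono le_top le_top
  exact h (Subgroup.mem_map_of_mem _ hg)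

/-- Transport along a similarity. -/
theorem exists_transport {ι κ : Type} [Fintype ι] [DecidableEq ι] [Fintype κ] [DecidableEq κ]
    {f : (ι → F) → F} {f' : (κ → F) → F} (e : (ι → F) ≃ₗ[F] (κ → F)) {c : F} (hc : c ≠ 0)
    (he : ∀ v, c * f' (e v) = f v) :
    ∃ φ : ↥(isometryGroup F f) →* ↥(isometryGroup F f'), Function.Injective φ ∧
      ∀ (g : ↥(isometryGroup F f)) (v : ι → F),
        ((φ g : Matrix.GeneralLinearGroup κ F) : Matrix κ κ F) *ᵥ e v =
          e (((g : Matrix.GeneralLinearGroup ι F) : Matrix ι ι F) *ᵥ v) := by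
  let Φ : Matrix ι ι F ≃ₐ[F] Matrix κ κ F :=
    Matrix.toLinAlgEquiv'.trans ((LinearEquiv.conjAlgEquiv F e).trans LinearMap.toMatrixAlgEquiv')
  have hΦ : ∀ M v, Φ M *ᵥ e v = e (M *ᵥ v) := fun M v => by
    rw [← Matrix.toLinAlgEquiv'_apply (Φ M)]
    simp [Φ]
  let U : Matrix.GeneralLinearGroup ι F →* Matrix.GeneralLinearGroup κ F := (Units.mapEquiv Φ.toMulEquiv).toMonoidHom
  have hmem : ∀ g : ↥(isometryGroup F f), U g ∈ isometryGroup F f' := fun g v _ => by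
    obtain ⟨x, rfl⟩ := e.surjective v
    refine mul_left_cancel₀ hc ?_
    show c * f' (Φ _ *ᵥ e x) = _
    rw [hΦ, he, he]
    exact g.2 x x
  refine ⟨(U.comp (isometryGroup F f).subtype).codRestrict _ hmem, fun g g' h => ?_, fun g v => hΦ _ v⟩
  exact Subtype.ext ((Units.mapEquiv Φ.toMulEquiv).injective (congrArg Subtype.val h))

variable [Fintype F]

theorem hF2 (hodd : Odd (Fintype.card F)) : Fintype.card F ≠ 2 := fun h => by
  rw [h] at hodd; exact absurd hodd (by decide)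

/-- Squares lie in `Ω`. -/
theorem sq_mem_omega (hodd : Odd (Fintype.card F)) {ι : Type} [Fintype ι] [DecidableEq ι]
    {Q : QuadraticForm F (ι → F)} (hQ : (QuadraticMap.polarBilin Q).Nondegenerate)
    (g : ↥(isometryGroup F ⇑Q)) : g * g ∈ Omega F ⇑Q := by
  have h := of_mul_self hQ (Or.inl (hF2 hodd)) g
  rw [← map_mul] at h
  exact (QuotientGroup.eq_one_iff _).1 h

/-- Elements of odd order lie in `Ω`. -/
theorem mem_omega_of_odd (hodd : Odd (Fintype.card F)) {ι : Type} [Fintype ι] [DecidableEq ι]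
    {Q : QuadraticForm F (ι → F)} (hQ : (QuadraticMap.polarBilin Q).Nondegenerate)
    (g : ↥(isometryGroup F ⇑Q)) {n : ℕ} (hn : Odd n) (hg : g ^ n = 1) : g ∈ Omega F ⇑Q := by
  obtain ⟨k, rfl⟩ := hn
  have hk : g * (g ^ k * g ^ k) = 1 := by rw [← pow_add, ← pow_succ', ← two_mul]; exact hg
  rw [show g = (g ^ k * g ^ k)⁻¹ from eq_inv_of_mul_eq_one_left hk]
  exact inv_mem (sq_mem_omega hodd hQ _)

variable {p : ℕ} [Fact p.Prime] [CharP F p]

/-- A unipotent isometry with one Jordan block of size `r` and trivial others. -/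
theorem exists_unipotent (hodd : Odd (Fintype.card F)) {ι : Type} [Fintype ι] [DecidableEq ι]
    {Q : QuadraticForm F (ι → F)} (hQ : (QuadraticMap.polarBilin Q).Nondegenerate) {r : ℕ} (hr : Odd r)
    (hrn : r ≤ Fintype.card ι) :
    ∃ u ∈ Omega F ⇑Q, (∀ j, r ≤ p ^ j → u ^ p ^ j = 1) ∧ (∀ j, p ^ j < r → u ^ p ^ j ≠ 1) ∧
      ∀ j, p ^ j ≤ r → ∃ v, ∑ i ∈ Finset.range (p ^ j), act Q (u ^ i) v ≠ 0 := by
  have h2 := Forms.two_ne_zero_of_odd_card hodd
  have hp : p.Prime := Fact.out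
  have hp2 : p ≠ 2 := fun h => h2 (by subst h; exact_mod_cast CharP.cast_eq_zero F 2)
  set n := Fintype.card ι
  obtain ⟨N, hN, -, ht⟩ := UnipFix.realize h2 hQ (r ::ₘ Multiset.replicate (n - r) 1) (fun j hj => by
      rcases Multiset.mem_cons.1 hj with rfl | hj
      · exact hr.pos
      · rw [Multiset.eq_of_mem_replicate hj])
    (fun j hj => by
      have h1 : j ≠ r := fun h => Nat.not_even_iff_odd.2 hr (h ▸ hj)
      have h3 : j ≠ 1 := fun h => Nat.not_even_iff_odd.2 odd_one (h ▸ hj)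
      rw [Multiset.count_cons_of_ne h1, Multiset.count_replicate, if_neg h3.symm]
      exact ⟨0, rfl⟩)
    (by rw [Multiset.sum_cons, Multiset.sum_replicate, smul_eq_mul, mul_one,
      Module.finrank_fintype_fun_eq_card]; omega)
    (Or.inl ⟨r, Multiset.mem_cons_self _ _, hr⟩)
  have hzero : ∀ k, r ≤ k → N ^ k = 0 := fun k hk => UnipFix.pow_eq_zero_of_type ht fun e he => by
    rcases Multiset.mem_cons.1 he with rfl | he
    · exact hk
    · rw [Multiset.eq_of_mem_replicate he]; exact le_trans hr.pos hk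
  have hne : ∀ k, k < r → N ^ k ≠ 0 := by
    intro k hk h0
    have h := ht k
    rw [UnipForms.rankDim_eq_range, h0, LinearMap.range_zero, finrank_bot, Multiset.map_cons,
      Multiset.sum_cons] at h
    omega
  have hnil : IsNilpotent N := ⟨r, hzero r le_rfl⟩
  have hu : IsUnit (Matrix.toLinAlgEquiv'.symm (1 + N)) := hnil.isUnit_one_add.map _
  have hmem : hu.unit ∈ isometryGroup F ⇑Q := fun v _ => by
    show Q ((hu.unit : Matrix ι ι F) *ᵥ v) = Q v
    rw [IsUnit.unit_spec, ← Matrix.toLinAlgEquiv'_apply, AlgEquiv.apply_symm_apply]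
    exact hN v
  set x : ↥(isometryGroup F ⇑Q) := ⟨hu.unit, hmem⟩ with hx
  have hact : ∀ (i : ℕ) v, act Q (x ^ i) v = ((1 + N) ^ i) v := fun i v => by
    rw [act, SubgroupClass.coe_pow, Units.val_pow_eq_pow_val, hx, IsUnit.unit_spec, ← map_pow,
      ← Matrix.toLinAlgEquiv'_apply, AlgEquiv.apply_symm_apply]
  have : Nonempty ι := Fintype.card_pos_iff.1 (by have := hr.pos; omega)
  have : CharP (Module.End F (ι → F)) p :=
    charP_of_injective_algebraMap (algebraMap F _).injective p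
  have hpj : ∀ j, (1 + N) ^ p ^ j = 1 + N ^ p ^ j := fun j => by
    rw [add_pow_char_pow_of_commute _ _ (Commute.one_left N), one_pow]
  have hiff : ∀ j, x ^ p ^ j = 1 ↔ N ^ p ^ j = 0 := by
    intro j
    constructor
    · intro h
      refine LinearMap.ext fun v => ?_
      have h1 := hact (p ^ j) v
      rw [h, act_one, hpj, LinearMap.add_apply, Module.End.one_apply] at h1
      exact add_eq_left.1 h1.symm
    · intro h
      refine isometry_ext Q fun v => ?_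
      rw [hact, act_one, hpj, h, add_zero, Module.End.one_apply]
  refine ⟨x, mem_omega_of_odd hodd hQ x (hp.odd_of_ne_two hp2).pow
      ((hiff r).2 (hzero _ (Nat.lt_pow_self hp.one_lt).le)),
    fun j hj => (hiff j).2 (hzero _ hj), fun j hj h => hne _ hj ((hiff j).1 h), fun j hj => ?_⟩
  by_contra! hall
  refine hne (p ^ j - 1) (by have := Nat.pow_pos (n := j) hp.pos; omega) (LinearMap.ext fun v => ?_)
  have hs : (∑ i ∈ Finset.range (p ^ j), (1 + N) ^ i) v = 0 := by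
    rw [LinearMap.sum_apply, ← Finset.sum_congr rfl fun i _ => hact i v]
    exact hall v
  have key : (∑ i ∈ Finset.range (p ^ j), (Polynomial.X + 1 : Polynomial F) ^ i) = Polynomial.X ^ (p ^ j - 1) := by
    refine mul_right_cancel₀ Polynomial.X_ne_zero ?_
    rw [← pow_succ, Nat.sub_add_cancel (Nat.one_le_pow _ _ hp.pos)]
    have h := geom_sum_mul (Polynomial.X + 1 : Polynomial F) (p ^ j)
    rw [add_sub_cancel_right, add_pow_char_pow, one_pow, add_sub_cancel_right] at h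
    exact h
  have h := congrArg (Polynomial.aeval N) key
  simp only [map_sum, map_pow, map_add, map_one, Polynomial.aeval_X, add_comm N] at h
  rw [← h, hs]
  rfl

/-- A unipotent isometry of order divisible by `p ^ e`. -/
theorem exists_unipotent_order (hodd : Odd (Fintype.card F)) {ι : Type} [Fintype ι] [DecidableEq ι]
    {Q : QuadraticForm F (ι → F)} (hQ : (QuadraticMap.polarBilin Q).Nondegenerate) {r e : ℕ} (hr : Odd r)
    (hrn : r ≤ Fintype.card ι) (he : e = 0 ∨ p ^ (e - 1) < r) :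
    ∃ u ∈ Omega F ⇑Q, p ^ e ∣ orderOf u ∧ Odd (orderOf u) := by
  have h2 := Forms.two_ne_zero_of_odd_card hodd
  have hp : p.Prime := Fact.out
  have hp2 : p ≠ 2 := fun h => h2 (by subst h; exact_mod_cast CharP.cast_eq_zero F 2)
  obtain ⟨u, hu, h1, h2', -⟩ := exists_unipotent (p := p) hodd hQ hr hrn
  obtain ⟨i, -, hi⟩ := (Nat.dvd_prime_pow hp).1
    (orderOf_dvd_of_pow_eq_one (h1 r (Nat.lt_pow_self hp.one_lt).le))
  refine ⟨u, hu, ?_, hi ▸ (hp.odd_of_ne_two hp2).pow⟩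
  rw [hi]
  refine pow_dvd_pow _ ?_
  rcases he with rfl | he
  · exact Nat.zero_le _
  · by_contra hlt
    exact h2' _ he (orderOf_dvd_iff_pow_eq_one.1 (hi ▸ pow_dvd_pow _ (by omega)))

/-- A translated unipotent isometry: all `k` with `u ^ k = 1` and vanishing sum are divisible by `p ^ e`. -/
theorem exists_translation (hodd : Odd (Fintype.card F)) {ι : Type} [Fintype ι] [DecidableEq ι]
    {Q : QuadraticForm F (ι → F)} (hQ : (QuadraticMap.polarBilin Q).Nondegenerate) {e : ℕ} (he : 0 < e)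
    (hrn : p ^ (e - 1) ≤ Fintype.card ι) :
    ∃ u ∈ Omega F ⇑Q, ∃ v, ∀ k, u ^ k = 1 → ∑ i ∈ Finset.range k, act Q (u ^ i) v = 0 → p ^ e ∣ k := by
  have h2 := Forms.two_ne_zero_of_odd_card hodd
  have hp : p.Prime := Fact.out
  have hp2 : p ≠ 2 := fun h => h2 (by subst h; exact_mod_cast CharP.cast_eq_zero F 2)
  obtain ⟨u, hu, h1, h2', h3⟩ := exists_unipotent (p := p) hodd hQ (r := p ^ (e - 1))
    (hp.odd_of_ne_two hp2).pow hrn
  obtain ⟨v, hv⟩ := h3 (e - 1) le_rfl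
  refine ⟨u, hu, v, fun k hk hsum => ?_⟩
  set P := p ^ (e - 1) with hP
  have hord : orderOf u = P := by
    obtain ⟨i, hi, hiu⟩ := (Nat.dvd_prime_pow hp).1 (orderOf_dvd_of_pow_eq_one (h1 (e - 1) le_rfl))
    rcases hi.lt_or_eq with hlt | heq
    · exact absurd (hiu ▸ pow_orderOf_eq_one u) (h2' i (Nat.pow_lt_pow_right hp.one_lt hlt))
    · rw [hiu, heq, hP]
  obtain ⟨t, rfl⟩ : P ∣ k := hord ▸ orderOf_dvd_of_pow_eq_one hk
  have hblock : ∀ t : ℕ, ∑ i ∈ Finset.range (P * t), act Q (u ^ i) v =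
      (t : F) • ∑ i ∈ Finset.range P, act Q (u ^ i) v := by
    intro t
    induction t with
    | zero => simp
    | succ t ih =>
      rw [Nat.mul_succ, Finset.sum_range_add, ih, Nat.cast_succ, add_smul, one_smul]
      congr 1
      refine Finset.sum_congr rfl fun i _ => ?_
      rw [pow_add, pow_mul, ← hord, pow_orderOf_eq_one, one_pow, one_mul]
  rw [hblock, smul_eq_zero] at hsum
  rw [hP, show p ^ e = p ^ (e - 1) * p by rw [← pow_succ, Nat.sub_add_cancel he]]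
  exact Nat.mul_dvd_mul_left _ ((CharP.cast_eq_zero_iff F p t).1 (hsum.resolve_right hv))

omit [Fintype F] in
theorem prod_reflectionMatrix_inr {ι κ : Type} [Fintype ι] [DecidableEq ι] [Fintype κ] [DecidableEq κ]
    (Q₁ : QuadraticForm F (ι → F)) (Q₂ : QuadraticForm F (κ → F)) (vs : List (κ → F)) :
    ((vs.map fun v => Sum.elim (0 : ι → F) v).map fun v => reflectionMatrix ⇑(sumForm Q₁ Q₂) v).prod =
      Matrix.fromBlocks 1 0 0 (vs.map fun v => reflectionMatrix ⇑Q₂ v).prod := by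
  induction vs with
  | nil => simp
  | cons v vs ih =>
    have h : reflectionMatrix ⇑(sumForm Q₁ Q₂) (Sum.elim 0 v) =
        Matrix.fromBlocks 1 0 0 (reflectionMatrix ⇑Q₂ v) := by
      refine Matrix.ext_iff_mulVec.2 fun x => ?_
      have hQ : sumForm Q₁ Q₂ (Sum.elim 0 v) = Q₂ v := by
        show Q₁ (Sum.elim (0 : ι → F) v ∘ Sum.inl) + Q₂ (Sum.elim (0 : ι → F) v ∘ Sum.inr) = _
        rw [Sum.elim_comp_inl, Sum.elim_comp_inr, QuadraticMap.map_zero, zero_add]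
      rw [reflectionMatrix_mulVec, Matrix.fromBlocks_mulVec, reflectionMatrix_mulVec, hQ, polar_sumForm,
        Sum.elim_comp_inl, Sum.elim_comp_inr, QuadraticMap.polar_zero_left, zero_add, Matrix.zero_mulVec,
        Matrix.zero_mulVec, Matrix.one_mulVec, add_zero, zero_add]
      funext k
      rcases k with i | j <;> simp
    rw [List.map_cons, List.map_cons, List.prod_cons, ih, h, Matrix.fromBlocks_multiply, List.map_cons,
      List.prod_cons]
    simp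

/-- Two isometries of determinant one outside `Ω` give one inside. -/
theorem sum_mem_omega [DecidableEq F] (hodd : Odd (Fintype.card F)) {ι κ : Type} [Fintype ι] [DecidableEq ι]
    [Fintype κ] [DecidableEq κ] {Q₁ : QuadraticForm F (ι → F)} {Q₂ : QuadraticForm F (κ → F)}
    (hQ₁ : (QuadraticMap.polarBilin Q₁).Nondegenerate) (hQ₂ : (QuadraticMap.polarBilin Q₂).Nondegenerate)
    (g₁ : ↥(isometryGroup F ⇑Q₁)) (g₂ : ↥(isometryGroup F ⇑Q₂))
    (hd₁ : ((g₁ : Matrix.GeneralLinearGroup ι F) : Matrix ι ι F).det = 1)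
    (hd₂ : ((g₂ : Matrix.GeneralLinearGroup κ F) : Matrix κ κ F).det = 1)
    (hg₁ : g₁ ∉ Omega F ⇑Q₁) (hg₂ : g₂ ∉ Omega F ⇑Q₂) :
    sumMap Q₁ Q₂ (g₁, g₂) ∈ Omega F ⇑(sumForm Q₁ Q₂) := by
  have h2 := Forms.two_ne_zero_of_odd_card hodd
  have hchar : (-1 : F) ≠ 1 := fun h => h2 (by linear_combination -h)
  obtain ⟨vs, hvs, hg⟩ := exists_list hQ₁ (Or.inl (hF2 hodd)) g₁
  obtain ⟨ws, hws, hh⟩ := exists_list hQ₂ (Or.inl (hF2 hodd)) g₂
  have key : ∀ (α : Type) [Fintype α] [DecidableEq α] (Q : QuadraticForm F (α → F))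
      (hQ : (QuadraticMap.polarBilin Q).Nondegenerate) (g : ↥(isometryGroup F ⇑Q)) (us : List (α → F))
      (hus : ∀ v ∈ us, Q v ≠ 0),
      ((g : Matrix.GeneralLinearGroup α F) : Matrix α α F) = (us.map fun v => reflectionMatrix ⇑Q v).prod →
      ((g : Matrix.GeneralLinearGroup α F) : Matrix α α F).det = 1 → g ∉ Omega F ⇑Q →
      Even us.length ∧ ¬ IsSquare (us.map fun v => Q v).prod := by
    intro α _ _ Q hQ g us hus hgu hdet hgn
    have h3 := (invariants_of_prod h2 us hus g hgu).2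
    rw [hdet] at h3
    have he : Even us.length := (neg_one_pow_eq_one_iff_even hchar).1 h3.symm
    exact ⟨he, fun hs => hgn ((mem_omega_iff_of_prod hQ h2 g us hus hgu).2 ⟨he, hs⟩)⟩
  obtain ⟨he₁, hs₁⟩ := key ι Q₁ hQ₁ g₁ vs hvs hg hd₁ hg₁
  obtain ⟨he₂, hs₂⟩ := key κ Q₂ hQ₂ g₂ ws hws hh hd₂ hg₂
  have hl : ∀ v : ι → F, sumForm Q₁ Q₂ (Sum.elim v 0) = Q₁ v := sumForm_inl Q₁ Q₂
  have hr : ∀ v : κ → F, sumForm Q₁ Q₂ (Sum.elim 0 v) = Q₂ v := fun v => by
    show Q₁ (Sum.elim (0 : ι → F) v ∘ Sum.inl) + Q₂ (Sum.elim (0 : ι → F) v ∘ Sum.inr) = _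
    rw [Sum.elim_comp_inl, Sum.elim_comp_inr, QuadraticMap.map_zero, zero_add]
  refine (mem_omega_iff_of_prod (sumForm_nondegenerate Q₁ Q₂ hQ₁ hQ₂) h2 _
    ((vs.map fun v => Sum.elim v (0 : κ → F)) ++ (ws.map fun v => Sum.elim (0 : ι → F) v)) ?_ ?_).2 ⟨?_, ?_⟩
  · intro v hv
    rcases List.mem_append.1 hv with hv | hv <;> obtain ⟨x, hx, rfl⟩ := List.mem_map.1 hv
    · rw [hl]; exact hvs x hx
    · rw [hr]; exact hws x hx
  · rw [List.map_append, List.prod_append, prod_reflectionMatrix_inl, prod_reflectionMatrix_inr,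
      Matrix.fromBlocks_multiply]
    refine (sumHom_val ⇑Q₁ ⇑Q₂ (g₁, g₂)).trans ?_
    rw [hg, hh]
    simp
  · simpa using he₁.add he₂
  · rw [List.map_append, List.prod_append, List.map_map, List.map_map,
      List.map_congr_left (f := (fun v => sumForm Q₁ Q₂ v) ∘ fun v => Sum.elim v 0) (g := fun v => Q₁ v)
        fun v _ => hl v,
      List.map_congr_left (f := (fun v => sumForm Q₁ Q₂ v) ∘ fun v => Sum.elim 0 v) (g := fun v => Q₂ v)
        fun v _ => hr v]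
    have hne : ∀ (α : Type) (Q : (α → F) → F) (us : List (α → F)), (∀ v ∈ us, Q v ≠ 0) → (us.map Q).prod ≠ 0 :=
      fun α Q us hus => List.prod_ne_zero fun h0 => by
        obtain ⟨v, hv, hv0⟩ := List.mem_map.1 h0
        exact hus v hv hv0
    rw [← quadraticChar_one_iff_isSquare (mul_ne_zero (hne ι Q₁ vs hvs) (hne κ Q₂ ws hws)), map_mul,
      quadraticChar_neg_one_iff_not_isSquare.2 hs₁, quadraticChar_neg_one_iff_not_isSquare.2 hs₂]
    rfl

theorem sumMap_injective {ι κ : Type} [Fintype ι] [DecidableEq ι] [Fintype κ] [DecidableEq κ]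
    (Q₁ : QuadraticForm F (ι → F)) (Q₂ : QuadraticForm F (κ → F)) : Function.Injective (sumMap Q₁ Q₂) := by
  rintro ⟨a, b⟩ ⟨a', b'⟩ h
  have h1 : Matrix.fromBlocks ((a : Matrix.GeneralLinearGroup ι F) : Matrix ι ι F) 0 0
      ((b : Matrix.GeneralLinearGroup κ F) : Matrix κ κ F) =
      Matrix.fromBlocks ((a' : Matrix.GeneralLinearGroup ι F) : Matrix ι ι F) 0 0
      ((b' : Matrix.GeneralLinearGroup κ F) : Matrix κ κ F) :=
    (sumHom_val ⇑Q₁ ⇑Q₂ (a, b)).symm.trans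
      ((congrArg (fun x : ↥(isometryGroup F ⇑(sumForm Q₁ Q₂)) =>
        ((x : Matrix.GeneralLinearGroup (ι ⊕ κ) F) : Matrix (ι ⊕ κ) (ι ⊕ κ) F)) h).trans
        (sumHom_val ⇑Q₁ ⇑Q₂ (a', b')))
  obtain ⟨h11, -, -, h22⟩ := Matrix.fromBlocks_inj.1 h1
  exact Prod.ext (Subtype.ext (Units.ext h11)) (Subtype.ext (Units.ext h22))

theorem orderOf_sumMap {ι κ : Type} [Fintype ι] [DecidableEq ι] [Fintype κ] [DecidableEq κ]
    (Q₁ : QuadraticForm F (ι → F)) (Q₂ : QuadraticForm F (κ → F)) (a : ↥(isometryGroup F ⇑Q₁))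
    (b : ↥(isometryGroup F ⇑Q₂)) : orderOf (sumMap Q₁ Q₂ (a, b)) = Nat.lcm (orderOf a) (orderOf b) := by
  rw [orderOf_injective _ (sumMap_injective Q₁ Q₂), Prod.orderOf_mk]

theorem coprime_tor {d : ℕ} (hd : 0 < d) (s : Bool) (e : ℕ) :
    (tor (Fintype.card F) d s).Coprime (p ^ e) := by
  have hp : p.Prime := Fact.out
  refine Nat.Coprime.pow_right e (Nat.Coprime.symm (hp.coprime_iff_not_dvd.2 fun h => ?_))
  have hpq : p ∣ Fintype.card F ^ d := dvd_pow ((CharP.cast_eq_zero_iff F p _).1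
    (FiniteField.cast_card_eq_zero F)) hd.ne'
  cases s
  · exact hp.ne_one (Nat.dvd_one.1 ((Nat.dvd_add_right hpq).1 h))
  · have h1 := Nat.dvd_sub hpq h
    simp only [tor, if_true] at h1
    rw [Nat.sub_sub_self (Nat.one_le_pow _ _ Fintype.card_pos)] at h1
    exact hp.ne_one (Nat.dvd_one.1 h1)

/-- `K` divides the order of an element of `Ω₉`. -/
def OddOrd (F : Type u) [Field F] (K : ℕ) : Prop :=
  ∃ y ∈ Omega F (quadFormOdd 4 F), K ∣ orderOf y

/-- `K` divides the order of an element of `V ⋊ Ω₈⁻`. -/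
def AffOrd (F : Type u) [Field F] (a b : F) (K : ℕ) : Prop :=
  ∃ h ∈ Omega F (quadFormMinus 3 F a b), ∃ v : (Fin 3 ⊕ Fin 3) ⊕ Fin 2 → F, ∀ k, h ^ k = 1 →
    ∑ i ∈ Finset.range k, (((h ^ i : ↥(isometryGroup F (quadFormMinus 3 F a b))) :
      Matrix.GeneralLinearGroup ((Fin 3 ⊕ Fin 3) ⊕ Fin 2) F) :
        Matrix ((Fin 3 ⊕ Fin 3) ⊕ Fin 2) ((Fin 3 ⊕ Fin 3) ⊕ Fin 2) F) *ᵥ v = 0 → K ∣ k

theorem oddOrd_of (hodd : Odd (Fintype.card F)) {ι : Type} [Fintype ι] [DecidableEq ι]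
    {Q : QuadraticForm F (ι → F)} (hQ : (QuadraticMap.polarBilin Q).Nondegenerate) (hι : Fintype.card ι = 9)
    {g : ↥(isometryGroup F ⇑Q)} (hg : g ∈ Omega F ⇑Q) {K : ℕ} (hK : K ∣ orderOf g) : OddOrd F K := by
  obtain ⟨c, hc, e, he⟩ := exists_iso_odd (Forms.two_ne_zero_of_odd_card hodd) 4 Q hQ
    (by rw [Module.finrank_fintype_fun_eq_card, hι])
  obtain ⟨φ, hφ, -⟩ := exists_transport (f' := quadFormOdd 4 F) e hc he
  exact ⟨φ g, map_mem_omega φ hg, by rwa [orderOf_injective φ hφ]⟩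

theorem affOrd_of [DecidableEq F] (hodd : Odd (Fintype.card F)) {a b : F}
    (hab : ∀ z₁ z₂ : F, z₁ ^ 2 + a * z₁ * z₂ + b * z₂ ^ 2 = 0 → z₁ = 0 ∧ z₂ = 0)
    {ι : Type} [Fintype ι] [DecidableEq ι]
    {Q : QuadraticForm F (ι → F)} (hQ : (QuadraticMap.polarBilin Q).Nondegenerate) (hι : Fintype.card ι = 8)
    (hdisc : disc Q = -1) {g : ↥(isometryGroup F ⇑Q)} (hg : g ∈ Omega F ⇑Q) (w : ι → F) {K : ℕ}
    (hK : ∀ k, g ^ k = 1 → ∑ i ∈ Finset.range k, act Q (g ^ i) w = 0 → K ∣ k) : AffOrd F a b K := by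
  have h2 := Forms.two_ne_zero_of_odd_card hodd
  obtain ⟨e, he⟩ := exists_iso_of_disc h2 hQ (UnipFix.minusForm_sep h2 3 hab)
    (by rw [hι]; rfl) (hdisc.trans (disc_minusForm h2 3 hab).symm)
  obtain ⟨φ, hφ, hφe⟩ := exists_transport (f := ⇑Q) (f' := quadFormMinus 3 F a b) e one_ne_zero
    fun v => by rw [one_mul, ← minusForm_apply, he]
  refine ⟨φ g, map_mem_omega φ hg, e w, fun k hk hsum => hK k (hφ (by rw [map_pow, map_one, hk])) ?_⟩
  refine e.injective ?_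
  rw [map_zero, map_sum, ← hsum]
  exact Finset.sum_congr rfl fun i _ => by rw [← map_pow]; exact (hφe _ w).symm

/-- Combination of a part of order divisible by `K₁` and a translated part. -/
theorem affOrd_sum [DecidableEq F] (hodd : Odd (Fintype.card F)) {a b : F}
    (hab : ∀ z₁ z₂ : F, z₁ ^ 2 + a * z₁ * z₂ + b * z₂ ^ 2 = 0 → z₁ = 0 ∧ z₂ = 0)
    {ι κ : Type} [Fintype ι] [DecidableEq ι] [Fintype κ] [DecidableEq κ]
    {Q₁ : QuadraticForm F (ι → F)} {Q₂ : QuadraticForm F (κ → F)}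
    (hQ₁ : (QuadraticMap.polarBilin Q₁).Nondegenerate) (hQ₂ : (QuadraticMap.polarBilin Q₂).Nondegenerate)
    (hι : Fintype.card ι + Fintype.card κ = 8) (hev : Even (Fintype.card ι))
    (hdisc : disc Q₁ * disc Q₂ = -1) {g : ↥(isometryGroup F ⇑Q₁)} (hg : g ∈ Omega F ⇑Q₁) {K : ℕ}
    (hK : K ∣ orderOf g) {e : ℕ} (he : 0 < e) (hsize : p ^ (e - 1) ≤ Fintype.card κ)
    (hco : K.Coprime (p ^ e)) : AffOrd F a b (K * p ^ e) := by
  obtain ⟨u, hu, v, hv⟩ := exists_translation (p := p) hodd hQ₂ he hsize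
  refine affOrd_of hodd hab (sumForm_nondegenerate Q₁ Q₂ hQ₁ hQ₂) (by rw [Fintype.card_sum]; exact hι)
    ((disc_sumForm Q₁ Q₂ hev).trans hdisc) (sumMap_mem_omega hg hu) (Sum.elim 0 v) fun k hk hsum => ?_
  have hk' : (g, u) ^ k = 1 := sumMap_injective Q₁ Q₂ (by rw [map_pow, map_one]; exact hk)
  obtain ⟨hgk, huk⟩ := Prod.ext_iff.1 hk'
  refine hco.mul_dvd_of_dvd_of_dvd (hK.trans (orderOf_dvd_of_pow_eq_one hgk)) (hv k huk ?_)
  funext j
  have h := congrFun hsum (Sum.inr j)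
  rw [Finset.sum_apply] at h
  rw [Finset.sum_apply, Pi.zero_apply]
  refine (Finset.sum_congr rfl fun i _ => ?_).trans h
  rw [← map_pow, Prod.pow_mk, act_sumMap, Sum.elim_inr, Sum.elim_comp_inr]

theorem oddOrd_single [DecidableEq F] (hodd : Odd (Fintype.card F)) {d m : ℕ} (hd : 0 < d) (hdm : d + m = 4)
    (s : Bool) {r e : ℕ} (hr : Odd r) (hrm : r ≤ 2 * m + 1) (he : e = 0 ∨ p ^ (e - 1) < r) :
    OddOrd F (tor (Fintype.card F) d s / 2 * p ^ e) := by
  have h2 := Forms.two_ne_zero_of_odd_card hodd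
  obtain ⟨Q, g, hQ, -, hord, -, -⟩ := exists_torus hodd hd s
  obtain ⟨u, hu, hup, huodd⟩ := exists_unipotent_order (p := p) hodd (Forms.quadOdd_nondegenerate (F := F) h2 m)
    hr (by simp; omega) he
  refine oddOrd_of hodd (sumForm_nondegenerate Q _ hQ (Forms.quadOdd_nondegenerate h2 m))
    (by simp; omega) (sumMap_mem_omega (sq_mem_omega hodd hQ g) hu) ?_
  rw [orderOf_sumMap]
  refine ((Nat.Coprime.coprime_dvd_left (Nat.div_dvd_of_dvd (two_dvd_tor hodd d s))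
    (coprime_tor hd s e))).mul_dvd_of_dvd_of_dvd ?_ (hup.trans (Nat.dvd_lcm_right _ _))
  refine dvd_trans ?_ (Nat.dvd_lcm_left _ _)
  rw [← sq, orderOf_pow' g two_ne_zero, hord, Nat.gcd_eq_right (two_dvd_tor hodd d s)]

theorem oddOrd_pair [DecidableEq F] (hodd : Odd (Fintype.card F)) {d₁ d₂ m : ℕ} (hd₁ : 0 < d₁) (hd₂ : 0 < d₂)
    (hdm : d₁ + d₂ + m = 4) (s₁ s₂ : Bool) {r e : ℕ} (hr : Odd r) (hrm : r ≤ 2 * m + 1)
    (he : e = 0 ∨ p ^ (e - 1) < r) :
    OddOrd F (Nat.lcm (tor (Fintype.card F) d₁ s₁) (tor (Fintype.card F) d₂ s₂) * p ^ e) := by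
  have h2 := Forms.two_ne_zero_of_odd_card hodd
  obtain ⟨Q₁, g₁, hQ₁, -, hord₁, hdet₁, hn₁⟩ := exists_torus hodd hd₁ s₁
  obtain ⟨Q₂, g₂, hQ₂, -, hord₂, hdet₂, hn₂⟩ := exists_torus hodd hd₂ s₂
  obtain ⟨u, hu, hup, -⟩ := exists_unipotent_order (p := p) hodd (Forms.quadOdd_nondegenerate (F := F) h2 m)
    hr (by simp; omega) he
  refine oddOrd_of hodd
    (sumForm_nondegenerate (sumForm Q₁ Q₂) _ (sumForm_nondegenerate Q₁ Q₂ hQ₁ hQ₂)
      (Forms.quadOdd_nondegenerate h2 m))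
    (by simp; omega) (sumMap_mem_omega (sum_mem_omega hodd hQ₁ hQ₂ g₁ g₂ hdet₁ hdet₂ hn₁ hn₂) hu) ?_
  rw [orderOf_sumMap, orderOf_sumMap, hord₁, hord₂]
  exact (Nat.Coprime.coprime_dvd_left (Nat.lcm_dvd_mul _ _)
    ((coprime_tor hd₁ s₁ e).mul_left (coprime_tor hd₂ s₂ e))).mul_dvd_of_dvd_of_dvd
    (Nat.dvd_lcm_left _ _) (hup.trans (Nat.dvd_lcm_right _ _))

theorem affOrd_single [DecidableEq F] (hodd : Odd (Fintype.card F)) {a b : F}
    (hab : ∀ z₁ z₂ : F, z₁ ^ 2 + a * z₁ * z₂ + b * z₂ ^ 2 = 0 → z₁ = 0 ∧ z₂ = 0) {d m : ℕ} (hd : 0 < d)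
    (hm : 0 < m) (hdm : d + m = 4) (s : Bool) {e : ℕ} (he : 0 < e) (hsize : p ^ (e - 1) ≤ 2 * m) :
    AffOrd F a b (tor (Fintype.card F) d s / 2 * p ^ e) := by
  obtain ⟨Q₁, g, hQ₁, hdisc₁, hord, -, -⟩ := exists_torus hodd hd s
  obtain ⟨Q₂, -, hQ₂, hdisc₂, -, -, -⟩ := exists_torus (F := F) hodd hm (!s)
  refine affOrd_sum hodd hab hQ₁ hQ₂ (by simp; omega) (by simp) ?_ (sq_mem_omega hodd hQ₁ g) ?_ he
    (by simp; omega) (Nat.Coprime.coprime_dvd_left (Nat.div_dvd_of_dvd (two_dvd_tor hodd d s))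
      (coprime_tor hd s e))
  · rw [hdisc₁, hdisc₂]; cases s <;> rfl
  · rw [← sq, orderOf_pow' g two_ne_zero, hord, Nat.gcd_eq_right (two_dvd_tor hodd d s)]

theorem affOrd_pair [DecidableEq F] (hodd : Odd (Fintype.card F)) {a b : F}
    (hab : ∀ z₁ z₂ : F, z₁ ^ 2 + a * z₁ * z₂ + b * z₂ ^ 2 = 0 → z₁ = 0 ∧ z₂ = 0) {d₁ d₂ m : ℕ} (hd₁ : 0 < d₁)
    (hd₂ : 0 < d₂) (hm : 0 < m) (hdm : d₁ + d₂ + m = 4) (s₁ s₂ : Bool) :
    AffOrd F a b (Nat.lcm (tor (Fintype.card F) d₁ s₁) (tor (Fintype.card F) d₂ s₂) * p ^ 1) := by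
  obtain ⟨Q₁, g₁, hQ₁, hdisc₁, hord₁, hdet₁, hn₁⟩ := exists_torus hodd hd₁ s₁
  obtain ⟨Q₂, g₂, hQ₂, hdisc₂, hord₂, hdet₂, hn₂⟩ := exists_torus hodd hd₂ s₂
  obtain ⟨Q₃, -, hQ₃, hdisc₃, -, -, -⟩ := exists_torus (F := F) hodd hm (!(s₁ == s₂))
  refine affOrd_sum hodd hab (sumForm_nondegenerate Q₁ Q₂ hQ₁ hQ₂) hQ₃ (by simp; omega)
    (by simp [Nat.even_add]) ?_ (sum_mem_omega hodd hQ₁ hQ₂ g₁ g₂ hdet₁ hdet₂ hn₁ hn₂) ?_ one_pos
    (by simp; omega) (Nat.Coprime.coprime_dvd_left (Nat.lcm_dvd_mul _ _)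
      ((coprime_tor hd₁ s₁ 1).mul_left (coprime_tor hd₂ s₂ 1)))
  · rw [disc_sumForm Q₁ Q₂ (by simp), hdisc₁, hdisc₂, hdisc₃]; cases s₁ <;> cases s₂ <;> rfl
  · rw [orderOf_sumMap, hord₁, hord₂]

theorem affOrd_pair_zero [DecidableEq F] (hodd : Odd (Fintype.card F)) {a b : F}
    (hab : ∀ z₁ z₂ : F, z₁ ^ 2 + a * z₁ * z₂ + b * z₂ ^ 2 = 0 → z₁ = 0 ∧ z₂ = 0) {d₁ d₂ : ℕ} (hd₁ : 0 < d₁)
    (hd₂ : 0 < d₂) (hdm : d₁ + d₂ = 4) (s : Bool) :
    AffOrd F a b (Nat.lcm (tor (Fintype.card F) d₁ s) (tor (Fintype.card F) d₂ (!s))) := by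
  obtain ⟨Q₁, g₁, hQ₁, hdisc₁, hord₁, hdet₁, hn₁⟩ := exists_torus hodd hd₁ s
  obtain ⟨Q₂, g₂, hQ₂, hdisc₂, hord₂, hdet₂, hn₂⟩ := exists_torus hodd hd₂ (!s)
  refine affOrd_of hodd hab (sumForm_nondegenerate Q₁ Q₂ hQ₁ hQ₂) (by simp; omega) ?_
    (sum_mem_omega hodd hQ₁ hQ₂ g₁ g₂ hdet₁ hdet₂ hn₁ hn₂) 0 fun k hk _ => ?_
  · rw [disc_sumForm Q₁ Q₂ (by simp), hdisc₁, hdisc₂]; cases s <;> rfl
  · rw [← hord₁, ← hord₂, ← orderOf_sumMap]; exact orderOf_dvd_of_pow_eq_one hk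

theorem tor_four_dvd {q : ℕ} (hq : Odd q) : tor q 4 true / 2 ∣ Nat.lcm (tor q 2 false) (tor q 2 true) := by
  have hg : Nat.gcd (tor q 2 false) (tor q 2 true) ∣ 2 := by
    have h := Nat.dvd_sub (Nat.gcd_dvd_left (tor q 2 false) (tor q 2 true)) (Nat.gcd_dvd_right _ _)
    refine h.trans (dvd_of_eq ?_)
    simp only [tor, Bool.false_eq_true, if_false, if_true]
    have := Nat.one_le_pow 2 q hq.pos
    omega
  have h2 : tor q 4 true ∣ 2 * Nat.lcm (tor q 2 false) (tor q 2 true) := by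
    rw [show 4 = 2 * 2 from rfl, tor_sq, ← Nat.gcd_mul_lcm (tor q 2 false) (tor q 2 true)]
    exact mul_dvd_mul_right hg _
  obtain ⟨c, hc⟩ := two_dvd_tor hq 4 true
  rw [hc] at h2 ⊢
  rw [Nat.mul_div_cancel_left _ two_pos]
  exact (Nat.mul_dvd_mul_iff_left two_pos).1 h2

/-- Every maximal order is realised in `Ω₉`. -/
theorem oddOrd_of_isMax (hodd : Odd (Fintype.card F)) {k : ℕ} (hk : IsMax (Fintype.card F) p k) :
    ∃ j, k ∣ j ∧ OddOrd F j := by
  classical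
  have hp : p.Prime := Fact.out
  have h2 := Forms.two_ne_zero_of_odd_card hodd
  cases hk with
  | four s => exact ⟨_, Dvd.intro _ rfl, oddOrd_single (p := p) (m := 0) (r := 1) (e := 0) hodd (by omega) rfl s
      odd_one le_rfl (Or.inl rfl)⟩
  | threeOne s => exact ⟨_, Dvd.intro _ rfl, oddOrd_pair (p := p) (m := 0) (r := 1) (e := 0) hodd (by omega)
      one_pos rfl s (!s) odd_one le_rfl (Or.inl rfl)⟩
  | threeP s => exact ⟨_, (dvd_of_eq (by rw [pow_one, mul_comm])), oddOrd_single (p := p) (d := 3) (m := 1) (r := 3)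
      (e := 1) hodd (by omega) rfl s (by decide) le_rfl (Or.inr (by simp))⟩
  | twoOneP s => exact ⟨_, (dvd_of_eq (by rw [pow_one, mul_comm])), oddOrd_pair (p := p) (d₁ := 2) (d₂ := 1)
      (m := 1) (r := 3) (e := 1) hodd (by omega) one_pos rfl false s (by decide) le_rfl (Or.inr (by simp))⟩
  | twoP => exact ⟨_, (mul_dvd_mul dvd_rfl (Nat.dvd_lcm_left _ (tor (Fintype.card F) 1 false))).trans
      (dvd_of_eq (by rw [pow_one, mul_comm])), oddOrd_pair (p := p) (d₁ := 2) (d₂ := 1)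
      (m := 1) (r := 3) (e := 1) hodd (by omega) one_pos rfl true false (by decide) le_rfl (Or.inr (by simp))⟩
  | nine s h => subst h; exact ⟨_, (dvd_of_eq (mul_comm _ _)), oddOrd_single (p := 3) (d := 2) (m := 2) (r := 5)
      (e := 2) hodd (by omega) rfl s (by decide) le_rfl (Or.inr (by norm_num))⟩
  | twentyFive s h => subst h; exact ⟨_, (dvd_of_eq (mul_comm _ _)), oddOrd_single (p := 5) (d := 1) (m := 3)
      (r := 7) (e := 2) hodd (by omega) rfl s (by decide) le_rfl (Or.inr (by norm_num))⟩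
  | fortyNine h =>
    subst h
    obtain ⟨u, hu, hup, -⟩ := exists_unipotent_order (p := 7) hodd (Forms.quadOdd_nondegenerate (F := F) h2 4)
      (r := 9) (e := 2) (by decide) (by simp) (Or.inr (by norm_num))
    exact ⟨49, dvd_rfl, oddOrd_of hodd (Forms.quadOdd_nondegenerate h2 4) (by simp) hu hup⟩

/-- Every maximal order is realised in `V ⋊ Ω₈⁻`. -/
theorem affOrd_of_isMax (hodd : Odd (Fintype.card F)) {a b : F}
    (hab : ∀ z₁ z₂ : F, z₁ ^ 2 + a * z₁ * z₂ + b * z₂ ^ 2 = 0 → z₁ = 0 ∧ z₂ = 0) {k : ℕ}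
    (hk : IsMax (Fintype.card F) p k) : ∃ j, k ∣ j ∧ AffOrd F a b j := by
  classical
  have hp : p.Prime := Fact.out
  cases hk with
  | four s =>
    cases s
    · obtain ⟨Q, g, hQ, hdisc, hord, -, -⟩ := exists_torus (F := F) hodd (d := 4) (by omega) false
      refine ⟨_, dvd_rfl, affOrd_of hodd hab hQ (by simp) (by simpa using hdisc) (sq_mem_omega hodd hQ g) 0
        fun k hk _ => ?_⟩
      have h := orderOf_dvd_of_pow_eq_one hk
      rwa [← sq, orderOf_pow' g two_ne_zero, hord, Nat.gcd_eq_right (two_dvd_tor hodd 4 _)] at h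
    · exact ⟨_, tor_four_dvd hodd, affOrd_pair_zero hodd hab two_pos two_pos rfl false⟩
  | threeOne s => exact ⟨_, dvd_rfl, affOrd_pair_zero hodd hab (by omega) one_pos rfl s⟩
  | threeP s => exact ⟨_, (dvd_of_eq (by rw [pow_one, mul_comm])), affOrd_single (p := p) (d := 3) (m := 1) (e := 1)
      hodd hab (by omega) one_pos rfl s one_pos (by simp)⟩
  | twoOneP s => exact ⟨_, (dvd_of_eq (by rw [pow_one, mul_comm])), affOrd_pair (p := p) (d₁ := 2) (d₂ := 1)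
      (m := 1) hodd hab two_pos one_pos one_pos rfl false s⟩
  | twoP => exact ⟨_, (mul_dvd_mul dvd_rfl (Nat.dvd_lcm_left _ (tor (Fintype.card F) 1 false))).trans
      (dvd_of_eq (by rw [pow_one, mul_comm])), affOrd_pair (p := p) (d₁ := 2) (d₂ := 1)
      (m := 1) hodd hab two_pos one_pos one_pos rfl true false⟩
  | nine s h => subst h; exact ⟨_, (dvd_of_eq (mul_comm _ _)), affOrd_single (p := 3) (d := 2) (m := 2) (e := 2)
      hodd hab two_pos two_pos rfl s two_pos (by norm_num)⟩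
  | twentyFive s h => subst h; exact ⟨_, (dvd_of_eq (mul_comm _ _)), affOrd_single (p := 5) (d := 1) (m := 3)
      (e := 2) hodd hab one_pos (by omega) rfl s two_pos (by norm_num)⟩
  | fortyNine h =>
    subst h
    obtain ⟨Q, -, hQ, hdisc, -, -, -⟩ := exists_torus (F := F) hodd (d := 4) (by omega) false
    obtain ⟨u, hu, v, hv⟩ := exists_translation (p := 7) hodd hQ (e := 2) two_pos (by norm_num)
    exact ⟨_, dvd_rfl, affOrd_of hodd hab hQ (by simp) (by simpa using hdisc) hu v hv⟩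

end Cfsg.Agent.Spectrum.OrthWitness
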