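import Cfsg.Agent.Lib.Spectrum.Basic
import Cfsg.Agent.Lib.Spectrum.ConeWitness

/-!
# Arbitrarily large groups with the element orders of `PGL₂(p)`, `p ≥ 5`, and of `PGL₂(9)`
-/

set_option autoImplicit false

open scoped MatrixGroups

namespace Cfsg.Agent.Spectrum

/-- `exists_large` with the spectrum given as divisors of a finite set of numbers. -/
theorem exists_large_divisors {B Q : Type} [Group B] [Finite B] [Group Q] (π : B →* Q)
    (hker : ∃ b : B, b ≠ 1 ∧ π b = 1) (K : Finset ℕ) (hK : ∀ k ∈ K, 0 < k)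
    (hS : ∀ q : Q, ∃ k ∈ K, ∀ b : B, π b = q → b ^ k = 1)
    (hreal : ∀ k ∈ K, ∃ b : B, orderOf b = k) (N : ℕ) :
    ∃ (H : Type) (_ : Group H) (_ : Fintype H),
      N < Fintype.card H ∧ Set.range (orderOf : H → ℕ) = {n | ∃ k ∈ K, n ∣ k} := by
  classical
  set S := (K.biUnion Nat.divisors).toList
  have hmem : ∀ n, n ∈ S ↔ ∃ k ∈ K, n ∣ k := fun n => by
    simp only [S, Finset.mem_toList, Finset.mem_biUnion, Nat.mem_divisors]
    exact ⟨fun ⟨k, hk, h, _⟩ => ⟨k, hk, h⟩, fun ⟨k, hk, h⟩ => ⟨k, hk, h, (hK k hk).ne'⟩⟩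
  have hdiv : (S.all fun m => m != 0 && (List.range (m + 1)).all
      fun d => m % d != 0 || S.contains d) = true := by
    simp only [List.all_eq_true, Bool.and_eq_true, bne_iff_ne, ne_eq, List.mem_range,
      Bool.or_eq_true, List.contains_eq_mem, decide_eq_true_eq]
    intro m hm
    obtain ⟨k, hk, hmk⟩ := (hmem m).1 hm
    refine ⟨fun h0 => (hK k hk).ne' (Nat.eq_zero_of_zero_dvd (h0 ▸ hmk)), fun d _ => ?_⟩
    by_cases h : m % d = 0
    · exact Or.inr ((hmem d).2 ⟨k, hk, (Nat.dvd_of_mod_eq_zero h).trans hmk⟩)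
    · exact Or.inl h
  obtain ⟨H, i1, i2, hcard, hr⟩ := exists_large π hker S hdiv (fun q => by
      obtain ⟨k, hk, h⟩ := hS q
      exact ⟨k, (hmem k).2 ⟨k, hk, dvd_rfl⟩, h⟩)
    (fun n hn => by
      obtain ⟨k, hk, hnk⟩ := (hmem n).1 hn
      obtain ⟨b, hb⟩ := hreal k hk
      refine ⟨b ^ (k / n), ?_⟩
      have hn0 : 0 < n := Nat.pos_of_dvd_of_pos hnk (hK k hk)
      rw [orderOf_pow' b (Nat.div_pos (Nat.le_of_dvd (hK k hk) hnk) hn0).ne', hb,
        Nat.gcd_eq_right (Nat.div_dvd_of_dvd hnk), Nat.div_div_self hnk (hK k hk).ne']) N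
  exact ⟨H, i1, i2, hcard, hr.trans (Set.ext hmem)⟩

/-- The witness for `PGL₂(p)`. -/
theorem exists_large_pgl_two_prime {p : ℕ} [Fact p.Prime] (hp : 5 ≤ p) (N : ℕ) :
    ∃ (H : Type) (_ : Group H) (_ : Fintype H), N < Fintype.card H ∧
      Set.range (orderOf : H → ℕ) = {n | ∃ k ∈ ({p, p - 1, p + 1} : Finset ℕ), n ∣ k} := by
  obtain ⟨ν, hker, hall, hreal⟩ := Cone.exists_ext (p := p) hp
  have := Fpf.finite_ext (G := PSL(2, ZMod p)) (X := Cone.X ν) (p := p)
  refine exists_large_divisors Fpf.proj hker _ ?_ (fun u => ?_) hreal N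
  · intro k hk
    simp only [Finset.mem_insert, Finset.mem_singleton] at hk
    omega
  · obtain ⟨k, hk, h⟩ := hall u
    rcases Finset.mem_insert.1 hk with rfl | hk
    · refine ⟨p - 1, by simp, fun b hb => ?_⟩
      obtain ⟨c, hc⟩ : 2 ∣ p - 1 := by
        have := (Fact.out : p.Prime).eq_two_or_odd
        omega
      rw [hc, pow_mul, h b hb, one_pow]
    · exact ⟨k, hk, h⟩

namespace PGLNine

/-- The group `5 : 8`, with a generator of `8` inducing `x ↦ x³` on `5`. -/
@[ext]
structure C where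
  /-- coordinate in `5` -/
  a : ZMod 5
  /-- coordinate in `8` -/
  i : ZMod 8
deriving DecidableEq, Fintype

/-- The twisting. -/
def w (i : ZMod 8) : ZMod 5 := 3 ^ i.val

theorem w_add : ∀ i j, w (i + j) = w i * w j := by decide

theorem w_zero : w 0 = 1 := rfl

/-- The multiplication of `5 : 8`. -/
instance instMulC : Mul C := ⟨fun u v => ⟨u.a + w u.i * v.a, u.i + v.i⟩⟩

/-- The unit of `5 : 8`. -/
instance instOneC : One C := ⟨⟨0, 0⟩⟩

/-- The inverse of `5 : 8`. -/
instance instInvC : Inv C := ⟨fun u => ⟨-(w (-u.i) * u.a), -u.i⟩⟩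

theorem mul_def (u v : C) : u * v = ⟨u.a + w u.i * v.a, u.i + v.i⟩ := rfl

theorem one_def : (1 : C) = ⟨0, 0⟩ := rfl

theorem inv_def (u : C) : u⁻¹ = ⟨-(w (-u.i) * u.a), -u.i⟩ := rfl

/-- The group structure of `5 : 8`. -/
instance instGroupC : Group C :=
  Group.ofLeftAxioms
    (fun x y z => by ext <;> simp only [mul_def, w_add] <;> ring)
    (fun x => by ext <;> simp [mul_def, one_def, w_zero])
    (fun x => by ext <;> simp [mul_def, one_def, inv_def])

theorem exponent_cases : ∀ c : C, c ^ 8 = 1 ∨ c ^ 10 = 1 := by decide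

theorem power_cases : ∀ c : C, c ≠ 1 → ∃ k < 9, ((c ^ k).i = 0 ∧ (c ^ k).a ≠ 0) ∨ c ^ k = ⟨0, 4⟩ := by
  decide

theorem orderOf_c : orderOf (⟨0, 1⟩ : C) = 8 :=
  orderOf_eq_of_forall (by norm_num) (by decide) (by decide)

theorem orderOf_ac : orderOf (⟨1, 4⟩ : C) = 10 :=
  orderOf_eq_of_forall (by norm_num) (by decide) (by decide)

variable {K : Type} [Field K] [CharP K 3]

/-- The semilinear generator. -/
def f (l : K) (x : K) : K := l * x ^ 3

theorem iterate_f_mul (l e x : K) (n : ℕ) : (f l)^[n] (e * x) = e ^ 3 ^ n * (f l)^[n] x := by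
  induction n generalizing e x with
  | zero => simp
  | succ n ih =>
    rw [Function.iterate_succ_apply, Function.iterate_succ_apply, f,
      show l * (e * x) ^ 3 = e ^ 3 * (l * x ^ 3) by ring, ih, ← pow_mul, ← pow_succ']
    rfl

theorem iterate_f_four {l : K} (hl : l ^ 40 = -1) (hK : ∀ x : K, x ^ 81 = x) (x : K) :
    (f l)^[4] x = -x := by
  simp only [Function.iterate_succ_apply, Function.iterate_zero_apply, f]
  calc _ = l ^ 40 * x ^ 81 := by ring
    _ = -x := by rw [hl, hK, neg_one_mul]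

theorem iterate_f_add (l : K) (x y : K) (n : ℕ) :
    (f l)^[n] (x + y) = (f l)^[n] x + (f l)^[n] y := by
  induction n generalizing x y with
  | zero => simp
  | succ n ih =>
    simp only [Function.iterate_succ_apply, f]
    rw [add_pow_char, mul_add, ih]

/-- The action of `5 : 8` on a field with 81 elements. -/
@[implicit_reducible]
def act {e l : K} (he : e ^ 5 = 1) (hl : l ^ 40 = -1) (hK : ∀ x : K, x ^ 81 = x) :
    DistribMulAction C K where
  smul c x := e ^ c.a.val * (f l)^[c.i.val] x
  one_smul x := by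
    change e ^ (0 : ZMod 5).val * (f l)^[(0 : ZMod 8).val] x = x
    simp
  mul_smul u v x := by
    change e ^ (u.a + w u.i * v.a).val * (f l)^[(u.i + v.i).val] x =
      e ^ u.a.val * (f l)^[u.i.val] (e ^ v.a.val * (f l)^[v.i.val] x)
    rw [iterate_f_mul, ← pow_mul, ← mul_assoc, ← pow_add, ← Function.iterate_add_apply]
    have hper : Function.IsPeriodicPt (f l) 8 x := by
      change (f l)^[4 + 4] x = x
      rw [Function.iterate_add_apply, iterate_f_four hl hK, iterate_f_four hl hK, neg_neg]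
    congr 1
    · rw [pow_eq_pow_mod _ he, pow_eq_pow_mod (u.a.val + _) he]
      congr 1
      rw [← ZMod.val_natCast, ← ZMod.val_natCast]
      simp [w, mul_comm]
    · rw [ZMod.val_add, hper.iterate_mod_apply]
  smul_zero c := by
    change e ^ c.a.val * (f l)^[c.i.val] 0 = 0
    rw [Function.iterate_fixed (by simp [f]), mul_zero]
  smul_add c x y := by
    change e ^ c.a.val * (f l)^[c.i.val] (x + y) =
      e ^ c.a.val * (f l)^[c.i.val] x + e ^ c.a.val * (f l)^[c.i.val] y
    rw [iterate_f_add, mul_add]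

/-- The witness for `PGL₂(9)`. -/
theorem exists_large_pgl_two_nine (N : ℕ) :
    ∃ (H : Type) (_ : Group H) (_ : Fintype H), N < Fintype.card H ∧
      Set.range (orderOf : H → ℕ) = {n | ∃ k ∈ ({3, 8, 10} : Finset ℕ), n ∣ k} := by
  classical
  have : Fact (Nat.Prime 3) := ⟨Nat.prime_three⟩
  let K := GaloisField 3 4
  have : Fintype K := Fintype.ofFinite K
  have hcard : Nat.card K = 81 := by
    rw [GaloisField.card 3 4 (by norm_num)]
    norm_num
  have hK : ∀ x : K, x ^ 81 = x := fun x => by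
    rw [← hcard, ← Fintype.card_eq_nat_card]
    exact FiniteField.pow_card x
  obtain ⟨g, hg⟩ := IsCyclic.exists_ofOrder_eq_natCard (α := Kˣ)
  rw [Nat.card_units, hcard] at hg
  have hgK : orderOf (g : K) = 80 := by rw [orderOf_units, hg]
  have hl : (g : K) ^ 40 = -1 := by
    have h : ((g : K) ^ 40 - 1) * ((g : K) ^ 40 + 1) = 0 := by
      have h80 := pow_orderOf_eq_one (g : K)
      rw [hgK] at h80
      linear_combination h80
    have h1 : (g : K) ^ 40 ≠ 1 := pow_ne_one_of_lt_orderOf (by norm_num) (by rw [hgK]; norm_num)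
    exact eq_neg_of_add_eq_zero_left ((mul_eq_zero.1 h).resolve_left (sub_ne_zero.2 h1))
  have he : ((g : K) ^ 16) ^ 5 = 1 := by
    rw [← pow_mul, show 16 * 5 = orderOf (g : K) by rw [hgK], pow_orderOf_eq_one]
  let _ : DistribMulAction C K := act he hl hK
  have hfpf : ∀ c : C, c ≠ 1 → ∀ v : K, c • v = v → v = 0 := by
    intro c hc v hv
    obtain ⟨k, -, hk⟩ := power_cases c hc
    have hfix : ∀ n : ℕ, (c ^ n) • v = v := by
      intro n
      induction n with
      | zero => rw [pow_zero, one_smul]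
      | succ n ih => rw [pow_succ, mul_smul, hv, ih]
    have h := hfix k
    rcases hk with ⟨hi, ha⟩ | hk
    · change ((g : K) ^ 16) ^ (c ^ k).a.val * (f (g : K))^[(c ^ k).i.val] v = v at h
      rw [hi, ZMod.val_zero, Function.iterate_zero_apply, ← pow_mul] at h
      by_contra hv0
      refine pow_ne_one_of_lt_orderOf ?_ ?_ (mul_right_cancel₀ hv0 (h.trans (one_mul v).symm))
      · simpa using ha
      · have := ZMod.val_lt (c ^ k).a
        rw [hgK]
        omega
    · rw [hk] at h
      change ((g : K) ^ 16) ^ (0 : ZMod 5).val * (f (g : K))^[(4 : ZMod 8).val] v = v at h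
      rw [ZMod.val_zero, pow_zero, one_mul, show (4 : ZMod 8).val = 4 from rfl,
        iterate_f_four hl hK] at h
      have h2 : (2 : K) * v = 0 := by linear_combination -h
      refine (mul_eq_zero.1 h2).resolve_left ?_
      intro h0
      exact one_ne_zero (α := K) (by linear_combination (CharP.cast_eq_zero K 3) - h0)
  let B := Multiplicative K ⋊[mulAutHom] C
  have : Finite B := Finite.of_equiv _ SemidirectProduct.equivProd.symm
  refine exists_large_divisors (B := B) SemidirectProduct.rightHom ?_ _ ?_ (fun q => ?_)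
    (fun k hk => ?_) N
  · refine ⟨SemidirectProduct.inl (Multiplicative.ofAdd 1), ?_, SemidirectProduct.rightHom_inl _⟩
    intro h
    exact one_ne_zero (α := K) (congrArg (fun b : B => b.left.toAdd) h)
  · intro k hk
    simp only [Finset.mem_insert, Finset.mem_singleton] at hk
    omega
  · by_cases hq : q = 1
    · refine ⟨3, by simp, fun b hb => ?_⟩
      have h : b = SemidirectProduct.inl b.left := by
        refine SemidirectProduct.ext ?_ ?_
        · simp
        · exact hb.trans hq
      rw [h, ← map_pow]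
      have h3 : b.left ^ 3 = 1 := Multiplicative.toAdd.injective (by
        rw [toAdd_pow, toAdd_one, nsmul_eq_mul, CharP.cast_eq_zero K 3, zero_mul])
      rw [h3, map_one]
    · have key : ∀ n, q ^ n = 1 → ∀ b : B, SemidirectProduct.rightHom b = q → b ^ n = 1 := by
        intro n hn b hb
        rw [← orderOf_dvd_iff_pow_eq_one, orderOf_eq_right hfpf b (by
          rw [← SemidirectProduct.rightHom_eq_right, hb]; exact hq),
          ← SemidirectProduct.rightHom_eq_right, hb]
        exact orderOf_dvd_of_pow_eq_one hn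
      rcases exponent_cases q with h | h
      · exact ⟨8, by simp, key 8 h⟩
      · exact ⟨10, by simp, key 10 h⟩
  · simp only [Finset.mem_insert, Finset.mem_singleton] at hk
    rcases hk with rfl | rfl | rfl
    · refine ⟨SemidirectProduct.inl (Multiplicative.ofAdd 1), ?_⟩
      rw [orderOf_injective _ SemidirectProduct.inl_injective, orderOf_ofAdd_eq_addOrderOf]
      exact addOrderOf_eq_prime (by rw [nsmul_one]; exact CharP.cast_eq_zero K 3) one_ne_zero
    · exact ⟨SemidirectProduct.inr ⟨0, 1⟩, by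
        rw [orderOf_injective _ SemidirectProduct.inr_injective, orderOf_c]⟩
    · exact ⟨SemidirectProduct.inr ⟨1, 4⟩, by
        rw [orderOf_injective _ SemidirectProduct.inr_injective, orderOf_ac]⟩

end PGLNine

end Cfsg.Agent.Spectrum
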