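import Cfsg.Agent.Lib.GL.TorusCriterion

/-!
The element orders of `PSp(4, q)` for odd `q`: the divisors of `(q² ± 1)/2`, `p (q ± 1)`, and of `9` if `p = 3`.
-/

set_option autoImplicit false
set_option maxHeartbeats 400000

open Matrix Polynomial UniqueFactorizationMonoid
open Cfsg.Agent.GL
open scoped Classical

namespace Cfsg.Agent.Spectrum.PSpFour

/-- The maximal orders, as a list. -/
def bigs (p q : ℕ) : List ℕ :=
  [(q ^ 2 + 1) / 2, (q ^ 2 - 1) / 2, p * (q - 1), p * (q + 1)] ++ if p = 3 then [9] else []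

/-- The divisors of the maximal orders. -/
def orders (p q : ℕ) : Set ℕ := {n | ∃ N ∈ bigs p q, n ∣ N}

/-- The element orders of a finite group from bounds on both sides. -/
theorem range_eq_orders {G : Type*} [Group G] [Finite G] {p q : ℕ}
    (hup : ∀ g : G, ∃ N ∈ bigs p q, orderOf g ∣ N) (hlow : ∀ N ∈ bigs p q, ∃ g : G, N ∣ orderOf g) :
    Set.range (orderOf : G → ℕ) = orders p q := by
  refine Set.ext fun n => ⟨?_, ?_⟩
  · rintro ⟨g, rfl⟩; exact hup g
  · rintro ⟨N, hN, hn⟩
    obtain ⟨g, hg⟩ := hlow N hN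
    exact ⟨g ^ (orderOf g / n), orderOf_pow_orderOf_div (orderOf_pos g).ne' (hn.trans hg)⟩

variable {F : Type*} [Field F] [Fintype F] (p : ℕ) [Fact p.Prime] [CharP F p]

theorem odd_card (hp : p ≠ 2) : Odd (Fintype.card F) := by
  obtain ⟨n, -, hn⟩ := FiniteField.card F p
  rw [hn]
  exact ((Fact.out : p.Prime).odd_of_ne_two hp).pow

theorem gcd_two (hp : p ≠ 2) : 2 = Nat.gcd 2 (Fintype.card F - 1) :=
  (Nat.gcd_eq_left (Nat.Odd.sub_odd (odd_card p hp) odd_one).two_dvd).symm

theorem torusExp_eq (hp : p ≠ 2) (d : ℕ) (b : Bool) :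
    torusExp (Fintype.card F) d b =
      (if b then Fintype.card F ^ d + 1 else Fintype.card F ^ d - 1) / 2 := by
  rw [torusExp, ← gcd_two p hp]

theorem two_mul_half (hp : p ≠ 2) (d : ℕ) (b : Bool) :
    2 * torusExp (Fintype.card F) d b = if b then Fintype.card F ^ d + 1 else Fintype.card F ^ d - 1 := by
  rw [torusExp_eq p hp]
  refine Nat.mul_div_cancel' ?_
  cases b
  · exact (Nat.Odd.sub_odd (odd_card p hp).pow odd_one).two_dvd
  · exact ((odd_card p hp).pow.add_one).two_dvd

omit [Fintype F] in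
theorem pow_eq_smul_of_dvd {A : Matrix (Fin 2 ⊕ Fin 2) (Fin 2 ⊕ Fin 2) F} {N : ℕ} {c : F}
    (h : minpoly F A ∣ X ^ N - C c) : A ^ N = c • 1 := by
  rw [minpoly.dvd_iff, map_sub, map_pow, aeval_X, aeval_C, sub_eq_zero] at h
  rw [h, Algebra.algebraMap_eq_smul_one]

/-- The upper bound for symplectic matrices. -/
theorem exists_bound (hp : p ≠ 2) {A : Matrix (Fin 2 ⊕ Fin 2) (Fin 2 ⊕ Fin 2) F}
    (hA : Preserves (sympForm 2 F) A) :
    ∃ N ∈ bigs p (Fintype.card F), ∃ c : F, A ^ N = c • 1 := by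
  set q := Fintype.card F with hq
  have hh := isReflexiveSesq_sympForm (F := F) 2
  set μ := minpoly F A with hμdef
  have hμ0 : μ ≠ 0 := minpoly.ne_zero (Algebra.IsIntegral.isIntegral A)
  have hμm : μ.Monic := minpoly.monic (Algebra.IsIntegral.isIntegral A)
  have hdeg : μ.natDegree ≤ 4 :=
    ((natDegree_le_of_dvd (Matrix.minpoly_dvd_charpoly A) (Matrix.charpoly_monic A).ne_zero).trans
      (Matrix.charpoly_natDegree_eq_dim A).le).trans (by simp)
  have hc0 : μ.coeff 0 ≠ 0 := by
    intro h0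
    obtain ⟨w, hw⟩ := minpoly_dvd_conjRev hh hA
    have h3 := congrArg (fun P : F[X] => P.coeff 0) hw
    simp only [mul_coeff_zero, coeff_zero_conjRev, RingHom.id_apply, hμdef ▸ h0, zero_mul] at h3
    exact one_ne_zero ((hμm : (minpoly F A).leadingCoeff = 1).symm.trans h3)
  have horb : ∀ f : F[X], f.Monic → Irreducible f → f ∣ μ → ¬ f ∣ X ^ 2 - 1 → _ := fun f hfm hf hfμ hf2 =>
    exists_orbit hh hA hfm hf hfμ (fun h0 => hc0 (by
      obtain ⟨u, hu⟩ := hfμ
      rw [hu, mul_coeff_zero, h0, zero_mul])) (gcd_two p hp) hf2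
  set N := normalizedFactors μ with hN
  have hfac : ∀ f ∈ N, f.Monic ∧ Irreducible f ∧ f ∣ μ := fun f hf => by
    have h1 := irreducible_of_normalized_factor f hf
    refine ⟨?_, h1, dvd_of_mem_normalizedFactors hf⟩
    rw [← normalize_normalized_factor f hf]
    exact monic_normalize h1.ne_zero
  by_cases hbig : ∃ f ∈ N, ∀ b, ¬ f ∣ X ^ (2 * torusExp q 1 b) - 1
  · obtain ⟨f, hf, hfT⟩ := hbig
    obtain ⟨hfm, hfi, hfμ⟩ := hfac f hf
    have hf2 : ¬ f ∣ X ^ 2 - 1 := fun h => hfT false (dvd_X_pow_of_dvd (dvd_mul_right 2 _) h)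
    obtain ⟨P, d, b, hd, -, hPμ, hPd, -, hfd, -, hPX⟩ := horb f hfm hfi hfμ hf2
    have hd2 : d = 2 := by
      have := hPd ▸ (natDegree_le_of_dvd hPμ hμ0).trans hdeg
      have : d ≠ 1 := fun e => hfT b (by simpa [e] using hfd)
      omega
    subst hd2
    obtain ⟨c, hc, hfc⟩ := exists_sign_dvd hfi hfd
    have hL : 0 < torusExp q 2 b := by
      have h2 := two_mul_half (F := F) p hp 2 b
      have : 4 ≤ q ^ 2 := Nat.pow_le_pow_left (Fintype.one_lt_card) 2
      rw [← hq] at h2
      cases b <;> simp at h2 <;> omega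
    refine ⟨torusExp q 2 b, ?_, c, pow_eq_smul_of_dvd ?_⟩
    · rw [hq, torusExp_eq p hp, bigs]
      cases b <;> simp
    · obtain ⟨u, hu⟩ := hPμ
      have hu0 : IsUnit u := by
        have hP0 : P ≠ 0 := fun h0 => hμ0 (by rw [hμdef, hu, h0, zero_mul])
        have hu0 : u ≠ 0 := fun h0 => hμ0 (by rw [hμdef, hu, h0, mul_zero])
        have := congrArg natDegree hu
        rw [← hμdef, natDegree_mul hP0 hu0, hPd] at this
        exact isUnit_iff_degree_eq_zero.2 (by rw [degree_eq_natDegree hu0, show u.natDegree = 0 by omega]; rfl)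
      rw [hu, hu0.mul_right_dvd]
      exact hPX _ c hL hc hfc
  push Not at hbig
  by_cases hT : ∃ b, ∀ f ∈ N, f ∣ X ^ (2 * torusExp q 1 b) - 1
  · -- all roots in one torus
    obtain ⟨b, hb⟩ := hT
    set T := 2 * torusExp q 1 b with hTdef
    by_cases hmul : ∀ f ∈ N, N.count f ≤ p
    · refine ⟨p * T, ?_, 1, pow_eq_smul_of_dvd ?_⟩
      · rw [hTdef, hq, two_mul_half p hp, bigs]
        cases b <;> simp
      · rw [map_one]
        refine (prod_normalizedFactors hμ0).symm.dvd.trans ?_
        rw [Finset.prod_multiset_count, mul_comm p T, pow_mul,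
          show (X ^ T) ^ p - (1 : F[X]) = (X ^ T - 1) ^ p by rw [sub_pow_char, one_pow]]
        refine Finset.prod_dvd_of_coprime (fun f hf g hg hne => ?_) fun f hf => ?_
        · rw [Finset.mem_coe, Multiset.mem_toFinset] at hf hg
          exact ((hfac f hf).2.1.coprime_iff_not_dvd.2 fun hd => hne
            (Polynomial.eq_of_monic_of_associated (hfac f hf).1 (hfac g hg).1
              ((hfac f hf).2.1.associated_of_dvd (hfac g hg).2.1 hd))).pow
        · rw [Multiset.mem_toFinset] at hf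
          exact (pow_dvd_pow f (hmul f hf)).trans (pow_dvd_pow_of_dvd (hb f hf) p)
    · push Not at hmul
      obtain ⟨f, hf, hcnt⟩ := hmul
      obtain ⟨hfm, hfi, hfμ⟩ := hfac f hf
      have hp3 : 3 ≤ p := by
        have := (Fact.out : p.Prime).two_le
        omega
      have hpow : f ^ N.count f ∣ μ := by
        refine dvd_trans ?_ (prod_normalizedFactors hμ0).dvd
        have h1 := Multiset.le_count_iff_replicate_le.1 (le_refl (N.count f))
        have := Multiset.prod_dvd_prod_of_le h1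
        rwa [Multiset.prod_replicate] at this
      have hle := (natDegree_le_of_dvd hpow hμ0).trans hdeg
      rw [natDegree_pow] at hle
      have hfd := hfi.natDegree_pos
      have hd1 : f.natDegree = 1 := by nlinarith
      have hc4 : N.count f = 4 := by rw [hd1] at hle; omega
      have hp' : p = 3 := by omega
      have hμe : μ = f ^ 4 := by
        refine (Polynomial.eq_of_monic_of_associated (hfm.pow 4) hμm ?_).symm
        refine associated_of_dvd_of_natDegree_le (hc4 ▸ hpow) hμ0 ?_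
        rw [natDegree_pow, hd1]
        exact hdeg
      have hf2 : f ∣ X ^ 2 - 1 := by
        by_contra hf2
        obtain ⟨P, d, b', hd, -, hPμ, hPd, hPco, -, hlin, -⟩ := horb f hfm hfi hfμ hf2
        have hfP : f ∣ P := by
          have hP1 : ¬ IsUnit P := fun hu => by
            have := natDegree_eq_zero_of_isUnit hu
            omega
          have hP0 : P ≠ 0 := fun h0 => by rw [h0, natDegree_zero] at hPd; omega
          obtain ⟨z, hz, hzP⟩ := WfDvdMonoid.exists_irreducible_factor hP1 hP0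
          have hzμ : z ∣ μ := hzP.trans hPμ
          rw [hμe] at hzμ
          have hzf : z ∣ f := hz.prime.dvd_of_dvd_pow hzμ
          exact (hz.associated_of_dvd hfi hzf).symm.dvd.trans hzP
        -- `f` is fixed by the reversal
        have h0 : f.coeff 0 ≠ 0 := fun h0 => hc0 (by rw [hμe, show f ^ 4 = f * f ^ 3 by ring, mul_coeff_zero, h0, zero_mul])
        have hirr := irreducible_conjRev hh.invol hfi h0
        have hdvd : conjRev (RingHom.id F) f ∣ μ := by
          refine (conjRev_dvd _ hfμ).trans ?_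
          have := conjRev_dvd (RingHom.id F) (minpoly_dvd_conjRev hh hA)
          rwa [conjRev_conjRev hh.invol hc0] at this
        have hself : f ∣ conjRev (RingHom.id F) f :=
          (hirr.associated_of_dvd hfi (hirr.prime.dvd_of_dvd_pow (hμe ▸ hdvd))).symm.dvd
        rcases root_pow_of_self_rev hfm hfi h0 hself with ⟨-, h2⟩ | ⟨e, he, hde, -⟩
        · exact hf2 ((dvd_X_pow_sub_one_iff 2).2 h2)
        · omega
      obtain ⟨c, hc, hfc⟩ := exists_sign_dvd (L := 1) hfi (by simpa using hf2)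
      refine ⟨9, by simp [bigs, hp'], c, pow_eq_smul_of_dvd ?_⟩
      rw [show X ^ 9 - C c = (X ^ 1 - C c) ^ 9 from ?_, ← hμdef, hμe]
      · exact (pow_dvd_pow f (by norm_num)).trans (pow_dvd_pow_of_dvd hfc 9)
      · have hc9 : c ^ 9 = c := by
          calc c ^ 9 = (c * c) ^ 4 * c := by ring
            _ = c := by rw [hc, one_pow, one_mul]
        subst hp'
        rw [pow_one, show (9 : ℕ) = 3 ^ 2 from rfl, sub_pow_char_pow, ← C_pow, show 3 ^ 2 = 9 from rfl, hc9]
  -- two tori
  push Not at hT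
  obtain ⟨f, hf, hfF⟩ := hT false
  obtain ⟨g, hg, hgT⟩ := hT true
  have hfN := hf
  have hgN := hg
  have horb' : ∀ f ∈ N, ∀ b, ¬ f ∣ X ^ (2 * torusExp q 1 b) - 1 →
      ∃ P : F[X], P ∣ μ ∧ P.natDegree = 2 ∧ IsCoprime P (X ^ 2 - 1) ∧ P ∣ X ^ (2 * torusExp q 1 (!b)) - 1 := by
    intro f hf b hfb
    obtain ⟨hfm, hfi, hfμ⟩ := hfac f hf
    have hf2 : ¬ f ∣ X ^ 2 - 1 := fun h => hfb (dvd_X_pow_of_dvd (dvd_mul_right 2 _) h)
    obtain ⟨P, d, b', hd, hfP, hPμ, hPd, hP2, -, -, hPX⟩ := horb f hfm hfi hfμ hf2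
    obtain ⟨b'', hb''⟩ := hbig f hf
    obtain rfl : b'' = !b := by
      cases b <;> cases b'' <;> first | rfl | exact absurd hb'' hfb
    have hL : 0 < 2 * torusExp q 1 (!b) := by
      have := Fintype.one_lt_card (α := F)
      rw [hq, two_mul_half p hp]
      cases b <;> simp <;> omega
    have hPT : P ∣ X ^ (2 * torusExp q 1 (!b)) - 1 := by
      simpa using hPX _ 1 hL (one_mul 1) (by simpa using hb'')
    refine ⟨P, hPμ, ?_, hP2, hPT⟩
    have hd1 : d = 1 ∨ d = 2 := by
      have := hPd ▸ (natDegree_le_of_dvd hPμ hμ0).trans hdeg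
      omega
    rcases hd1 with rfl | rfl
    · exact hPd
    exfalso
    -- then `μ` is `P`, and every factor lies in one torus
    refine absurd (hPT) fun hPT => ?_
    have hall : μ ∣ X ^ (2 * torusExp q 1 (!b)) - 1 := by
      refine (associated_of_dvd_of_natDegree_le hPμ hμ0 (hdeg.trans (by omega))).symm.dvd.trans hPT
    cases b with
    | false => exact hgT ((dvd_of_mem_normalizedFactors hgN).trans hall)
    | true => exact hfF ((dvd_of_mem_normalizedFactors hfN).trans hall)
  obtain ⟨P, hPμ, hPd, hP2, hPT⟩ := horb' f hf false hfF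
  obtain ⟨Q, hQμ, hQd, -, hQT⟩ := horb' g hg true hgT
  have hco : IsCoprime P Q := by
    refine isCoprime_of_prime_dvd (fun h0 => by rw [h0.1, natDegree_zero] at hPd; omega) fun z hz hzP hzQ => ?_
    refine hz.not_unit (hP2.isUnit_of_dvd' hzP ?_)
    have h1 := dvd_X_pow_gcd (hzP.trans hPT) (hzQ.trans hQT)
    rw [hq, two_mul_half p hp, two_mul_half p hp] at h1
    simp only [Bool.not_false, Bool.not_true, if_true, Bool.false_eq_true, if_false, pow_one] at h1
    refine dvd_X_pow_of_dvd ?_ h1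
    have h2 := Nat.dvd_sub (Nat.gcd_dvd_left (q + 1) (q - 1)) (Nat.gcd_dvd_right (q + 1) (q - 1))
    have := Fintype.one_lt_card (α := F)
    rwa [show q + 1 - (q - 1) = 2 by omega] at h2
  refine ⟨(q ^ 2 - 1) / 2, by simp [bigs], 1, pow_eq_smul_of_dvd ?_⟩
  rw [map_one]
  have hdvd : ∀ b, 2 * torusExp q 1 b ∣ (q ^ 2 - 1) / 2 := by
    intro b
    rw [hq, two_mul_half p hp, ← hq]
    obtain ⟨k, hk⟩ := odd_card (F := F) p hp
    rw [← hq] at hk
    have e : (q ^ 2 - 1) / 2 = 2 * k * (k + 1) := by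
      rw [hk, show (2 * k + 1) ^ 2 = 2 * (2 * k * (k + 1)) + 1 by ring, Nat.add_sub_cancel,
        Nat.mul_div_cancel_left _ two_pos]
    rw [e]
    cases b
    · refine ⟨k + 1, ?_⟩
      simp [hk]
    · refine ⟨k, ?_⟩
      simp [hk]; ring
  refine (associated_of_dvd_of_natDegree_le (hco.mul_dvd hPμ hQμ) hμ0 ?_).symm.dvd.trans
    (hco.mul_dvd (dvd_X_pow_of_dvd (hdvd _) hPT) (dvd_X_pow_of_dvd (hdvd _) hQT))
  have h1 : P ≠ 0 := fun h0 => by rw [h0, natDegree_zero] at hPd; omega
  have h2 : Q ≠ 0 := fun h0 => by rw [h0, natDegree_zero] at hQd; omega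
  rw [natDegree_mul h1 h2]
  omega

/-- A matrix whose scalar powers are bounded below gives an element order. -/
theorem exists_dvd_orderOf {A : Matrix (Fin 2 ⊕ Fin 2) (Fin 2 ⊕ Fin 2) F} (hA : Preserves (sympForm 2 F) A)
    {n : ℕ} (h : ∀ k (c : F), A ^ k = c • 1 → c * c = 1 → n ∣ k) :
    ∃ x : Cfsg.PSp 2 F, n ∣ orderOf x := by
  let g : Matrix.symplecticGroup (Fin 2) F := ⟨A, mem_symplectic_iff_preserves.2 hA⟩
  refine ⟨QuotientGroup.mk g, ?_⟩
  have h1 : g ^ orderOf (QuotientGroup.mk g : Cfsg.PSp 2 F) ∈ Subgroup.center _ := by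
    rw [← QuotientGroup.eq_one_iff, QuotientGroup.mk_pow, pow_orderOf_eq_one]
  obtain ⟨c, hc⟩ := symp_center_scalar _ h1
  refine h _ c ?_ (symp_scalar_sq two_pos (hc ▸ mem_symplectic_iff_preserves.1 (g ^ _).2))
  rw [← hc, SubmonoidClass.coe_pow]

/-- The element orders of `PSp(4, F)`. -/
theorem range_orderOf_psp (hp : p ≠ 2) :
    Set.range (orderOf : Cfsg.PSp 2 F → ℕ) = orders p (Fintype.card F) := by
  refine range_eq_orders (fun x => ?_) fun N hN => ?_
  · obtain ⟨g, rfl⟩ := QuotientGroup.mk_surjective x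
    obtain ⟨N, hN, c, hc⟩ := exists_bound p hp (mem_symplectic_iff_preserves.1 g.2)
    refine ⟨N, hN, orderOf_dvd_of_pow_eq_one ?_⟩
    rw [← QuotientGroup.mk_pow, QuotientGroup.eq_one_iff, Subgroup.mem_center_iff]
    intro y
    apply Subtype.ext
    simp only [Submonoid.coe_mul, SubmonoidClass.coe_pow, hc]
    simp
  · set q := Fintype.card F with hq
    have hblock : ∀ (b : Bool), ∃ x : Cfsg.PSp 2 F, p * (if b then q + 1 else q - 1) ∣ orderOf x := by
      intro b
      obtain ⟨J, hJ, hJk⟩ := exists_symp_jordan (F := F) p hp (s := 1) one_pos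
      obtain ⟨Z, hZ, hZk⟩ : ∃ Z : Matrix (Fin 1 ⊕ Fin 1) (Fin 1 ⊕ Fin 1) F, Preserves (sympForm 1 F) Z ∧
          ∀ k, Z ^ k = 1 → (if b then q + 1 else q - 1) ∣ k := by
        cases b
        · obtain ⟨Z, h1, h2, -⟩ := exists_split_torus_symp (F := F) one_pos
          exact ⟨Z, h1, fun k hk => by simpa using (h2 k).1 hk⟩
        · obtain ⟨Z, h1, h2, -⟩ := exists_nonsplit_torus_symp_any (F := F) one_pos
          exact ⟨Z, h1, fun k hk => by simpa using (h2 k).1 hk⟩
      refine exists_dvd_orderOf (preserves_sympBlock (show 1 + 1 = 2 from rfl) hJ hZ) fun k c hk _ => ?_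
      rw [← map_pow, sympBlock_eq_smul_one] at hk
      obtain ⟨hc1, hpk⟩ := hJk k c hk.1
      rw [show p ^ Nat.clog p (2 * 1) = p by
        rw [Nat.clog_of_two_le (Fact.out : p.Prime).one_lt le_rfl, show (2 * 1 + p - 1) / p = 1 from
          Nat.div_eq_of_lt_le (by have := (Fact.out : p.Prime).two_le; omega)
            (by have := (Fact.out : p.Prime).two_le; omega)]
        simp] at hpk
      refine Nat.Coprime.mul_dvd_of_dvd_of_dvd ?_ hpk (hZk k (hk.2.trans (by rw [hc1, one_smul])))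
      have hpq : p ∣ q := by
        obtain ⟨n, -, hn⟩ := FiniteField.card F p
        rw [hq, hn]; exact dvd_pow_self p n.pos.ne'
      refine (Fact.out : p.Prime).coprime_iff_not_dvd.2 fun hd => ?_
      cases b
      · have := Nat.dvd_sub hpq hd
        have h1 := Fintype.one_lt_card (α := F)
        simp only [Bool.false_eq_true, if_false] at this
        rw [show q - (q - 1) = 1 by omega] at this
        exact (Fact.out : p.Prime).not_dvd_one this
      · exact (Fact.out : p.Prime).not_dvd_one ((Nat.dvd_add_right hpq).1 hd)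
    have htor : ∀ (b : Bool), ∃ x : Cfsg.PSp 2 F, (if b then q ^ 2 + 1 else q ^ 2 - 1) / 2 ∣ orderOf x := by
      intro b
      obtain ⟨Z, hZ, hZk⟩ : ∃ Z : Matrix (Fin 2 ⊕ Fin 2) (Fin 2 ⊕ Fin 2) F, Preserves (sympForm 2 F) Z ∧
          ∀ k (c : F), Z ^ k = c • 1 → c * c = 1 → (if b then q ^ 2 + 1 else q ^ 2 - 1) ∣ k * 2 := by
        cases b
        · obtain ⟨Z, h1, -, h2⟩ := exists_split_torus_symp (F := F) two_pos
          exact ⟨Z, h1, fun k c hk hc => by simpa using h2 k c hk hc⟩
        · obtain ⟨Z, h1, -, h2⟩ := exists_nonsplit_torus_symp_any (F := F) two_pos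
          exact ⟨Z, h1, fun k c hk hc => by simpa using h2 k c hk hc⟩
      refine exists_dvd_orderOf hZ fun k c hk hc => ?_
      have := two_mul_half (F := F) p hp 2 b
      rw [← hq, torusExp_eq p hp, ← hq] at this
      have h2 := hZk k c hk hc
      rw [← this, mul_comm k 2] at h2
      exact Nat.dvd_of_mul_dvd_mul_left two_pos h2
    simp only [bigs, List.cons_append, List.nil_append, List.mem_cons] at hN
    rcases hN with rfl | rfl | rfl | rfl | hN
    · simpa using htor true
    · simpa using htor false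
    · simpa using hblock false
    · simpa using hblock true
    · split_ifs at hN with h3
      · simp only [List.mem_singleton] at hN
        subst hN h3
        obtain ⟨J, hJ, hJk⟩ := exists_symp_jordan (F := F) 3 hp (s := 2) two_pos
        refine exists_dvd_orderOf hJ fun k c hk _ => ?_
        have h := (hJk k c hk).2
        have : Nat.clog 3 (2 * 2) = 2 := by decide
        rwa [this] at h
      · simp at hN

end Cfsg.Agent.Spectrum.PSpFour
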