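import Cfsg.Agent.Lib.Spectrum.SL2Frob
import Cfsg.Agent.Lib.Spectrum.MatrixModule
import Cfsg.Agent.Lib.Spectrum.PSpFourOdd

/-!
For `p ≥ 5` and `q = p ^ n`: the groups `W ^ k ⋊ L₂(q²).2`, `W` built from the natural module of `O₄⁻(q)`,
have the element orders of `PSp(4, q)`.
-/

set_option autoImplicit false
set_option maxHeartbeats 400000

open Matrix
open scoped MatrixGroups Kronecker
open Cfsg.Agent.Spectrum.SL2Kron Cfsg.Agent.Spectrum.MatrixModule

namespace Cfsg.Agent.Spectrum.PSpFour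

/-- `MatrixModule.exists_large` for the orders of `PSp(4, q)`. -/
theorem of_module {X R : Type} [Group X] [Finite X] [CommRing R] [Fintype R] [Nontrivial R] {ι : Type}
    [Fintype ι] [DecidableEq ι] [Nonempty ι] (ρ : X →* Matrix ι ι R) {p q : ℕ}
    (hup : ∀ g : X, ∃ M ∈ bigs p q, g ^ M = 1 ∧ ∑ i ∈ Finset.range M, ρ g ^ i = 0)
    (hlow : ∀ M ∈ bigs p q, ∃ g : X, ∀ k, g ^ k = 1 → ∑ i ∈ Finset.range k, ρ g ^ i = 0 → M ∣ k) (N : ℕ) :
    ∃ (H : Type) (_ : Group H) (_ : Fintype H), N < Fintype.card H ∧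
      Set.range (orderOf : H → ℕ) = orders p q := by
  obtain ⟨H, i1, i2, h1, h2, h3⟩ := MatrixModule.exists_large ρ (bigs p q) hup hlow N
  exact ⟨H, i1, i2, h1, range_eq_orders h2 h3⟩

end Cfsg.Agent.Spectrum.PSpFour

namespace Cfsg.Agent.Spectrum.PSpFour.Big

abbrev I := Fin 2 × Fin 2

variable {K : Type} [Field K] (p n : ℕ) [Fact p.Prime] [CharP K p]

/-- The Frobenius `x ↦ x ^ q`. -/
abbrev frob : K →+* K := iterateFrobenius K p n

/-- The tensor product of the natural module and its twist. -/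
def rho : SL(2, K) →* Matrix I I K where
  toFun g := g.1 ⊗ₖ g.1.map (frob p n)
  map_one' := by simp
  map_mul' g h := by
    rw [← Matrix.mul_kronecker_mul, Matrix.SpecialLinearGroup.coe_mul, Matrix.map_mul]

/-- The swap of the two tensor factors. -/
def tau : Matrix I I K := (1 : Matrix I I K).submatrix Prod.swap id

theorem tau_mul (M : Matrix I I K) : tau * M = M.submatrix Prod.swap id := by
  ext i j; simp [tau, Matrix.mul_apply, Matrix.one_apply]

theorem mul_tau (M : Matrix I I K) : M * tau = M.submatrix id Prod.swap := by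
  ext i ⟨j1, j2⟩
  simp [tau, Matrix.mul_apply, Matrix.one_apply,
    show ∀ j : I, Prod.swap j = (j1, j2) ↔ j = (j2, j1) from fun j => Prod.swap_injective.eq_iff (b := (j2, j1))]

theorem tau_sq : tau * tau = (1 : Matrix I I K) := by
  rw [tau_mul]; ext i j; simp [tau, Matrix.one_apply]

theorem tau_kron (A B : Matrix (Fin 2) (Fin 2) K) : tau * (A ⊗ₖ B) = (B ⊗ₖ A) * tau := by
  rw [tau_mul, mul_tau]; ext i j; simp [mul_comm]

variable [Fintype K] (hK : Fintype.card K = (p ^ n) ^ 2)

include hK in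
theorem frob_frob (x : K) : frob p n (frob p n x) = x := by
  rw [iterateFrobenius_def, iterateFrobenius_def, ← pow_mul, ← sq, ← hK, FiniteField.pow_card]

/-- The twist of a group element. -/
abbrev tw (g : SL(2, K)) : SL(2, K) := Matrix.SpecialLinearGroup.map (frob p n) g

include hK in
theorem tau_rho (g : SL(2, K)) : tau * rho p n g = rho p n (tw p n g) * tau := by
  show tau * (g.1 ⊗ₖ g.1.map (frob p n)) = ((tw p n g).1 ⊗ₖ (tw p n g).1.map (frob p n)) * tau
  rw [tau_kron]
  congr 2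
  ext i j
  exact (frob_frob p n hK _).symm

/-- The matrices in the extended group. -/
def IsMem (u : Matrix I I K) : Prop := ∃ g : SL(2, K), u = rho p n g ∨ u = rho p n g * tau

include hK in
theorem isMem_mul {u v : Matrix I I K} (hu : IsMem p n u) (hv : IsMem p n v) : IsMem p n (u * v) := by
  obtain ⟨g, hg⟩ := hu
  obtain ⟨h, hh⟩ := hv
  rcases hg with rfl | rfl <;> rcases hh with rfl | rfl
  · exact ⟨g * h, Or.inl (map_mul _ _ _).symm⟩
  · exact ⟨g * h, Or.inr (by rw [map_mul, mul_assoc])⟩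
  · exact ⟨g * tw p n h, Or.inr (by rw [mul_assoc, tau_rho p n hK, map_mul, mul_assoc])⟩
  · refine ⟨g * tw p n h, Or.inl ?_⟩
    rw [mul_assoc, ← mul_assoc tau, tau_rho p n hK, mul_assoc, tau_sq, mul_one, map_mul]

/-- `L₂(q²).2` as a group of matrices. -/
def X : Subgroup (Matrix I I K)ˣ :=
  let S : Submonoid (Matrix I I K)ˣ :=
    { carrier := {u | IsMem p n u.1}
      mul_mem' := fun hu hv => isMem_mul p n hK hu hv
      one_mem' := ⟨1, Or.inl (by rw [map_one]; rfl)⟩ }
  { S with
    inv_mem' := fun {u} hu => by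
      refine (inv_eq_of_mul_eq_one_right (b := u ^ (orderOf u - 1)) ?_).symm ▸ (pow_mem (show u ∈ S from hu) _)
      rw [← pow_succ', Nat.sub_add_cancel (orderOf_pos u), pow_orderOf_eq_one] }

/-- The matrix of an element of `X`. -/
def toMat : X p n hK →* Matrix I I K := (Units.coeHom _).comp (X p n hK).subtype

theorem toMat_injective : Function.Injective (toMat p n hK) := fun _ _ h => Subtype.ext (Units.ext h)

theorem exists_toMat {u : Matrix I I K} (h : IsMem p n u) : ∃ x : X p n hK, toMat p n hK x = u := by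
  have hu : IsUnit u := by
    have hr : ∀ g, IsUnit (rho (K := K) p n g) := fun g => (Group.isUnit g).map (rho p n)
    obtain ⟨g, rfl | rfl⟩ := h
    · exact hr g
    · exact (hr g).mul ⟨⟨tau, tau, tau_sq, tau_sq⟩, rfl⟩
  exact ⟨⟨hu.unit, h⟩, rfl⟩

variable {n}

include hK in
theorem rho_scalar (hp : p ≠ 2) {g : SL(2, K)} {c : K} (h : g.1 = c • 1) : rho p n g = 1 := by
  have hc := sq_one_of_scalar g h
  show g.1 ⊗ₖ g.1.map (frob p n) = 1
  rw [h, show (c • (1 : Matrix (Fin 2) (Fin 2) K)).map (frob p n) = c • 1 from ?_,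
    Matrix.smul_kronecker, Matrix.kronecker_smul, Matrix.one_kronecker_one, smul_smul, hc, one_smul]
  ext i j
  rw [Matrix.map_apply, Matrix.smul_apply, Matrix.one_apply, iterateFrobenius_def, smul_eq_mul, mul_pow,
    pow_eq_of_sq hc ((Fact.out : p.Prime).odd_of_ne_two hp).pow]
  have := (Fact.out : p.Prime).pos
  split_ifs <;> simp [zero_pow (Nat.pow_pos (n := n) this).ne']

variable (L : Type*) [Field L] [IsAlgClosed L] (ι : K →+* L)

include hK in
theorem sum_unip (hp : 5 ≤ p) (g : SL(2, K)) {c : K} (hc : c * c = 1)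
    (h : (g.1 - c • 1) * (g.1 - c • 1) = 0) :
    rho p n g ^ p = 1 ∧ ∑ i ∈ Finset.range p, rho p n g ^ i = 0 := by
  refine ⟨by rw [← map_pow]; exact rho_scalar p hK (by omega) (pow_p_scalar p (by omega) g hc h), ?_⟩
  rw [geom_sum_char K p]
  set N := g.1 - c • 1 with hN
  set M := N.map (frob p n) with hM
  have hM2 : M * M = 0 := by rw [hM, ← Matrix.map_mul, h]; simp
  have hg : g.1 = c • 1 + N := by rw [hN]; abel
  have hcq : frob p n c = c := by
    rw [iterateFrobenius_def, pow_eq_of_sq hc ((Fact.out : p.Prime).odd_of_ne_two (by omega)).pow]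
  have hgq : g.1.map (frob p n) = c • 1 + M := by
    rw [hg, Matrix.map_add _ (map_add _), ← hM]
    congr 1
    ext i j
    by_cases hij : i = j <;> simp [hij, hcq]
  have he : rho p n g - 1 = c • (N ⊗ₖ 1) + c • (1 ⊗ₖ M) + (c • (N ⊗ₖ 1)) * (c • (1 ⊗ₖ M)) := by
    show g.1 ⊗ₖ g.1.map (frob p n) - 1 = _
    rw [hgq, hg, Matrix.add_kronecker, Matrix.kronecker_add, Matrix.kronecker_add, smul_mul_smul_comm, hc,
      one_smul, ← Matrix.mul_kronecker_mul, mul_one, one_mul, Matrix.smul_kronecker, Matrix.kronecker_smul,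
      Matrix.one_kronecker_one, smul_smul, hc, one_smul, Matrix.smul_kronecker, Matrix.kronecker_smul]
    abel
  rw [he, ← Nat.sub_add_cancel (show 3 ≤ p - 1 by omega), pow_add, cube_eq_zero, mul_zero]
  · exact (Commute.smul_left (by simp only [Commute, SemiconjBy, ← Matrix.mul_kronecker_mul, one_mul, mul_one]) c).smul_right c
  · rw [smul_mul_smul_comm, ← Matrix.mul_kronecker_mul, h]; simp
  · rw [smul_mul_smul_comm, ← Matrix.mul_kronecker_mul, hM2]; simp

include hK L ι in
theorem up_inner (hp : 5 ≤ p) (hn : 0 < n) (g : SL(2, K)) :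
    ∃ M ∈ bigs p (p ^ n), rho p n g ^ M = 1 ∧ ∑ i ∈ Finset.range M, rho p n g ^ i = 0 := by
  set q := p ^ n with hq
  have hq2 : 2 ≤ q := le_trans (Fact.out : p.Prime).two_le (Nat.le_self_pow hn.ne' p)
  have hqo : Odd q := ((Fact.out : p.Prime).odd_of_ne_two (by omega)).pow
  rcases cases L ι g with ⟨c, hc, h⟩ | ⟨a, ha, ha2, hat⟩
  · obtain ⟨h1, h2⟩ := sum_unip p hK hp g hc h
    refine ⟨p * (q - 1), by simp [bigs], by rw [pow_mul, h1, one_pow], ?_⟩
    rw [sum_range_mul _ h1, h2, smul_zero]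
  have : CharP L p := charP_of_injective_ringHom ι.injective p
  have hQ : g.1.trace ^ p ^ (n * 2) = g.1.trace := by rw [pow_mul, ← hK, FiniteField.pow_card]
  have hrp : ∀ k, a ^ (2 * k) = 1 → rho p n g ^ k = 1 := fun k hk => by
    obtain ⟨c, hc⟩ := exists_scalar_of_pow ι g ha ha2 hat hk
    rw [← map_pow]; exact rho_scalar p hK (by omega) hc
  by_cases hf : Fpf (rho p n g)
  · have hpow : ∀ b : Bool, a ^ (if b then q ^ 2 + 1 else q ^ 2 - 1) = 1 →
        rho p n g ^ ((if b then q ^ 2 + 1 else q ^ 2 - 1) / 2) = 1 := fun b hb => by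
      refine hrp _ ?_
      rwa [Nat.mul_div_cancel' ?_]
      cases b
      · exact (Nat.Odd.sub_odd hqo.pow odd_one).two_dvd
      · exact (hqo.pow.add_one).two_dvd
    rcases root_exp p ha hat (n * 2) (by rw [← map_pow, hQ]) with h | h <;> rw [pow_mul, ← hq] at h
    · exact ⟨_, by simp [bigs], hpow false (by simpa using h), sum_eq_zero_of_fpf hf (hpow false (by simpa using h))⟩
    · exact ⟨_, by simp [bigs], hpow true (by simpa using h), sum_eq_zero_of_fpf hf (hpow true (by simpa using h))⟩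
  have hne : a ^ (q + 1) = 1 ∨ a ^ (q - 1) = 1 := by
    by_contra hcon
    push Not at hcon
    apply hf
    have haq : a ^ (q - 1) * a = a ^ q := by rw [← pow_succ, Nat.sub_add_cancel (by omega)]
    have h1 : a * a ^ q ≠ 1 := by rw [← pow_succ']; exact hcon.1
    have h2 : a * (a ^ q)⁻¹ ≠ 1 := fun h => hcon.2 (mul_right_cancel₀ ha (by
      rw [haq, one_mul]; exact (eq_of_mul_inv_eq_one h).symm))
    have h3 : a⁻¹ * a ^ q ≠ 1 := fun h => h2 (by
      rw [← inv_inv (a * (a ^ q)⁻¹), mul_inv, inv_inv, h, inv_one])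
    have h4 : a⁻¹ * (a ^ q)⁻¹ ≠ 1 := fun h => h1 (by rw [← inv_inv (a * a ^ q), mul_inv, h, inv_one])
    have hat' : a ^ q + (a ^ q)⁻¹ = (ι.comp (frob p n)) g.1.trace := by
      rw [RingHom.comp_apply, iterateFrobenius_def, map_pow, ← hat, hq, add_pow_char_pow, inv_pow]
    have hA := quad_root ι g ha hat
    have hB := quad_root (ι.comp (frob p n)) g (pow_ne_zero q ha) hat'
    refine fpf_of_map ι ?_
    rw [show (rho p n g).map ι = g.1.map ι ⊗ₖ g.1.map (ι.comp (frob p n)) from
      Matrix.ext fun i j => map_mul ι _ _]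
    refine fpf_kron (fun e => ha2 ?_) hA (fpf_of_quad hB h1 h2) (fpf_of_quad hB h3 h4)
    rw [sq]; nth_rw 2 [e]; exact mul_inv_cancel₀ ha
  rcases hne with h | h
  · refine ⟨p * (q + 1), by simp [bigs], ?_⟩
    have hk : rho p n g ^ ((q + 1) / 2) = 1 := hrp _ (by rwa [Nat.mul_div_cancel' hqo.add_one.two_dvd])
    obtain ⟨x, hx⟩ := exists_toMat p n hK ⟨g, Or.inl rfl⟩
    have := ok_of_dvd (p := p) (toMat p n hK) (toMat_injective p n hK (a₁ := x ^ ((q + 1) / 2)) (a₂ := 1)
      (by rw [map_pow, hx, hk, map_one])) (Nat.mul_dvd_mul_left p (Nat.div_dvd_of_dvd hqo.add_one.two_dvd))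
    rw [hx] at this
    exact ⟨by rw [← hx, ← map_pow, this.1, map_one], this.2⟩
  · refine ⟨p * (q - 1), by simp [bigs], ?_⟩
    have h2 := (Nat.Odd.sub_odd hqo odd_one).two_dvd
    have hk : rho p n g ^ ((q - 1) / 2) = 1 := hrp _ (by rwa [Nat.mul_div_cancel' h2])
    obtain ⟨x, hx⟩ := exists_toMat p n hK ⟨g, Or.inl rfl⟩
    have := ok_of_dvd (p := p) (toMat p n hK) (toMat_injective p n hK (a₁ := x ^ ((q - 1) / 2)) (a₂ := 1)
      (by rw [map_pow, hx, hk, map_one])) (Nat.mul_dvd_mul_left p (Nat.div_dvd_of_dvd h2))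
    rw [hx] at this
    exact ⟨by rw [← hx, ← map_pow, this.1, map_one], this.2⟩

theorem sum_range_two_mul {S : Type*} [Semiring S] (h : S) (k : ℕ) :
    ∑ i ∈ Finset.range (2 * k), h ^ i = (1 + h) * ∑ i ∈ Finset.range k, (h * h) ^ i := by
  induction k with
  | zero => simp
  | succ k ih =>
    rw [Nat.mul_succ, Finset.sum_range_succ, Finset.sum_range_succ, ih, Finset.sum_range_succ, mul_add,
      add_assoc]
    congr 1
    rw [add_mul, one_mul, ← sq, ← pow_mul, ← pow_succ']

include hK in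
theorem rho_tau_sq (g : SL(2, K)) : (rho p n g * tau) * (rho p n g * tau) = rho p n (g * tw p n g) := by
  rw [mul_assoc, ← mul_assoc tau, tau_rho p n hK, mul_assoc, tau_sq, mul_one, map_mul]

include hK L ι in
theorem up_outer (hp : 5 ≤ p) (hn : 0 < n) (g : SL(2, K)) :
    ∃ M ∈ bigs p (p ^ n), (rho p n g * tau) ^ M = 1 ∧
      ∑ i ∈ Finset.range M, (rho p n g * tau) ^ i = 0 := by
  set q := p ^ n with hq
  have hqo : Odd q := ((Fact.out : p.Prime).odd_of_ne_two (by omega)).pow
  have h2 := (Nat.Odd.sub_odd hqo odd_one).two_dvd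
  set h := rho p n g * tau with hh
  set M := g * tw p n g with hM
  have hsq : h * h = rho p n M := rho_tau_sq p hK g
  rcases cases L ι M with ⟨c, hc, hu⟩ | ⟨a, ha, ha2, hat⟩
  · obtain ⟨h1, h3⟩ := sum_unip p hK hp M hc hu
    obtain ⟨j, hj⟩ : 2 * p ∣ p * (q - 1) := by rw [mul_comm 2]; exact Nat.mul_dvd_mul_left p h2
    have h2p : h ^ (2 * p) = 1 := by rw [pow_mul, sq, hsq, h1]
    refine ⟨p * (q - 1), by simp [bigs], by rw [hj, pow_mul, h2p, one_pow], ?_⟩
    rw [hj, sum_range_mul _ h2p, sum_range_two_mul, hsq, h3, mul_zero, smul_zero]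
  have : CharP L p := charP_of_injective_ringHom ι.injective p
  have htr : frob p n M.1.trace = M.1.trace := by
    have e : M.1.map (frob p n) = (tw p n g).1 * g.1 := by
      rw [hM, Matrix.SpecialLinearGroup.coe_mul, Matrix.map_mul]
      congr 1
      ext i j
      exact frob_frob p n hK _
    calc frob p n M.1.trace = (M.1.map (frob p n)).trace := AddMonoidHom.map_trace (frob p n : K →+* K).toAddMonoidHom M.1
      _ = _ := by rw [e, Matrix.trace_mul_comm]; rfl
  have hk : ∀ k, a ^ k = 1 → 2 ∣ k → p * k ∈ bigs p q → ∃ N ∈ bigs p q, h ^ N = 1 ∧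
      ∑ i ∈ Finset.range N, h ^ i = 0 := by
    intro k hk h2k hmem
    obtain ⟨c, hc⟩ := exists_scalar_of_pow ι M ha ha2 hat (k := k / 2) (by rwa [Nat.mul_div_cancel' h2k])
    have hhk : h ^ k = 1 := by
      rw [← Nat.mul_div_cancel' h2k, pow_mul, sq, hsq, ← map_pow]
      exact rho_scalar p hK (by omega) hc
    obtain ⟨x, hx⟩ := exists_toMat p n hK ⟨g, Or.inr hh⟩
    have := ok_of_dvd (p := p) (toMat p n hK) (toMat_injective p n hK (a₁ := x ^ k) (a₂ := 1)
      (by rw [map_pow, hx, hhk, map_one])) (dvd_refl (p * k))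
    rw [hx] at this
    exact ⟨_, hmem, by rw [← hx, ← map_pow, this.1, map_one], this.2⟩
  rcases root_exp p ha hat n (by rw [← map_pow]; exact congrArg ι ((iterateFrobenius_def p n _).symm.trans htr))
    with h' | h'
  · exact hk _ h' h2 (by simp [bigs, hq])
  · exact hk _ h' hqo.add_one.two_dvd (by simp [bigs, hq])

include hK in
theorem rho_ne_tau (g : SL(2, K)) : rho p n g ≠ tau := by
  intro h
  have h1 := congrFun (congrFun h (0, 1)) (1, 0)
  have h2 := congrFun (congrFun h (0, 0)) (1, 1)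
  simp [rho, tau, Matrix.kroneckerMap_apply, Matrix.one_apply] at h1 h2
  have h3 : g.1 0 1 = 0 := by
    first | exact h2 | exact h2.symm | simpa using h2
  simp [h3] at h1

include hK in
theorem kernel {g : SL(2, K)} (h : rho p n g = 1) : g ^ 2 = 1 := by
  obtain ⟨c, hc⟩ := eq_scalar_of_kron_eq_one 0 0 h
  simpa using pow_two_mul_eq_one g (k := 1) (c := c) (by rw [pow_one, hc])

include hK in
theorem low_outer (hn : 0 < n) (g : SL(2, K)) (b : Bool) (v : I → K) (hv0 : v ≠ 0)
    (hfix : (rho p n g * tau) *ᵥ v = v)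
    (hord : ∀ j, (g * tw p n g) ^ (2 * j) = 1 → (if b then p ^ n + 1 else p ^ n - 1) ∣ 2 * j) :
    ∀ k, (rho p n g * tau) ^ k = 1 → ∑ i ∈ Finset.range k, (rho p n g * tau) ^ i = 0 →
      p * (if b then p ^ n + 1 else p ^ n - 1) ∣ k := by
  intro k hk hs
  have hsum : ((k : K)) • v = 0 := by
    have hall : ∀ i, ((rho p n g * tau) ^ i) *ᵥ v = v := fun i => by
      induction i with
      | zero => simp
      | succ i ih => rw [pow_succ, ← Matrix.mulVec_mulVec, hfix, ih]
    have := congrArg (fun A => A *ᵥ v) hs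
    simp only [Matrix.sum_mulVec, hall, Finset.sum_const, Finset.card_range, Matrix.zero_mulVec] at this
    rwa [Nat.cast_smul_eq_nsmul]
  have hpk : p ∣ k := (CharP.cast_eq_zero_iff K p k).1 ((smul_eq_zero.1 hsum).resolve_right hv0)
  have hsq := rho_tau_sq p hK g
  obtain ⟨j, rfl | rfl⟩ := Nat.even_or_odd' k
  · rw [pow_mul, sq, hsq, ← map_pow] at hk
    have h2 := kernel p hK hk
    rw [← pow_mul, mul_comm] at h2
    refine Nat.Coprime.mul_dvd_of_dvd_of_dvd ?_ hpk (hord j h2)
    refine (Fact.out : p.Prime).coprime_iff_not_dvd.2 fun hd => ?_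
    have hpq : p ∣ p ^ n := dvd_pow_self p hn.ne'
    have h0 := Nat.pow_pos (n := n) (Fact.out : p.Prime).pos
    cases b
    · simp only [Bool.false_eq_true, if_false] at hd
      have := Nat.dvd_sub hpq hd
      rw [show p ^ n - (p ^ n - 1) = 1 by omega] at this
      exact (Fact.out : p.Prime).not_dvd_one this
    · simp only [if_true] at hd
      exact (Fact.out : p.Prime).not_dvd_one ((Nat.dvd_add_right hpq).1 hd)
  · exfalso
    rw [pow_succ, pow_mul, sq, hsq, ← map_pow, ← mul_assoc, ← map_mul] at hk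
    refine rho_ne_tau p hK ((g * tw p n g) ^ j * g) ?_
    calc rho p n ((g * tw p n g) ^ j * g) = rho p n ((g * tw p n g) ^ j * g) * (tau * tau) := by
          rw [tau_sq, mul_one]
      _ = tau := by rw [← mul_assoc, hk, one_mul]

/-- The vector with the given four coordinates. -/
def vec (a b c d : K) : I → K := fun i => !![a, b; c, d] i.1 i.2

include hK L ι in
/-- Arbitrarily large groups with the orders of `PSp(4, p ^ n)`. -/
theorem exists_large (hp : 5 ≤ p) (hn : 0 < n) (N : ℕ) :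
    ∃ (H : Type) (_ : Group H) (_ : Fintype H), N < Fintype.card H ∧
      Set.range (orderOf : H → ℕ) = orders p (p ^ n) := by
  have hin := toMat_injective p n hK
  refine of_module (toMat p n hK) (fun x => ?_) (fun M hM => ?_) N
  · obtain ⟨g, hg⟩ := x.2
    change toMat p n hK x = _ ∨ toMat p n hK x = _ at hg
    rcases hg with hg | hg
    · obtain ⟨M, hM, e1, e2⟩ := up_inner p hK L ι hp hn g
      exact ⟨M, hM, hin (by rw [map_pow, hg, e1, map_one]), by rw [hg, e2]⟩
    · obtain ⟨M, hM, e1, e2⟩ := up_outer p hK L ι hp hn g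
      exact ⟨M, hM, hin (by rw [map_pow, hg, e1, map_one]), by rw [hg, e2]⟩
  · set q := p ^ n with hq
    have hqo : Odd q := ((Fact.out : p.Prime).odd_of_ne_two (by omega)).pow
    have hq2 : 2 ≤ q := le_trans (Fact.out : p.Prime).two_le (Nat.le_self_pow hn.ne' p)
    have hq0 : q ≠ 0 := by omega
    obtain ⟨a, ha⟩ := IsCyclic.exists_ofOrder_eq_natCard (α := Kˣ)
    rw [Nat.card_units, ← Fintype.card_eq_nat_card, hK] at ha
    have hfac : q ^ 2 - 1 = (q - 1) * (q + 1) := by rw [mul_comm, ← Nat.sq_sub_sq, one_pow]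
    have ha1 : (a : K) ^ (q ^ 2) = a := by rw [← hK, FiniteField.pow_card]
    have houter : ∀ (g : SL(2, K)) (b : Bool) (v : I → K), v ≠ 0 → (rho p n g * tau) *ᵥ v = v →
        (∀ j, (g * tw p n g) ^ (2 * j) = 1 → (if b then q + 1 else q - 1) ∣ 2 * j) →
        ∃ x : X p n hK, ∀ k, x ^ k = 1 → ∑ i ∈ Finset.range k, toMat p n hK x ^ i = 0 →
          p * (if b then q + 1 else q - 1) ∣ k := by
      intro g b v hv0 hfix hord
      obtain ⟨x, hx⟩ := exists_toMat p n hK ⟨g, Or.inr rfl⟩
      refine ⟨x, fun k hk hs => low_outer p hK hn g b v hv0 hfix hord k ?_ (hx ▸ hs)⟩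
      rw [← hx, ← map_pow, hk, map_one]
    have hinner : ∀ (g : SL(2, K)) (M : ℕ), (∀ k, g ^ (2 * k) = 1 → 2 * M ∣ 2 * k) →
        ∃ x : X p n hK, ∀ k, x ^ k = 1 → ∑ i ∈ Finset.range k, toMat p n hK x ^ i = 0 → M ∣ k := by
      intro g M hg
      obtain ⟨x, hx⟩ := exists_toMat p n hK ⟨g, Or.inl rfl⟩
      refine ⟨x, fun k hk _ => Nat.dvd_of_mul_dvd_mul_left two_pos (hg k ?_)⟩
      have := congrArg (toMat p n hK) hk
      rw [map_pow, hx, map_one, ← map_pow] at this
      rw [mul_comm, pow_mul]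
      exact kernel p hK this
    have hnot3 : p ≠ 3 := by omega
    simp only [bigs, hnot3, if_false, List.append_nil, List.mem_cons, List.not_mem_nil, or_false] at hM
    rcases hM with rfl | rfl | rfl | rfl
    · obtain ⟨g, hg⟩ := exists_nonsplit (K := K)
      refine hinner g _ fun k hk => ?_
      rw [Nat.mul_div_cancel' hqo.pow.add_one.two_dvd, ← hK]
      exact hg _ hk
    · refine hinner (PSL2.dd a) _ fun k hk => ?_
      rw [Nat.mul_div_cancel' (Nat.Odd.sub_odd hqo.pow odd_one).two_dvd, ← ha]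
      rw [PSL2.dd_pow, PSL2.dd_eq_one_iff] at hk
      exact orderOf_dvd_of_pow_eq_one hk
    · refine houter (PSL2.dd a) false (vec 0 1 ((a : K) ^ q * (a : K)⁻¹) 0) (fun h => ?_) ?_ fun j hj => ?_
      · simpa [vec] using congrFun h (0, 1)
      · rw [← Matrix.mulVec_mulVec]
        funext ⟨i, j⟩
        fin_cases i <;> fin_cases j <;>
          simp [Matrix.mulVec, dotProduct, Fintype.sum_prod_type, Fin.sum_univ_two, rho, tau, vec, PSL2.dd,
            iterateFrobenius_def, Matrix.kroneckerMap_apply, Matrix.one_apply, ← hq, hq0]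
        all_goals first | ring1 | (field_simp)
      · have e : PSL2.dd a * tw p n (PSL2.dd a) = PSL2.dd (a ^ (q + 1)) := by
          apply Subtype.ext
          show (PSL2.dd a).1 * (PSL2.dd a).1.map (frob p n) = _
          ext i j
          fin_cases i <;> fin_cases j <;>
            simp [Matrix.mul_apply, Fin.sum_univ_two, PSL2.dd, tw,
              Matrix.SpecialLinearGroup.map_apply_coe, iterateFrobenius_def, ← hq, pow_succ', hq0, mul_comm]
        rw [e, PSL2.dd_pow, PSL2.dd_eq_one_iff, ← pow_mul] at hj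
        have := orderOf_dvd_of_pow_eq_one hj
        rw [ha, hfac, mul_comm (q - 1)] at this
        simpa using Nat.dvd_of_mul_dvd_mul_left (by omega) this
    · set c : Kˣ := a * (a ^ q)⁻¹ with hc
      have hg : (PSL2.dd a * PSL2.ww).1 = !![0, (a : K); -(a : K)⁻¹, 0] := by
        rw [Matrix.SpecialLinearGroup.coe_mul]
        ext i j
        fin_cases i <;> fin_cases j <;>
          simp [Matrix.mul_apply, Fin.sum_univ_two, PSL2.dd, PSL2.ww]
      refine houter (PSL2.dd a * PSL2.ww) true (vec 1 0 0 ((a : K) * (a : K) ^ q)⁻¹) (fun h => ?_) ?_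
        fun j hj => ?_
      · simpa [vec] using congrFun h (0, 0)
      · rw [← Matrix.mulVec_mulVec]
        funext ⟨i, j⟩
        fin_cases i <;> fin_cases j <;>
          simp [Matrix.mulVec, dotProduct, Fintype.sum_prod_type, Fin.sum_univ_two, rho, tau, vec, hg,
            iterateFrobenius_def, Matrix.kroneckerMap_apply, Matrix.one_apply, ← hq, hq0, hqo.neg_pow]
        all_goals first | ring1 | (field_simp)
      · have e : PSL2.dd a * PSL2.ww * tw p n (PSL2.dd a * PSL2.ww) = -PSL2.dd c := by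
          apply Subtype.ext
          show (PSL2.dd a * PSL2.ww).1 * (PSL2.dd a * PSL2.ww).1.map (frob p n) = -(PSL2.dd c).1
          rw [hg]
          ext i j
          fin_cases i <;> fin_cases j <;>
            simp [Matrix.mul_apply, Fin.sum_univ_two, PSL2.dd, tw,
              Matrix.SpecialLinearGroup.map_apply_coe, iterateFrobenius_def, ← hq, hc, hq0, hqo.neg_pow, mul_comm]
        rw [e, (even_two_mul j).neg_pow, PSL2.dd_pow, PSL2.dd_eq_one_iff, hc, mul_pow, inv_pow,
          mul_inv_eq_one, ← pow_mul] at hj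
        have h1 : a ^ ((q - 1) * (2 * j)) = 1 := by
          refine mul_right_cancel (b := a ^ (2 * j)) ?_
          rw [← pow_add, one_mul, show (q - 1) * (2 * j) + 2 * j = q * (2 * j) by
            rw [← Nat.succ_mul, show (q - 1).succ = q by omega]]
          exact hj.symm
        have := orderOf_dvd_of_pow_eq_one h1
        rw [ha, hfac] at this
        simpa using Nat.dvd_of_mul_dvd_mul_left (by omega) this

end Cfsg.Agent.Spectrum.PSpFour.Big
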