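import Cfsg.Agent.Lib.Spectrum.PSpFourBig

/-!
The groups `W ^ k ⋊ S₅`, `W` built from the twisted deleted permutation module over `𝔽₃`, have the element orders
of `PSp(4, 3)`.
-/

set_option autoImplicit false
set_option maxHeartbeats 400000

open Matrix
open Cfsg.Agent.Spectrum.MatrixModule

namespace Cfsg.Agent.Spectrum.PSpFour.Five

local instance : Fact (Nat.Prime 3) := ⟨Nat.prime_three⟩

/-- The permutation matrix. -/
def perm (g : Equiv.Perm (Fin 5)) : Matrix (Fin 5) (Fin 5) (ZMod 3) :=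
  Matrix.of fun i j => if g j = i then 1 else 0

/-- The basis `eⱼ - e₄` of the vectors with zero sum. -/
def emb : Matrix (Fin 5) (Fin 4) (ZMod 3) :=
  Matrix.of fun i j => if i = j.castSucc then 1 else if i = 4 then -1 else 0

/-- The first four coordinates. -/
def proj : Matrix (Fin 4) (Fin 5) (ZMod 3) := Matrix.of fun i j => if i.castSucc = j then 1 else 0

/-- The matrix `e₄ ⊗ (1, 1, 1, 1, 1)`. -/
def last : Matrix (Fin 5) (Fin 5) (ZMod 3) := Matrix.of fun i _ => if i = 4 then 1 else 0

theorem emb_proj : emb * proj = 1 - last := by decide +kernel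

theorem last_emb : last * emb = 0 := by decide +kernel

theorem last_perm (g : Equiv.Perm (Fin 5)) : last * perm g = last := by
  ext i j; simp [last, perm, Matrix.mul_apply]

theorem perm_mul (g h : Equiv.Perm (Fin 5)) : perm (g * h) = perm g * perm h := by
  ext i j
  simp only [perm, Matrix.mul_apply, Matrix.of_apply, mul_ite, mul_one, mul_zero, Finset.sum_ite_eq,
    Finset.mem_univ, if_true, Equiv.Perm.mul_apply]
  congr

/-- The deleted permutation module. -/
def deleted (g : Equiv.Perm (Fin 5)) : Matrix (Fin 4) (Fin 4) (ZMod 3) := proj * perm g * emb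

theorem deleted_mul (g h : Equiv.Perm (Fin 5)) : deleted g * deleted h = deleted (g * h) := by
  have h0 : last * (perm h * emb) = 0 := by rw [← Matrix.mul_assoc, last_perm, last_emb]
  calc deleted g * deleted h = proj * perm g * ((emb * proj) * (perm h * emb)) := by
        simp only [deleted, Matrix.mul_assoc]
    _ = deleted (g * h) := by
        rw [emb_proj, Matrix.sub_mul, h0, sub_zero, Matrix.one_mul, deleted, perm_mul]
        simp only [Matrix.mul_assoc]

/-- The sign-twisted deleted permutation module. -/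
def rho : Equiv.Perm (Fin 5) →* Matrix (Fin 4) (Fin 4) (ZMod 3) where
  toFun g := ((Equiv.Perm.sign g : ℤ) : ZMod 3) • deleted g
  map_one' := by
    have : deleted 1 = 1 := by decide +kernel
    simp [this]
  map_mul' g h := by
    rw [smul_mul_smul_comm, deleted_mul, map_mul, Units.val_mul, Int.cast_mul]

theorem sums : ∀ g : Equiv.Perm (Fin 5), g ^ 4 = 1 ∨ g ^ 3 = 1 ∨
    (g ^ 5 = 1 ∧ ∑ i ∈ Finset.range 5, rho g ^ i = 0) ∨
    (g ^ 6 = 1 ∧ ∑ i ∈ Finset.range 6, rho g ^ i = 0) := by
  decide +kernel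

/-- A five-cycle. -/
def c5 : Equiv.Perm (Fin 5) := finRotate 5

/-- An element of order six. -/
def c6 : Equiv.Perm (Fin 5) := Equiv.swap 0 1 * (Equiv.swap 2 3 * Equiv.swap 3 4)

/-- A four-cycle. -/
def c4 : Equiv.Perm (Fin 5) := Equiv.swap 0 1 * (Equiv.swap 1 2 * Equiv.swap 2 3)

/-- A three-cycle. -/
def c3 : Equiv.Perm (Fin 5) := Equiv.swap 2 3 * Equiv.swap 3 4

/-- Arbitrarily large groups with the orders of `PSp(4, 3)`. -/
theorem exists_large (N : ℕ) :
    ∃ (H : Type) (_ : Group H) (_ : Fintype H), N < Fintype.card H ∧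
      Set.range (orderOf : H → ℕ) = orders 3 3 := by
  refine of_module rho (fun g => ?_) (fun M hM => ?_) N
  · rcases sums g with h | h | ⟨h, h'⟩ | ⟨h, h'⟩
    · exact ⟨12, by simp [bigs], ok_of_dvd (p := 3) rho h dvd_rfl⟩
    · exact ⟨9, by simp [bigs], ok_of_dvd (p := 3) rho h dvd_rfl⟩
    · exact ⟨5, by simp [bigs], h, h'⟩
    · exact ⟨6, by simp [bigs], h, h'⟩
  have hord : ∀ (g : Equiv.Perm (Fin 5)) (m : ℕ), 0 < m → g ^ m = 1 → (∀ j < m, 0 < j → g ^ j ≠ 1) →
      orderOf g = m := fun g m h0 h1 h2 => (orderOf_eq_iff h0).2 ⟨h1, h2⟩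
  simp [bigs] at hM
  have h4 : orderOf c4 = 4 := hord _ _ (by norm_num) (by decide +kernel) (by decide +kernel)
  rcases hM with rfl | rfl | rfl | rfl | rfl
  · exact ⟨c5, fun k hk _ => hord c5 5 (by norm_num) (by decide +kernel) (by decide +kernel) ▸
      orderOf_dvd_of_pow_eq_one hk⟩
  · exact ⟨c4, fun k hk _ => h4 ▸ orderOf_dvd_of_pow_eq_one hk⟩
  · exact ⟨c6, fun k hk _ => hord c6 6 (by norm_num) (by decide +kernel) (by decide +kernel) ▸
      orderOf_dvd_of_pow_eq_one hk⟩
  · exact ⟨c4, mul_dvd_of_sum (p := 3) rho h4 (by decide +kernel)⟩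
  · exact ⟨c3, mul_dvd_of_sum (p := 3) rho (hord c3 3 (by norm_num) (by decide +kernel) (by decide +kernel))
      (by decide +kernel)⟩

end Cfsg.Agent.Spectrum.PSpFour.Five
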