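import Cfsg.Agent.Lib.Spectrum.PSpFourBig

/-!
For `q = 3 ^ n` with `n` even: the groups `W ^ k ⋊ L₂(q²)`, `W` built from the sixteen-dimensional module
`V ⊗ V ⊗ V^(q) ⊗ V^(3q)`, have the element orders of `PSp(4, q)`.
-/

set_option autoImplicit false
set_option maxHeartbeats 400000

open Matrix
open scoped MatrixGroups Kronecker
open Cfsg.Agent.Spectrum.SL2Kron Cfsg.Agent.Spectrum.MatrixModule

namespace Cfsg.Agent.Spectrum.PSpFour.Three

abbrev I := Fin 2 × (Fin 2 × (Fin 2 × Fin 2))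

variable {K : Type} [Field K] [CharP K 3] (n : ℕ)

local instance : Fact (Nat.Prime 3) := ⟨Nat.prime_three⟩

/-- The Frobenius `x ↦ x ^ q`. -/
abbrev fq : K →+* K := iterateFrobenius K 3 n

/-- The Frobenius `x ↦ x ^ (3 q)`. -/
abbrev fq3 : K →+* K := iterateFrobenius K 3 (n + 1)

/-- The sixteen-dimensional representation. -/
def rho : SL(2, K) →* Matrix I I K where
  toFun g := g.1 ⊗ₖ (g.1 ⊗ₖ (g.1.map (fq n) ⊗ₖ g.1.map (fq3 n)))
  map_one' := by simp
  map_mul' g h := by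
    simp only [← Matrix.mul_kronecker_mul, Matrix.SpecialLinearGroup.coe_mul, Matrix.map_mul]

/-- The image group. -/
abbrev X : Subgroup (Matrix I I K)ˣ := (rho (K := K) n).toHomUnits.range

/-- The matrix of an element of `X`. -/
def toMat : X (K := K) n →* Matrix I I K := (Units.coeHom _).comp (X n).subtype

theorem toMat_injective : Function.Injective (toMat (K := K) n) := fun _ _ h => Subtype.ext (Units.ext h)

theorem exists_toMat (g : SL(2, K)) : ∃ x : X (K := K) n, toMat n x = rho n g :=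
  ⟨⟨_, g, rfl⟩, rfl⟩

theorem rho_scalar {g : SL(2, K)} {c : K} (h : g.1 = c • 1) : rho n g = 1 := by
  have hc := sq_one_of_scalar g h
  have hm : ∀ e, (c • (1 : Matrix (Fin 2) (Fin 2) K)).map (iterateFrobenius K 3 e) = c • 1 := fun e => by
    ext i j
    have hce : iterateFrobenius K 3 e c = c := by
      rw [iterateFrobenius_def, pow_eq_of_sq hc (by decide : Odd 3).pow]
    by_cases hij : i = j <;> simp [hij, hce]
  show g.1 ⊗ₖ (g.1 ⊗ₖ (g.1.map (fq n) ⊗ₖ g.1.map (fq3 n))) = 1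
  rw [h, hm, hm]
  simp only [Matrix.smul_kronecker, Matrix.kronecker_smul, Matrix.one_kronecker_one, smul_smul, hc, one_mul,
    mul_one, one_smul]

/-- The exponents of the weights. -/
theorem weight_arith {o q e₁ e₂ e₃ e₄ : ℤ} (h1 : e₁ = 1 ∨ e₁ = -1) (h2 : e₂ = 1 ∨ e₂ = -1)
    (h3 : e₃ = 1 ∨ e₃ = -1) (h4 : e₄ = 1 ∨ e₄ = -1) (hq3 : 3 ∣ q) (hq2 : ¬ (2 : ℤ) ∣ q) (hq5 : 5 ∣ q ^ 2 - 1)
    (ho : o ∣ q ^ 2 - 1 ∨ o ∣ q ^ 2 + 1) (hw : o ∣ e₁ + e₂ + e₃ * q + e₄ * (3 * q)) :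
    o ∣ 2 * (q - 1) ∨ o ∣ 2 * (q + 1) := by
  obtain ⟨m, hm⟩ := hq3
  obtain ⟨j, hj⟩ := hq5
  have hev : o ∣ 4 → o ∣ 2 * (q - 1) := fun h => h.trans <| by
    obtain ⟨k, hk⟩ : 2 ∣ q - 1 := by omega
    exact ⟨k, by rw [hk]; ring⟩
  have hA : o ∣ 4 * q → o ∣ 4 := fun h => by
    rcases ho with ho | ho
    · have := dvd_sub (h.mul_left q) (ho.mul_left 4)
      rwa [show q * (4 * q) - 4 * (q ^ 2 - 1) = 4 by ring] at this
    · have := dvd_sub (ho.mul_left 4) (h.mul_left q)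
      rwa [show 4 * (q ^ 2 + 1) - q * (4 * q) = 4 by ring] at this
  have hB : ∀ e : ℤ, e = 1 ∨ e = -1 → o ∣ 4 * q + 2 * e → o ∣ 2 := fun e he h => by
    have he2 : e * e = 1 := by rcases he with rfl | rfl <;> rfl
    rcases ho with ho | ho
    · have h6 : o ∣ 6 := by
        have := dvd_sub (h.mul_left (2 * q - e)) (ho.mul_left 8)
        rwa [show (2 * q - e) * (4 * q + 2 * e) - 8 * (q ^ 2 - 1) = 6 by
          linear_combination (-2 : ℤ) * he2] at this
      have := dvd_sub h (h6.mul_left (2 * m))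
      rw [hm, show 4 * (3 * m) + 2 * e - 2 * m * 6 = 2 * e by ring] at this
      rcases he with rfl | rfl
      · exact this
      · exact dvd_neg.1 this
    · have h10 : o ∣ 10 := by
        have := dvd_sub (ho.mul_left 8) (h.mul_left (2 * q - e))
        rwa [show 8 * (q ^ 2 + 1) - (2 * q - e) * (4 * q + 2 * e) = 10 by
          linear_combination (2 : ℤ) * he2] at this
      have h4 : o ∣ 4 := by
        have := dvd_sub (ho.mul_left 2) (h10.mul_left j)
        rwa [show 2 * (q ^ 2 + 1) - j * 10 = 4 by linear_combination (2 : ℤ) * hj] at this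
      exact dvd_sub h10 (h4.mul_left 2)
  have h22 : o ∣ 2 → o ∣ 2 * (q - 1) := fun h => h.trans (dvd_mul_right _ _)
  have hu : e₁ + e₂ = 2 ∨ e₁ + e₂ = 0 ∨ e₁ + e₂ = -2 := by omega
  have hv : e₃ + 3 * e₄ = 4 ∨ e₃ + 3 * e₄ = 2 ∨ e₃ + 3 * e₄ = -2 ∨ e₃ + 3 * e₄ = -4 := by omega
  rw [show e₁ + e₂ + e₃ * q + e₄ * (3 * q) = (e₁ + e₂) + (e₃ + 3 * e₄) * q by ring] at hw
  rcases hu with hu | hu | hu <;> rcases hv with hv | hv | hv | hv <;> rw [hu, hv] at hw
  · exact Or.inl (h22 (hB 1 (Or.inl rfl) (by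
      rwa [show 4 * q + 2 * 1 = 2 + 4 * q by ring])))
  · exact Or.inr (by rwa [show 2 * (q + 1) = 2 + 2 * q by ring])
  · exact Or.inl (by rw [show 2 * (q - 1) = -(2 + -2 * q) by ring]; exact dvd_neg.2 hw)
  · exact Or.inl (h22 (hB (-1) (Or.inr rfl) (by
      rw [show 4 * q + 2 * -1 = -(2 + -4 * q) by ring]; exact dvd_neg.2 hw)))
  · exact Or.inl (hev (hA (by rwa [show 4 * q = 0 + 4 * q by ring])))
  · exact Or.inl (hev (hA (by rw [show 4 * q = 2 * (0 + 2 * q) by ring]; exact hw.mul_left 2)))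
  · exact Or.inl (hev (hA (by rw [show 4 * q = -2 * (0 + -2 * q) by ring]; exact hw.mul_left _)))
  · exact Or.inl (hev (hA (by rw [show 4 * q = -(0 + -4 * q) by ring]; exact dvd_neg.2 hw)))
  · exact Or.inl (h22 (hB (-1) (Or.inr rfl) (by
      rwa [show 4 * q + 2 * -1 = -2 + 4 * q by ring])))
  · exact Or.inl (by rwa [show 2 * (q - 1) = -2 + 2 * q by ring])
  · exact Or.inr (by rw [show 2 * (q + 1) = -(-2 + -2 * q) by ring]; exact dvd_neg.2 hw)
  · exact Or.inl (h22 (hB 1 (Or.inl rfl) (by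
      rw [show 4 * q + 2 * 1 = -(-2 + -4 * q) by ring]; exact dvd_neg.2 hw)))

variable [Fintype K] (hK : Fintype.card K = (3 ^ n) ^ 2)
variable (L : Type*) [Field L] [IsAlgClosed L] (ι : K →+* L)

include hK L ι in
theorem up (hn : Even n) (hn0 : 0 < n) (g : SL(2, K)) :
    ∃ M ∈ bigs 3 (3 ^ n), rho n g ^ M = 1 ∧ ∑ i ∈ Finset.range M, rho n g ^ i = 0 := by
  set q := 3 ^ n with hq
  have hqo : Odd q := (by decide : Odd 3).pow
  obtain ⟨x, hx⟩ := exists_toMat n g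
  have hok : ∀ k M, rho n g ^ k = 1 → 3 * k ∣ M → rho n g ^ M = 1 ∧ ∑ i ∈ Finset.range M, rho n g ^ i = 0 := by
    intro k M hk hM
    have := ok_of_dvd (p := 3) (toMat n) (toMat_injective n (a₁ := x ^ k) (a₂ := 1)
      (by rw [map_pow, hx, hk, map_one])) hM
    rw [hx] at this
    exact ⟨by rw [← hx, ← map_pow, this.1, map_one], this.2⟩
  rcases cases L ι g with ⟨c, hc, h⟩ | ⟨a, ha, ha2, hat⟩
  · refine ⟨9, by simp [bigs], hok 3 9 ?_ (by norm_num)⟩
    rw [← map_pow]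
    exact rho_scalar n (pow_p_scalar 3 (by norm_num) g hc h)
  have : CharP L 3 := charP_of_injective_ringHom ι.injective 3
  have hrp : ∀ k, a ^ (2 * k) = 1 → rho n g ^ k = 1 := fun k hk => by
    obtain ⟨c, hc⟩ := exists_scalar_of_pow ι g ha ha2 hat hk
    rw [← map_pow]; exact rho_scalar n hc
  have hQ : ι g.1.trace ^ 3 ^ (n * 2) = ι g.1.trace := by rw [pow_mul, ← hK, ← map_pow, FiniteField.pow_card]
  have hexp := root_exp 3 ha hat (n * 2) hQ
  rw [pow_mul, ← hq] at hexp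
  by_cases hf : Fpf (rho n g)
  · have hpow : ∀ b : Bool, a ^ (if b then q ^ 2 + 1 else q ^ 2 - 1) = 1 →
        rho n g ^ ((if b then q ^ 2 + 1 else q ^ 2 - 1) / 2) = 1 := fun b hb => by
      refine hrp _ ?_
      rwa [Nat.mul_div_cancel' ?_]
      cases b
      · exact (Nat.Odd.sub_odd hqo.pow odd_one).two_dvd
      · exact (hqo.pow.add_one).two_dvd
    rcases hexp with h | h
    · exact ⟨_, by simp [bigs], hpow false (by simpa using h), sum_eq_zero_of_fpf hf (hpow false (by simpa using h))⟩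
    · exact ⟨_, by simp [bigs], hpow true (by simpa using h), sum_eq_zero_of_fpf hf (hpow true (by simpa using h))⟩
  have hne : ¬ ∀ e₁ e₂ e₃ e₄ : ℤ, (e₁ = 1 ∨ e₁ = -1) → (e₂ = 1 ∨ e₂ = -1) → (e₃ = 1 ∨ e₃ = -1) →
      (e₄ = 1 ∨ e₄ = -1) → a ^ (e₁ + e₂ + e₃ * q + e₄ * (3 * q : ℤ)) ≠ 1 := by
    intro hall
    apply hf
    have hA := quad_root ι g ha hat
    have hB := quad_root (ι.comp (fq n)) g (pow_ne_zero q ha) (by
      rw [RingHom.comp_apply, iterateFrobenius_def, map_pow, ← hat, hq, add_pow_char_pow, inv_pow])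
    have hC := quad_root (ι.comp (fq3 n)) g (pow_ne_zero (3 * q) ha) (by
      rw [RingHom.comp_apply, iterateFrobenius_def, map_pow, ← hat,
        show 3 * q = 3 ^ (n + 1) by rw [hq, pow_succ']]
      rw [add_pow_char_pow, inv_pow])
    have hne1 : a ≠ a⁻¹ := fun e => ha2 (by rw [sq]; nth_rw 2 [e]; exact mul_inv_cancel₀ ha)
    have hne2 : a ^ q ≠ (a ^ q)⁻¹ := fun e => ha2 (by
      have h1 : (a ^ 2) ^ 3 ^ n = 1 ^ 3 ^ n := by
        rw [one_pow, ← pow_mul, mul_comm, pow_mul, ← hq, sq]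
        nth_rw 2 [e]
        exact mul_inv_cancel₀ (pow_ne_zero q ha)
      exact iterateFrobenius_inj L 3 n (by simpa [iterateFrobenius_def] using h1))
    have hroot : ∀ (x : L) (s : L), s = x ∨ s = x⁻¹ → ∃ e : ℤ, (e = 1 ∨ e = -1) ∧ s = x ^ e := by
      rintro x s (rfl | rfl)
      · exact ⟨1, Or.inl rfl, (zpow_one _).symm⟩
      · exact ⟨-1, Or.inr rfl, (_root_.zpow_neg_one _).symm⟩
    refine fpf_of_map ι ?_
    rw [show (rho n g).map ι = g.1.map ι ⊗ₖ (g.1.map ι ⊗ₖ (g.1.map (ι.comp (fq n)) ⊗ₖ g.1.map (ι.comp (fq3 n)))) from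
      Matrix.ext fun i j => by
        show ι (_ * (_ * (_ * _))) = _ * (_ * (_ * _))
        rw [map_mul, map_mul, map_mul]
        rfl]
    have key : ∀ s₁, s₁ = a ∨ s₁ = a⁻¹ → ∀ s₂, s₂ = a ∨ s₂ = a⁻¹ → ∀ s₃, s₃ = a ^ q ∨ s₃ = (a ^ q)⁻¹ →
        Fpf (s₃ • s₂ • s₁ • g.1.map (ι.comp (fq3 n))) := by
      intro s₁ h₁ s₂ h₂ s₃ h₃
      obtain ⟨e₁, he₁, rfl⟩ := hroot _ _ h₁
      obtain ⟨e₂, he₂, rfl⟩ := hroot _ _ h₂
      obtain ⟨e₃, he₃, rfl⟩ := hroot _ _ h₃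
      rw [smul_smul, smul_smul]
      have hx : ∀ e₄ : ℤ, (e₄ = 1 ∨ e₄ = -1) →
          (a ^ q) ^ e₃ * a ^ e₂ * a ^ e₁ * (a ^ (3 * q)) ^ e₄ ≠ 1 := fun e₄ he₄ h => by
        refine hall e₁ e₂ e₃ e₄ he₁ he₂ he₃ he₄ ?_
        rw [← zpow_natCast a q, ← zpow_natCast a (3 * q), ← _root_.zpow_mul, ← _root_.zpow_mul, ← zpow_add₀ ha,
          ← zpow_add₀ ha, ← zpow_add₀ ha] at h
        rw [← h]
        congr 1
        push_cast
        ring
      exact fpf_of_quad hC (by simpa using hx 1 (Or.inl rfl)) (by simpa using hx (-1) (Or.inr rfl))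
    have k2 : ∀ s₁, s₁ = a ∨ s₁ = a⁻¹ → ∀ s₂, s₂ = a ∨ s₂ = a⁻¹ →
        Fpf (s₂ • s₁ • (g.1.map (ι.comp (fq n)) ⊗ₖ g.1.map (ι.comp (fq3 n)))) := fun s₁ h₁ s₂ h₂ => by
      rw [← Matrix.kronecker_smul, ← Matrix.kronecker_smul]
      exact fpf_kron hne2 hB (key s₁ h₁ s₂ h₂ _ (Or.inl rfl)) (key s₁ h₁ s₂ h₂ _ (Or.inr rfl))
    have k1 : ∀ s₁, s₁ = a ∨ s₁ = a⁻¹ →
        Fpf (s₁ • (g.1.map ι ⊗ₖ (g.1.map (ι.comp (fq n)) ⊗ₖ g.1.map (ι.comp (fq3 n))))) := fun s₁ h₁ => by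
      rw [← Matrix.kronecker_smul]
      exact fpf_kron hne1 hA (k2 s₁ h₁ _ (Or.inl rfl)) (k2 s₁ h₁ _ (Or.inr rfl))
    exact fpf_kron hne1 hA (k1 _ (Or.inl rfl)) (k1 _ (Or.inr rfl))
  push Not at hne
  obtain ⟨e₁, e₂, e₃, e₄, he₁, he₂, he₃, he₄, he⟩ := hne
  have hq1 : 1 ≤ q := Nat.one_le_pow _ _ (by norm_num)
  have hq21 : 1 ≤ q ^ 2 := Nat.one_le_pow _ _ hq1
  have h5 : (5 : ℤ) ∣ (q : ℤ) ^ 2 - 1 := by
    obtain ⟨r, rfl⟩ := hn
    rw [hq, Nat.cast_pow, ← pow_mul, show (r + r) * 2 = 4 * r by ring, pow_mul]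
    refine dvd_trans ?_ (sub_one_dvd_pow_sub_one _ r)
    norm_num
  have hor : (orderOf a : ℤ) ∣ (q : ℤ) ^ 2 - 1 ∨ (orderOf a : ℤ) ∣ (q : ℤ) ^ 2 + 1 := by
    rcases hexp with h | h
    · left
      have := Int.natCast_dvd_natCast.2 (orderOf_dvd_of_pow_eq_one h)
      simpa [Nat.cast_sub hq21] using this
    · right
      simpa using Int.natCast_dvd_natCast.2 (orderOf_dvd_of_pow_eq_one h)
  have hw : (orderOf a : ℤ) ∣ e₁ + e₂ + e₃ * q + e₄ * (3 * q) := by
    have hu : (Units.mk0 a ha) ^ (e₁ + e₂ + e₃ * q + e₄ * (3 * q : ℤ)) = 1 :=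
      Units.ext (by simpa using he)
    have := orderOf_dvd_iff_zpow_eq_one.2 hu
    rwa [← orderOf_units, Units.val_mk0] at this
  rcases weight_arith he₁ he₂ he₃ he₄ (by rw [hq, Nat.cast_pow]; exact dvd_pow_self _ hn0.ne')
    (fun hd => hqo.not_two_dvd_nat (by exact_mod_cast hd)) h5 hor hw with h | h
  · refine ⟨3 * (q - 1), by simp [bigs], hok (q - 1) _ (hrp _ ?_) dvd_rfl⟩
    refine orderOf_dvd_iff_pow_eq_one.1 (Int.natCast_dvd_natCast.1 ?_)
    simpa [Nat.cast_sub hq1] using h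
  · refine ⟨3 * (q + 1), by simp [bigs], hok (q + 1) _ (hrp _ ?_) dvd_rfl⟩
    refine orderOf_dvd_iff_pow_eq_one.1 (Int.natCast_dvd_natCast.1 ?_)
    simpa using h

theorem kernel {g : SL(2, K)} (h : rho n g = 1) : g ^ 2 = 1 := by
  obtain ⟨c, hc⟩ := eq_scalar_of_kron_eq_one 0 (0, 0, 0) h
  simpa using pow_two_mul_eq_one g (k := 1) (c := c) (by rw [pow_one, hc])

/-- The basis vectors. -/
def e (i : I) : I → K := Pi.single i 1

include hK L ι in
/-- Arbitrarily large groups with the orders of `PSp(4, 3 ^ n)`, `n` even. -/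
theorem exists_large (hn : Even n) (hn0 : 0 < n) (N : ℕ) :
    ∃ (H : Type) (_ : Group H) (_ : Fintype H), N < Fintype.card H ∧
      Set.range (orderOf : H → ℕ) = orders 3 (3 ^ n) := by
  refine of_module (toMat (K := K) n) (fun x => ?_) (fun M hM => ?_) N
  · obtain ⟨g, hg⟩ := x.2
    have hg' : toMat n x = rho n g := by
      show ((x : (Matrix I I K)ˣ) : Matrix I I K) = _
      rw [← hg]; rfl
    obtain ⟨M, hM, e1, e2⟩ := up n hK L ι hn hn0 g
    exact ⟨M, hM, toMat_injective n (by rw [map_pow, hg', e1, map_one]), by rw [hg', e2]⟩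
  set q := 3 ^ n with hq
  have hqo : Odd q := (by decide : Odd 3).pow
  have hq1 : 3 ≤ q := Nat.le_self_pow hn0.ne' 3
  obtain ⟨a, ha⟩ := IsCyclic.exists_ofOrder_eq_natCard (α := Kˣ)
  rw [Nat.card_units, ← Fintype.card_eq_nat_card, hK] at ha
  have hq0 : q ≠ 0 := by omega
  have hfac : q ^ 2 - 1 = (q - 1) * (q + 1) := by rw [mul_comm, ← Nat.sq_sub_sq, one_pow]
  have hker : ∀ (g : SL(2, K)) (x : X (K := K) n), toMat n x = rho n g → ∀ k, x ^ k = 1 → g ^ (2 * k) = 1 := by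
    intro g x hx k hk
    have := congrArg (toMat n) hk
    rw [map_pow, hx, map_one, ← map_pow] at this
    rw [mul_comm, pow_mul]
    exact kernel n this
  have hinner : ∀ (g : SL(2, K)) (M : ℕ), (∀ k, g ^ (2 * k) = 1 → 2 * M ∣ 2 * k) →
      ∃ x : X (K := K) n, ∀ k, x ^ k = 1 → ∑ i ∈ Finset.range k, toMat n x ^ i = 0 → M ∣ k := by
    intro g M hg
    obtain ⟨x, hx⟩ := exists_toMat n g
    exact ⟨x, fun k hk _ => Nat.dvd_of_mul_dvd_mul_left two_pos (hg k (hker g x hx k hk))⟩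
  have hfixed : ∀ (t : Kˣ) (m : ℕ) (i : I), orderOf t = 2 * m → Nat.Coprime 3 m →
      rho n (PSL2.dd t) *ᵥ e i = e i →
      ∃ x : X (K := K) n, ∀ k, x ^ k = 1 → ∑ j ∈ Finset.range k, toMat n x ^ j = 0 → 3 * m ∣ k := by
    intro t m i ht hco hfix
    obtain ⟨x, hx⟩ := exists_toMat n (PSL2.dd t)
    refine ⟨x, fun k hk hs => Nat.Coprime.mul_dvd_of_dvd_of_dvd hco ?_ ?_⟩
    · have hall : ∀ j, (toMat n x ^ j) *ᵥ e i = e i := fun j => by
        induction j with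
        | zero => simp
        | succ j ih => rw [pow_succ, ← Matrix.mulVec_mulVec, hx, hfix, ← hx, ih]
      have := congrFun (congrArg (fun A => A *ᵥ e i) hs) i
      simp only [Matrix.sum_mulVec, hall, Finset.sum_const, Finset.card_range, Matrix.zero_mulVec] at this
      refine (CharP.cast_eq_zero_iff K 3 k).1 ?_
      simpa [e, nsmul_eq_mul] using this
    · have h2 := hker _ x hx k hk
      rw [PSL2.dd_pow, PSL2.dd_eq_one_iff] at h2
      exact Nat.dvd_of_mul_dvd_mul_left two_pos (ht ▸ orderOf_dvd_of_pow_eq_one h2)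
  have hco : ∀ b : Bool, Nat.Coprime 3 (if b then q + 1 else q - 1) := fun b => by
    have h3 : 3 ∣ q := dvd_pow_self 3 hn0.ne'
    refine Nat.prime_three.coprime_iff_not_dvd.2 fun hd => ?_
    cases b <;> simp at hd <;> omega
  have hroot : ∀ m, m ∣ q ^ 2 - 1 → 0 < m → ∃ t : Kˣ, orderOf t = m := fun m hm hm0 => by
    refine ⟨a ^ (orderOf a / m), ?_⟩
    exact orderOf_pow_orderOf_div (orderOf_pos a).ne' (ha ▸ hm)
  simp only [bigs, if_true, List.cons_append, List.nil_append, List.mem_cons, List.not_mem_nil, or_false] at hM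
  rcases hM with rfl | rfl | rfl | rfl | rfl
  · obtain ⟨g, hg⟩ := exists_nonsplit (K := K)
    refine hinner g _ fun k hk => ?_
    rw [Nat.mul_div_cancel' hqo.pow.add_one.two_dvd, ← hK]
    exact hg _ hk
  · refine hinner (PSL2.dd a) _ fun k hk => ?_
    rw [Nat.mul_div_cancel' (Nat.Odd.sub_odd hqo.pow odd_one).two_dvd, ← ha]
    rw [PSL2.dd_pow, PSL2.dd_eq_one_iff] at hk
    exact orderOf_dvd_of_pow_eq_one hk
  · obtain ⟨t, ht⟩ := hroot (2 * (q - 1)) (by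
      rw [hfac, mul_comm 2]; exact Nat.mul_dvd_mul_left _ hqo.add_one.two_dvd) (by omega)
    refine hfixed t _ (1, 1, 1, 0) ht (by simpa using hco false) ?_
    have h1 : (t : K) ^ (2 * (q - 1)) = 1 := by rw [← Units.val_pow_eq_pow_val, ← ht, pow_orderOf_eq_one]; rfl
    funext ⟨i, j, k, l⟩
    fin_cases i <;> fin_cases j <;> fin_cases k <;> fin_cases l <;>
      simp [Matrix.mulVec, dotProduct, rho, e, Pi.single_apply, PSL2.dd, Matrix.kroneckerMap_apply,
        iterateFrobenius_def, ← hq, hq0]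
    rw [show 3 ^ (n + 1) = 2 + q + 2 * (q - 1) by rw [pow_succ, ← hq]; omega, pow_add, h1, mul_one, pow_add]
    field_simp
  · obtain ⟨t, ht⟩ := hroot (2 * (q + 1)) (by
      rw [hfac]; exact Nat.mul_dvd_mul_right (Nat.Odd.sub_odd hqo odd_one).two_dvd _) (by omega)
    refine hfixed t _ (0, 0, 1, 0) ht (by simpa using hco true) ?_
    have h1 : (t : K) ^ (2 * (q + 1)) = 1 := by rw [← Units.val_pow_eq_pow_val, ← ht, pow_orderOf_eq_one]; rfl
    funext ⟨i, j, k, l⟩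
    fin_cases i <;> fin_cases j <;> fin_cases k <;> fin_cases l <;>
      simp [Matrix.mulVec, dotProduct, rho, e, Pi.single_apply, PSL2.dd, Matrix.kroneckerMap_apply,
        iterateFrobenius_def, ← hq, hq0]
    field_simp
    rw [show 3 ^ (n + 1) = q + q + q by rw [pow_succ, ← hq]; omega, pow_add, pow_add]
    rw [show 2 * (q + 1) = q + q + 2 by omega, pow_add, pow_add] at h1
    linear_combination (t : K) ^ q * h1
  · obtain ⟨x, hx⟩ := exists_toMat n (PSL2.uu (1 : K))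
    have h30 : (3 : K) = 0 := by exact_mod_cast CharP.cast_eq_zero K 3
    refine ⟨x, ?_⟩
    have h3 : x ^ 3 = 1 := toMat_injective n (by
      rw [map_pow, hx, map_one, ← map_pow, PSL2.uu_pow]
      simp [h30, PSL2.uu_zero])
    have hS : ∑ i ∈ Finset.range 3, rho n (PSL2.uu (1 : K)) ^ i ≠ 0 := by
      intro h
      have := congrFun (congrFun h (0, 0, 0, 0)) (1, 1, 0, 0)
      have h2 : (2 : K) ≠ 0 := by
        rw [show (2 : K) = ((2 : ℕ) : K) by norm_num, Ne, CharP.cast_eq_zero_iff K 3]; norm_num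
      simp only [Finset.sum_range_succ, Finset.sum_range_zero, zero_add, ← map_pow, PSL2.uu_pow] at this
      simp [rho, PSL2.uu, Matrix.kroneckerMap_apply] at this
      exact h2 (by linear_combination this - h30)
    have hne : x ≠ 1 := fun h1 => hS (by
      have : rho n (PSL2.uu (1 : K)) = 1 := by rw [← hx, h1, map_one]
      simp [this]; rw [← Nat.cast_ofNat, ← Matrix.diagonal_natCast, Nat.cast_ofNat, h30, Matrix.diagonal_zero])
    exact mul_dvd_of_sum (p := 3) (toMat n) (orderOf_eq_prime h3 hne) (by rwa [hx])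

end Cfsg.Agent.Spectrum.PSpFour.Three
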