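import Cfsg.Agent.Lib.Spectrum.SympCrit
import Cfsg.Agent.Lib.QForm.Classify
import Cfsg.Agent.Lib.Semisimple.OrthBlocks

/-!
Isometries of quadratic spaces over a field of two-power order with prescribed orders: tori, small
unipotent elements, and their orthogonal sums with control of the type.
-/

set_option autoImplicit false

open Module (finrank End)
open Cfsg.Agent.Spectrum.SympCrit

namespace Cfsg.Agent.Spectrum.QuadBlocks

universe u

/-- `-1` for minus type, `1` for plus type. -/
def sgnOf (b : Bool) : ℤ := if b then -1 else 1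

theorem sgnOf_bne (b c : Bool) : sgnOf (b != c) = sgnOf b * sgnOf c := by
  cases b <;> cases c <;> rfl

variable {F : Type u} [Field F] [Fintype F]

/-- An isometry of a nondegenerate quadratic space of dimension `2 * m`, minus type for `b`. -/
structure Blk (F : Type u) [Field F] [Fintype F] where
  V : Type u
  [grp : AddCommGroup V]
  [module : Module F V]
  [fd : FiniteDimensional F V]
  Q : QuadraticForm F V
  f : End F V
  m : ℕ
  b : Bool
  isometry : ∀ x, Q (f x) = Q x
  dim : finrank F V = 2 * m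
  nondeg : (QuadraticMap.polarBilin Q).Nondegenerate
  zeros : (Fintype.card F : ℤ) * Nat.card {v : V // Q v = 0} =
    (Fintype.card F : ℤ) ^ (2 * m) + sgnOf b * ((Fintype.card F : ℤ) - 1) * (Fintype.card F : ℤ) ^ m

attribute [instance] Blk.grp Blk.module Blk.fd

namespace Blk

/-- The even-rank condition. -/
def Ev (B : Blk F) : Prop := Even (finrank F (LinearMap.range (B.f - 1)))

/-- The order of the map is a multiple of `n`. -/
def Per (B : Blk F) (n : ℕ) : Prop := ∀ k : ℕ, B.f ^ k = 1 → n ∣ k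

/-- A vector together with the map gives an element of order a multiple of `n`. -/
def Dbl (B : Blk F) (n : ℕ) : Prop :=
  ∃ v : B.V, ∀ k : ℕ, B.f ^ k = 1 → (∑ i ∈ Finset.range k, (B.f ^ i) v) = 0 → n ∣ k

theorem Per.dbl {B : Blk F} {n : ℕ} (h : B.Per n) : B.Dbl n := ⟨0, fun k hk _ => h k hk⟩

/-- The same space with another isometry. -/
def withMap (B : Blk F) (g : End F B.V) (hg : ∀ x, B.Q (g x) = B.Q x) : Blk F where
  V := B.V
  Q := B.Q
  f := g
  m := B.m
  b := B.b
  isometry := hg
  dim := B.dim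
  nondeg := B.nondeg
  zeros := B.zeros

end Blk

theorem card_fibre_ne_zero [CharP F 2] {V : Type u} [AddCommGroup V] [Module F V]
    (Q : QuadraticForm F V) {c : F} (hc : c ≠ 0) :
    Nat.card {v : V // Q v = c} = Nat.card {v : V // Q v = 1} := by
  obtain ⟨s, rfl⟩ := FiniteField.isSquare_of_char_two (CharP.eq F (ringChar.charP F) inferInstance) c
  have hs : s ≠ 0 := by rintro rfl; simp at hc
  refine (Nat.card_congr (Equiv.subtypeEquiv (LinearEquiv.smulOfUnit (Units.mk0 s hs) : V ≃ₗ[F] V).toEquiv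
    fun v => ?_)).symm
  show Q v = 1 ↔ Q (s • v) = s * s
  rw [QuadraticMap.map_smul, smul_eq_mul, mul_eq_left₀ hc]

theorem zeros_add_ones [CharP F 2] {V : Type u} [AddCommGroup V] [Module F V] [FiniteDimensional F V]
    (Q : QuadraticForm F V) :
    (Nat.card {v : V // Q v = 0} : ℤ) + ((Fintype.card F : ℤ) - 1) * Nat.card {v : V // Q v = 1} =
      (Fintype.card F : ℤ) ^ finrank F V := by
  classical
  have := Module.finite_of_finite (M := V) F
  have h : Nat.card V = ∑ c : F, Nat.card {v : V // Q v = c} := by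
    rw [← Nat.card_sigma, Nat.card_congr (Equiv.sigmaFiberEquiv Q)]
  rw [Module.natCard_eq_pow_finrank (K := F), Nat.card_eq_fintype_card,
    Fintype.sum_eq_add_sum_compl (0 : F),
    Finset.sum_congr rfl (fun c hc => card_fibre_ne_zero Q (by simpa using hc)),
    Finset.sum_const, Finset.card_compl, Finset.card_singleton, smul_eq_mul] at h
  have h' := congrArg (fun n : ℕ => (n : ℤ)) h
  push_cast [Nat.cast_sub Fintype.card_pos] at h'
  linarith

/-- Orthogonal sum. -/
noncomputable def Blk.prod [CharP F 2] (B C : Blk F) : Blk F where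
  V := B.V × C.V
  Q := B.Q.prod C.Q
  f := B.f.prodMap C.f
  m := B.m + C.m
  b := B.b != C.b
  isometry x := by simp [B.isometry, C.isometry]
  dim := by rw [Module.finrank_prod, B.dim, C.dim]; ring
  nondeg := Semisimple.prod_nondegenerate B.nondeg C.nondeg
  zeros := by
    classical
    have := Module.finite_of_finite (M := B.V) F
    have := Module.finite_of_finite (M := C.V) F
    let e : {p : B.V × C.V // (B.Q.prod C.Q) p = 0} ≃
        Σ c : F, {x : B.V // B.Q x = c} × {y : C.V // C.Q y = c} :=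
      { toFun := fun p => ⟨B.Q p.1.1, ⟨p.1.1, rfl⟩, ⟨p.1.2, by
          have h := p.2
          rw [QuadraticMap.prod_apply] at h
          exact (CharTwo.add_eq_zero.1 h).symm⟩⟩
        invFun := fun s => ⟨(s.2.1.1, s.2.2.1), by
          rw [QuadraticMap.prod_apply, s.2.1.2, s.2.2.2, CharTwo.add_self_eq_zero]⟩
        left_inv := fun p => rfl
        right_inv := fun s => by
          obtain ⟨c, ⟨x, hx⟩, ⟨y, hy⟩⟩ := s
          subst hx
          rfl }
    have h : Nat.card {p : B.V × C.V // (B.Q.prod C.Q) p = 0} =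
        Nat.card {x : B.V // B.Q x = 0} * Nat.card {y : C.V // C.Q y = 0} +
          (Fintype.card F - 1) * (Nat.card {x : B.V // B.Q x = 1} * Nat.card {y : C.V // C.Q y = 1}) := by
      rw [Nat.card_congr e, Nat.card_sigma, Fintype.sum_eq_add_sum_compl (0 : F), Nat.card_prod,
        Finset.sum_congr rfl (fun c hc => by
          rw [Nat.card_prod, card_fibre_ne_zero B.Q (by simpa using hc),
            card_fibre_ne_zero C.Q (by simpa using hc)]),
        Finset.sum_const, Finset.card_compl, Finset.card_singleton, smul_eq_mul]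
    have h' := congrArg (fun n : ℕ => (n : ℤ)) h
    push_cast [Nat.cast_sub Fintype.card_pos] at h'
    have hB := zeros_add_ones B.Q
    have hC := zeros_add_ones C.Q
    have hB' := B.zeros
    have hC' := C.zeros
    rw [B.dim] at hB
    rw [C.dim] at hC
    rw [sgnOf_bne, h']
    generalize (Fintype.card F : ℤ) = q at *
    generalize (Nat.card {x : B.V // B.Q x = 0} : ℤ) = z₁ at *
    generalize (Nat.card {y : C.V // C.Q y = 0} : ℤ) = z₂ at *
    generalize (Nat.card {x : B.V // B.Q x = 1} : ℤ) = n₁ at *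
    generalize (Nat.card {y : C.V // C.Q y = 1} : ℤ) = n₂ at *
    generalize sgnOf B.b = s₁ at *
    generalize sgnOf C.b = s₂ at *
    rw [mul_add 2, pow_add, pow_add]
    generalize q ^ (2 * B.m) = a₁ at *
    generalize q ^ (2 * C.m) = a₂ at *
    generalize q ^ B.m = r₁ at *
    generalize q ^ C.m = r₂ at *
    obtain rfl : a₁ = z₁ + (q - 1) * n₁ := hB.symm
    obtain rfl : a₂ = z₂ + (q - 1) * n₂ := hC.symm
    have e₁ : (q - 1) * (z₁ - n₁) = s₁ * (q - 1) * r₁ := by linear_combination hB'
    have e₂ : (q - 1) * (z₂ - n₂) = s₂ * (q - 1) * r₂ := by linear_combination hC'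
    rcases eq_or_ne (q - 1) 0 with hq | hq
    · rw [hq]; rw [show q = 1 by linarith]; ring
    have f₁ : z₁ - n₁ = s₁ * r₁ := mul_left_cancel₀ hq (by linear_combination e₁)
    have f₂ : z₂ - n₂ = s₂ * r₂ := mul_left_cancel₀ hq (by linear_combination e₂)
    linear_combination (q - 1) * (z₂ - n₂) * f₁ + (q - 1) * (s₁ * r₁) * f₂

theorem prod_pow {V : Type*} {W : Type*} [AddCommGroup V] [Module F V] [AddCommGroup W] [Module F W]
    (f : End F V) (g : End F W) (k : ℕ) : (f.prodMap g) ^ k = (f ^ k).prodMap (g ^ k) := by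
  induction k with
  | zero => exact LinearMap.ext fun x => rfl
  | succ k ih =>
    rw [pow_succ, ih, pow_succ f, pow_succ g]
    exact LinearMap.ext fun x => rfl

section Prod

variable [CharP F 2] {B C : Blk F}

theorem prod_pow_eq_one {k : ℕ} (h : (B.prod C).f ^ k = 1) : B.f ^ k = 1 ∧ C.f ^ k = 1 := by
  change (B.f.prodMap C.f) ^ k = 1 at h
  rw [prod_pow] at h
  constructor
  · exact LinearMap.ext fun x => congrArg Prod.fst (LinearMap.congr_fun h (x, 0))
  · exact LinearMap.ext fun y => congrArg Prod.snd (LinearMap.congr_fun h (0, y))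

theorem per_prod {n n' : ℕ} (h : B.Per n) (h' : C.Per n') : (B.prod C).Per (Nat.lcm n n') :=
  fun k hk => Nat.lcm_dvd (h k (prod_pow_eq_one hk).1) (h' k (prod_pow_eq_one hk).2)

theorem dbl_prod {n n' : ℕ} (h : B.Per n) (h' : C.Dbl n') : (B.prod C).Dbl (Nat.lcm n n') := by
  obtain ⟨v, hv⟩ := h'
  refine ⟨((0, v) : B.V × C.V), fun k hk hsum => ?_⟩
  obtain ⟨h1, h2⟩ := prod_pow_eq_one hk
  refine Nat.lcm_dvd (h k h1) (hv k h2 ?_)
  change (∑ i ∈ Finset.range k, ((B.f.prodMap C.f) ^ i) ((0, v) : B.V × C.V)) = 0 at hsum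
  have := congrArg Prod.snd hsum
  rw [Prod.snd_sum] at this
  refine Eq.trans (Finset.sum_congr rfl fun i _ => ?_) this
  rw [prod_pow]
  rfl

omit [CharP F 2] in
theorem finrank_submodule_prod {V : Type*} {W : Type*} [AddCommGroup V] [Module F V] [FiniteDimensional F V]
    [AddCommGroup W] [Module F W] [FiniteDimensional F W] (p : Submodule F V) (q : Submodule F W) :
    finrank F (p.prod q) = finrank F p + finrank F q := by
  rw [← Module.finrank_prod]
  exact LinearEquiv.finrank_eq
    { toFun := fun x => (⟨x.1.1, x.2.1⟩, ⟨x.1.2, x.2.2⟩)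
      invFun := fun x => ⟨(x.1.1, x.2.1), x.1.2, x.2.2⟩
      map_add' := fun _ _ => rfl
      map_smul' := fun _ _ => rfl
      left_inv := fun _ => rfl
      right_inv := fun _ => rfl }

theorem ev_prod (h : B.Ev) (h' : C.Ev) : (B.prod C).Ev := by
  have key : ∀ {V W : Type u} [AddCommGroup V] [Module F V] [FiniteDimensional F V] [AddCommGroup W]
      [Module F W] [FiniteDimensional F W] (f : End F V) (g : End F W),
      Even (finrank F (LinearMap.range (f - 1))) → Even (finrank F (LinearMap.range (g - 1))) →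
      Even (finrank F (LinearMap.range ((f.prodMap g : End F (V × W)) - 1))) := by
    intro V W _ _ _ _ _ _ f g h1 h2
    let k : End F (V × W) := f.prodMap g
    have e : k - 1 = (f - 1).prodMap (g - 1) := LinearMap.ext fun x => rfl
    show Even (finrank F (LinearMap.range (k - 1)))
    rw [e, LinearMap.range_prodMap, finrank_submodule_prod]
    exact h1.add h2
  exact key B.f C.f h h'

theorem ev_prod_odd (h : Odd (finrank F (LinearMap.range (B.f - 1))))
    (h' : Odd (finrank F (LinearMap.range (C.f - 1)))) : (B.prod C).Ev := by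
  have key : ∀ {V W : Type u} [AddCommGroup V] [Module F V] [FiniteDimensional F V] [AddCommGroup W]
      [Module F W] [FiniteDimensional F W] (f : End F V) (g : End F W),
      Odd (finrank F (LinearMap.range (f - 1))) → Odd (finrank F (LinearMap.range (g - 1))) →
      Even (finrank F (LinearMap.range ((f.prodMap g : End F (V × W)) - 1))) := by
    intro V W _ _ _ _ _ _ f g h1 h2
    let k : End F (V × W) := f.prodMap g
    have e : k - 1 = (f - 1).prodMap (g - 1) := LinearMap.ext fun x => rfl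
    show Even (finrank F (LinearMap.range (k - 1)))
    rw [e, LinearMap.range_prodMap, finrank_submodule_prod]
    exact h1.add_odd h2
  exact key B.f C.f h h'

theorem prod_f_pow_eq_one {k : ℕ} (h : B.f ^ k = 1) (h' : C.f ^ k = 1) : (B.prod C).f ^ k = 1 := by
  have key : ∀ {V W : Type u} [AddCommGroup V] [Module F V] [AddCommGroup W] [Module F W]
      (f : End F V) (g : End F W), f ^ k = 1 → g ^ k = 1 → (f.prodMap g : End F (V × W)) ^ k = 1 := by
    intro V W _ _ _ _ f g h1 h2
    rw [prod_pow, h1, h2]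
    exact LinearMap.ext fun p => rfl
  exact key B.f C.f h h'

theorem sum_prod_f_pow_fst (n : ℕ) (x : B.V) (y : C.V)
    (h : (∑ i ∈ Finset.range n, ((B.prod C).f ^ i) ((x, y) : B.V × C.V)) = 0) :
    (∑ i ∈ Finset.range n, (B.f ^ i) x) = 0 := by
  have key : ∀ {V W : Type u} [AddCommGroup V] [Module F V] [AddCommGroup W] [Module F W]
      (f : End F V) (g : End F W) (x : V) (y : W),
      (∑ i ∈ Finset.range n, ((f.prodMap g : End F (V × W)) ^ i) (x, y)) = 0 →
      (∑ i ∈ Finset.range n, (f ^ i) x) = 0 := by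
    intro V W _ _ _ _ f g x y h
    have := congrArg Prod.fst h
    rw [Prod.fst_sum, Prod.fst_zero] at this
    rw [← this]
    exact Finset.sum_congr rfl fun i _ => by rw [prod_pow]; rfl
  exact key B.f C.f x y h

end Prod

/-! ### Standard spaces -/

/-- The plus space with the identity. -/
noncomputable def plusBlk (j : ℕ) : Blk F where
  V := Fin j ⊕ Fin j → F
  Q := Forms.quadPlus j F
  f := 1
  m := j
  b := false
  isometry _ := rfl
  dim := by rw [Module.finrank_fintype_fun_eq_card, Fintype.card_sum, Fintype.card_fin]; ring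
  nondeg := Forms.quadPlus_nondegenerate j
  zeros := by rw [Forms.card_quadPlus_zeros_aux]; simp [sgnOf]; ring

/-- The minus space with the identity. -/
noncomputable def minusBlk (j : ℕ) (a b : F)
    (hab : ∀ z₁ z₂ : F, z₁ ^ 2 + a * z₁ * z₂ + b * z₂ ^ 2 = 0 → z₁ = 0 ∧ z₂ = 0) : Blk F where
  V := (Fin j ⊕ Fin j) ⊕ Fin 2 → F
  Q := Forms.quadMinus j F a b
  f := 1
  m := j + 1
  b := true
  isometry _ := rfl
  dim := by simp; ring
  nondeg := Forms.quadMinus_nondegenerate j hab
  zeros := by rw [Forms.card_quadMinus_zeros_aux j hab]; simp [sgnOf]; ring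

theorem ev_of_eq_one {B : Blk F} (h : B.f = 1) : B.Ev := by
  change Even (finrank F (LinearMap.range (B.f - 1)))
  rw [h, sub_self, LinearMap.range_zero, finrank_bot]
  exact Even.zero

theorem per_one {B : Blk F} : B.Per 1 := fun k _ => one_dvd k

/-- A space of given size and type with the identity. -/
theorem exists_pad {j : ℕ} (b : Bool) (hj : b = true → 1 ≤ j) :
    ∃ B : Blk F, B.m = j ∧ B.b = b ∧ B.f = 1 := by
  cases b with
  | false => exact ⟨plusBlk j, rfl, rfl, rfl⟩
  | true =>
    obtain ⟨a, c, hab⟩ := Semisimple.exists_binary_anisotropic (F := F)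
    obtain ⟨i, rfl⟩ := Nat.exists_eq_add_of_le' (hj rfl)
    exact ⟨minusBlk i a c hab, rfl, rfl, rfl⟩

theorem dbl_two_of_eq_one {B : Blk F} [CharP F 2] (h : B.f = 1) (hm : 1 ≤ B.m) : B.Dbl 2 := by
  have : Nontrivial B.V := Module.nontrivial_of_finrank_pos (R := F) (by rw [B.dim]; omega)
  obtain ⟨v, hv⟩ := exists_ne (0 : B.V)
  refine ⟨v, fun k _ hk => ?_⟩
  simp only [h, one_pow, Module.End.one_apply, Finset.sum_const, Finset.card_range] at hk
  rw [← Nat.cast_smul_eq_nsmul F, smul_eq_zero] at hk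
  exact (CharP.cast_eq_zero_iff F 2 k).1 (hk.resolve_right hv)

theorem per_two_pow {B : Blk F} {a : ℕ} (h : B.f ^ 2 ^ (a + 1) = 1) (h' : B.f ^ 2 ^ a ≠ 1) :
    B.Per (2 ^ (a + 1)) := by
  intro k hk
  rw [← orderOf_eq_prime_pow (p := 2) h' h]
  exact orderOf_dvd_of_pow_eq_one hk

theorem dbl_two_pow {B : Blk F} [CharP F 2] {a : ℕ} (h : B.f ^ 2 ^ a = 1) (hp : B.Per (2 ^ a)) (v : B.V)
    (hv : (∑ i ∈ Finset.range (2 ^ a), (B.f ^ i) v) ≠ 0) : B.Dbl (2 ^ (a + 1)) := by
  refine ⟨v, fun k hk hsum => ?_⟩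
  obtain ⟨j, rfl⟩ := hp k hk
  have e : ∀ j, (∑ i ∈ Finset.range (2 ^ a * j), (B.f ^ i) v) =
      (j : F) • ∑ i ∈ Finset.range (2 ^ a), (B.f ^ i) v := by
    intro j
    induction j with
    | zero => simp
    | succ j ih =>
      rw [mul_add, mul_one, Finset.sum_range_add, ih, Nat.cast_succ, add_smul, one_smul]
      congr 1
      refine Finset.sum_congr rfl fun i _ => ?_
      rw [pow_add, pow_mul, h, one_pow, one_mul]
  rw [e, smul_eq_zero] at hsum
  rw [pow_succ]
  exact mul_dvd_mul_left _ ((CharP.cast_eq_zero_iff F 2 j).1 (hsum.resolve_right hv))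

/-! ### Planes -/

/-- Coordinates of the hyperbolic plane. -/
def planeCoord : (Fin 1 ⊕ Fin 1 → F) ≃ₗ[F] F × F where
  toFun v := (v (.inl 0), v (.inr 0))
  invFun p := Sum.elim (fun _ => p.1) (fun _ => p.2)
  map_add' _ _ := rfl
  map_smul' _ _ := rfl
  left_inv v := by ext (i | i) <;> simp [Subsingleton.elim i 0]
  right_inv p := rfl

/-- The hyperbolic plane in two coordinates. -/
noncomputable def hypBlk : Blk F where
  V := F × F
  Q := QuadraticMap.linMulLin (LinearMap.fst F F F) (LinearMap.snd F F F)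
  f := 1
  m := 1
  b := false
  isometry _ := rfl
  dim := by rw [Module.finrank_prod, Module.finrank_self]
  nondeg := Forms.polar_nondegenerate_of_equiv (planeCoord (F := F)).symm
    (fun v => by simp [Forms.quadPlus]; rfl) (Forms.quadPlus_nondegenerate 1)
  zeros := by
    rw [← Forms.card_zeros_congr (planeCoord (F := F))
      (Q := Forms.quadPlus 1 F) (fun v => by simp [Forms.quadPlus]; rfl),
      Forms.card_quadPlus_zeros_aux]
    simp [sgnOf]; ring

/-- The anisotropic plane in two coordinates. -/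
noncomputable def aniBlk (a b : F)
    (hab : ∀ z₁ z₂ : F, z₁ ^ 2 + a * z₁ * z₂ + b * z₂ ^ 2 = 0 → z₁ = 0 ∧ z₂ = 0) : Blk F where
  V := F × F
  Q := Forms.binQ a b
  f := 1
  m := 1
  b := true
  isometry _ := rfl
  dim := by rw [Module.finrank_prod, Module.finrank_self]
  nondeg := Semisimple.binQ_nondegenerate hab
  zeros := by
    rw [← Forms.card_zeros_congr (Forms.binCoord F) (Forms.binQ_binCoord a b),
      Forms.card_quadMinus_zeros_aux 0 hab]
    simp [sgnOf]; ring

theorem finrank_range_eq_one {V : Type u} [AddCommGroup V] [Module F V] (g : End F V) (w : V) (hw : w ≠ 0)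
    (h : ∀ x, ∃ c : F, g x = c • w) (hx : ∃ x, g x = w) : finrank F (LinearMap.range g) = 1 := by
  have : LinearMap.range g = Submodule.span F {w} := by
    refine le_antisymm ?_ ?_
    · rintro _ ⟨x, rfl⟩
      obtain ⟨c, hc⟩ := h x
      rw [hc]
      exact Submodule.smul_mem _ c (Submodule.mem_span_singleton_self w)
    · rw [Submodule.span_le, Set.singleton_subset_iff]
      exact hx
  rw [this, finrank_span_singleton hw]

/-- A reflection in a plane of either type. -/
theorem exists_refl [CharP F 2] (b : Bool) :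
    ∃ B : Blk F, B.m = 1 ∧ B.b = b ∧ B.f ^ 2 = 1 ∧ B.Per 2 ∧
      finrank F (LinearMap.range (B.f - 1)) = 1 ∧ ∃ v, v + B.f v ≠ 0 := by
  have key : ∀ (B : Blk F) (w : B.V), B.f ^ 2 = 1 → w ≠ 0 → (∀ x, ∃ c : F, B.f x - x = c • w) →
      (∃ x, B.f x - x = w) → B.Per 2 ∧ finrank F (LinearMap.range (B.f - 1)) = 1 ∧ ∃ v, v + B.f v ≠ 0 := by
    intro B w h2 hw hc hx
    refine ⟨?_, finrank_range_eq_one _ w hw hc hx, ?_⟩
    · refine per_two_pow (a := 0) h2 fun h1 => hw ?_
      obtain ⟨x, rfl⟩ := hx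
      rw [pow_zero, pow_one] at h1
      rw [h1, Module.End.one_apply, sub_self]
    · obtain ⟨x, rfl⟩ := hx
      refine ⟨x, fun h0 => hw ?_⟩
      rw [← h0, sub_eq_add_neg, add_comm, ← neg_one_smul F x, CharTwo.neg_eq, one_smul]
  cases b with
  | false =>
    let g : End F (F × F) := (LinearMap.snd F F F).prod (LinearMap.fst F F F)
    refine ⟨(hypBlk (F := F)).withMap g fun x => ?_, rfl, rfl, LinearMap.ext fun x => rfl, ?_⟩
    · show x.2 * x.1 = x.1 * x.2
      ring
    · refine key _ ((1, 1) : F × F) (LinearMap.ext fun x => rfl) (fun h : ((1, 1) : F × F) = 0 => one_ne_zero (congrArg Prod.fst h)) (fun x => ?_) ⟨((1, 0) : F × F), ?_⟩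
      · refine ⟨x.1 + x.2, Prod.ext ?_ ?_⟩
        · show x.2 - x.1 = (x.1 + x.2) * 1
          rw [mul_one, CharTwo.sub_eq_add, add_comm]
        · show x.1 - x.2 = (x.1 + x.2) * 1
          rw [mul_one, CharTwo.sub_eq_add]
      · refine Prod.ext ?_ ?_
        · show (0 : F) - 1 = 1
          rw [zero_sub, CharTwo.neg_eq]
        · show (1 : F) - 0 = 1
          rw [sub_zero]
  | true =>
    obtain ⟨a, c, hab⟩ := Semisimple.exists_binary_anisotropic (F := F)
    have ha : a ≠ 0 := by
      rintro rfl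
      obtain ⟨s, rfl⟩ := FiniteField.isSquare_of_char_two (CharP.eq F (ringChar.charP F) inferInstance) c
      exact one_ne_zero (hab s 1 (by linear_combination (CharTwo.two_eq_zero (R := F)) * s * s)).2
    let g : End F (F × F) := (LinearMap.fst F F F + a • LinearMap.snd F F F).prod (LinearMap.snd F F F)
    have hg2 : ∀ x : F × F, g (g x) = x := fun x => Prod.ext (by
      show x.1 + a * x.2 + a * x.2 = x.1
      linear_combination (CharTwo.two_eq_zero (R := F)) * a * x.2) rfl
    refine ⟨(aniBlk a c hab).withMap g fun (x : F × F) => ?_, rfl, rfl, LinearMap.ext hg2, ?_⟩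
    · show Forms.binQ a c (x.1 + a * x.2, x.2) = Forms.binQ a c x
      rw [Forms.binQ_apply, Forms.binQ_apply]
      linear_combination (CharTwo.two_eq_zero (R := F)) * (a * x.1 * x.2 + a ^ 2 * x.2 ^ 2)
    · refine key _ ((1, 0) : F × F) (LinearMap.ext hg2) (fun h : ((1, 0) : F × F) = 0 => one_ne_zero (congrArg Prod.fst h)) (fun x => ?_) ⟨((0, a⁻¹) : F × F), ?_⟩
      · refine ⟨a * x.2, Prod.ext ?_ ?_⟩
        · show x.1 + a * x.2 - x.1 = a * x.2 * 1
          ring
        · show x.2 - x.2 = a * x.2 * 0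
          ring
      · refine Prod.ext ?_ ?_
        · show 0 + a * a⁻¹ - 0 = 1
          rw [mul_inv_cancel₀ ha]; ring
        · show a⁻¹ - a⁻¹ = 0
          ring

/-- A regular unipotent element of `O⁺(4)`, of order four. -/
theorem exists_quad4 [CharP F 2] :
    ∃ B : Blk F, B.m = 2 ∧ B.b = false ∧ B.f ^ 4 = 1 ∧ B.Per 4 ∧
      finrank F (LinearMap.range (B.f - 1)) = 3 ∧
      ∃ v, (∑ i ∈ Finset.range 4, (B.f ^ i) v) ≠ 0 := by
  let g : End F ((F × F) × (F × F)) :=
    { toFun := fun p => ((p.1.2, p.1.1 + p.2.1), (p.2.1, p.2.2 + p.1.2))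
      map_add' := fun p p' => by ext <;> simp only [Prod.fst_add, Prod.snd_add] <;> abel
      map_smul' := fun c p => by ext <;> simp [mul_add] }
  have two : ∀ z : F, z + z = 0 := CharTwo.add_self_eq_zero
  have hg2 : ∀ p : (F × F) × (F × F), g (g p) = ((p.1.1 + p.2.1, p.1.2 + p.2.1), (p.2.1, p.2.2 + p.1.2 + (p.1.1 + p.2.1))) :=
    fun p => rfl
  have hg4 : g ^ 4 = 1 := LinearMap.ext fun p => by
    show g (g (g (g p))) = p
    rw [hg2, hg2]
    have h2 := CharTwo.two_eq_zero (R := F)
    refine Prod.ext (Prod.ext ?_ ?_) (Prod.ext rfl ?_)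
    · show p.1.1 + p.2.1 + p.2.1 = p.1.1
      linear_combination h2 * p.2.1
    · show p.1.2 + p.2.1 + p.2.1 = p.1.2
      linear_combination h2 * p.2.1
    · show p.2.2 + p.1.2 + (p.1.1 + p.2.1) + (p.1.2 + p.2.1) + (p.1.1 + p.2.1 + p.2.1) = p.2.2
      linear_combination h2 * (p.1.1 + p.1.2 + 2 * p.2.1)
  refine ⟨((hypBlk (F := F)).prod hypBlk).withMap g fun p => ?_, rfl, rfl, hg4, ?_, ?_, ?_⟩
  · show p.1.2 * (p.1.1 + p.2.1) + p.2.1 * (p.2.2 + p.1.2) = p.1.1 * p.1.2 + p.2.1 * p.2.2
    linear_combination (CharTwo.two_eq_zero (R := F)) * (p.1.2 * p.2.1)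
  · refine per_two_pow (a := 1) hg4 fun h => ?_
    have := congrArg (fun x : End F ((F × F) × (F × F)) => (x ((0, 0), (1, 0))).1.1) h
    change (0 : F) + 1 = 0 at this
    simp at this
  · have h1 := LinearMap.finrank_range_add_finrank_ker (g - 1)
    have hk : LinearMap.ker (g - 1) = Submodule.span F {((0, 0), ((0, 1) : F × F))} := by
      ext p
      rw [LinearMap.mem_ker, Submodule.mem_span_singleton]
      constructor
      · intro h
        have a1 : p.1.2 - p.1.1 = 0 := congrArg (fun z => z.1.1) h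
        have a2 : p.1.1 + p.2.1 - p.1.2 = 0 := congrArg (fun z => z.1.2) h
        have a4 : p.2.2 + p.1.2 - p.2.2 = 0 := congrArg (fun z => z.2.2) h
        have e2 : p.1.2 = 0 := by linear_combination a4
        have e1 : p.1.1 = 0 := by linear_combination a4 - a1
        have e3 : p.2.1 = 0 := by linear_combination a2 + a1
        exact ⟨p.2.2, Prod.ext (Prod.ext (by simp [e1]) (by simp [e2])) (Prod.ext (by simp [e3]) (by simp))⟩
      · rintro ⟨c, rfl⟩
        ext <;> simp [g]
    rw [hk, finrank_span_singleton (by simp), Module.finrank_prod, Module.finrank_prod, Module.finrank_self] at h1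
    show finrank F (LinearMap.range (g - 1 : End F ((F × F) × (F × F)))) = 3
    omega
  · refine ⟨((0, 0), ((1, 0) : F × F)), fun h => ?_⟩
    change (∑ i ∈ Finset.range 4, (g ^ i) ((0, 0), ((1, 0) : F × F))) = 0 at h
    simp only [Finset.sum_range_succ, Finset.sum_range_zero, pow_succ', pow_zero, Module.End.mul_apply,
      Module.End.one_apply] at h
    have := congrArg (fun z : (F × F) × (F × F) => z.2.2) h
    simp [g, two] at this

/-- A regular unipotent element of `O⁺(6)`, of order eight. -/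
theorem exists_oct6 [CharP F 2] : ∃ B : Blk F, B.m = 3 ∧ B.Per 8 := by
  let g : End F ((F × F) × ((F × F) × (F × F))) :=
    { toFun := fun p => ((p.1.2, p.1.1 + p.2.1.1), ((p.2.1.1 + p.2.2.1, p.2.1.2 + p.1.2),
        (p.2.2.1, p.2.2.2 + p.2.1.2 + p.1.2)))
      map_add' := fun p p' => by ext <;> simp only [Prod.fst_add, Prod.snd_add] <;> abel
      map_smul' := fun c p => by ext <;> simp [mul_add] }
  refine ⟨((hypBlk (F := F)).prod (hypBlk.prod hypBlk)).withMap g fun p => ?_, rfl, ?_⟩
  · show p.1.2 * (p.1.1 + p.2.1.1) + ((p.2.1.1 + p.2.2.1) * (p.2.1.2 + p.1.2) +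
        p.2.2.1 * (p.2.2.2 + p.2.1.2 + p.1.2)) = p.1.1 * p.1.2 + (p.2.1.1 * p.2.1.2 + p.2.2.1 * p.2.2.2)
    linear_combination (CharTwo.two_eq_zero (R := F)) *
      (p.1.2 * p.2.1.1 + p.2.2.1 * p.2.1.2 + p.2.2.1 * p.1.2)
  · have h2 := CharTwo.two_eq_zero (R := F)
    have h4 : ∀ p : (F × F) × ((F × F) × (F × F)), g (g (g (g p))) =
        ((p.1.1, p.1.2), ((p.2.1.1, p.2.1.2 + p.2.2.1), (p.2.2.1, p.2.2.2 + p.2.1.1))) := fun p => by
      refine Prod.ext (Prod.ext ?_ ?_) (Prod.ext (Prod.ext ?_ ?_) (Prod.ext ?_ ?_)) <;>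
        simp only [g, LinearMap.coe_mk, AddHom.coe_mk] <;> ring_nf <;> simp [show (4 : F) = 0 by
          linear_combination 2 * h2, show (6 : F) = 0 by linear_combination 3 * h2,
          show (3 : F) = 1 by linear_combination h2, show (7 : F) = 1 by linear_combination 3 * h2, h2]
    refine per_two_pow (a := 2) (LinearMap.ext fun (p : (F × F) × ((F × F) × (F × F))) => ?_) fun h => ?_
    · show g (g (g (g (g (g (g (g p))))))) = p
      rw [h4, h4]
      refine Prod.ext rfl (Prod.ext (Prod.ext rfl ?_) (Prod.ext rfl ?_))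
      · show p.2.1.2 + p.2.2.1 + p.2.2.1 = p.2.1.2
        linear_combination h2 * p.2.2.1
      · show p.2.2.2 + p.2.1.1 + p.2.1.1 = p.2.2.2
        linear_combination h2 * p.2.1.1
    · have := congrArg (fun x : End F ((F × F) × ((F × F) × (F × F))) => (x ((0, 0), ((0, 0), (1, 0)))).2.1.2) h
      change (g (g (g (g ((0, 0), ((0, 0), ((1, 0) : F × F))))))).2.1.2 = (0 : F) at this
      rw [h4] at this
      simp at this

end Cfsg.Agent.Spectrum.QuadBlocks
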