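import Cfsg.Agent.Lib.Spectrum.QuadBlocks

/-!
Tori in orthogonal groups over fields of two-power order, and the blocks with element orders
`2 ^ c * lcm (q ^ d ± 1)`.
-/

set_option autoImplicit false
set_option maxHeartbeats 400000

open Module (finrank End)
open Cfsg.Agent.Spectrum.SympCrit

namespace Cfsg.Agent.Spectrum.QuadBlocks

universe u

universe w

variable {F : Type u} [Field F] [Fintype F] [CharP F 2]

omit [CharP F 2] in
/-- A block from a space in any universe. -/
theorem exists_blk {V : Type w} [AddCommGroup V] [Module F V] [FiniteDimensional F V] (Q : QuadraticForm F V)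
    (f : End F V) (m : ℕ) (b : Bool) (hiso : ∀ x, Q (f x) = Q x) (hdim : finrank F V = 2 * m)
    (hnd : (QuadraticMap.polarBilin Q).Nondegenerate)
    (hz : (Fintype.card F : ℤ) * Nat.card {v : V // Q v = 0} =
      (Fintype.card F : ℤ) ^ (2 * m) + sgnOf b * ((Fintype.card F : ℤ) - 1) * (Fintype.card F : ℤ) ^ m)
    (hev : Even (finrank F (LinearMap.range (f - 1)))) {n : ℕ} (hper : ∀ k : ℕ, f ^ k = 1 → n ∣ k) :
    ∃ B : Blk F, B.m = m ∧ B.b = b ∧ B.Ev ∧ B.Per n := by
  let e : V ≃ₗ[F] (Fin (2 * m) → F) := (Module.finBasisOfFinrankEq F V hdim).equivFun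
  have hev' : Even (finrank F (LinearMap.range ((e.conjRingEquiv f : End F (Fin (2 * m) → F)) - 1))) := by
    have h1 : (e.conjRingEquiv f : End F (Fin (2 * m) → F)) - 1 =
        e.toLinearMap ∘ₗ (f - 1) ∘ₗ e.symm.toLinearMap := LinearMap.ext fun x => by
      show e (f (e.symm x)) - x = e (f (e.symm x) - e.symm x)
      rw [map_sub, LinearEquiv.apply_symm_apply]
    rw [h1, LinearMap.range_comp, LinearMap.range_comp_of_range_eq_top _ e.symm.range, LinearEquiv.finrank_map_eq]
    exact hev
  refine ⟨{ V := Fin (2 * m) → F, Q := Q.comp e.symm.toLinearMap, f := e.conjRingEquiv f, m := m, b := b,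
            isometry := fun x => ?_, dim := by rw [← e.finrank_eq, hdim],
            nondeg := Forms.polar_nondegenerate_of_equiv e.symm (fun v => rfl) hnd, zeros := ?_ },
    rfl, rfl, ?_, fun k hk => hper k ?_⟩
  · show Q (e.symm (e (f (e.symm x)))) = Q (e.symm x)
    rw [LinearEquiv.symm_apply_apply, hiso]
  · rw [← hz]
    congr 2
    exact Nat.card_congr (Equiv.subtypeEquiv e.symm.toEquiv fun v => Iff.rfl)
  · exact hev'
  · exact e.conjRingEquiv.injective (by rw [map_pow, map_one]; exact hk)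

theorem even_card : Even (Fintype.card F) := by
  obtain ⟨n, -, hn⟩ := FiniteField.card F 2
  rw [hn]
  exact Nat.even_pow.2 ⟨even_two, n.pos.ne'⟩

omit [CharP F 2] in
theorem range_mul_sub_one {E : Type w} [Field E] [Algebra F E] [FiniteDimensional F E] {z : E} (hz : z ≠ 1) :
    LinearMap.range (LinearMap.mulLeft F z - 1) = ⊤ := by
  refine LinearMap.range_eq_top.2 fun y => ⟨(z - 1)⁻¹ * y, ?_⟩
  show z * ((z - 1)⁻¹ * y) - (z - 1)⁻¹ * y = y
  rw [← sub_one_mul, ← mul_assoc, mul_inv_cancel₀ (sub_ne_zero.2 hz), one_mul]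

/-- The split torus. -/
theorem exists_split_torus {d : ℕ} (hd : 0 < d) :
    ∃ B : Blk F, B.m = d ∧ B.b = false ∧ B.Ev ∧ B.Per (tExp (Fintype.card F) (d, false)) := by
  classical
  have : Fact (Nat.Prime 2) := ⟨Nat.prime_two⟩
  have : NeZero d := ⟨hd.ne'⟩
  let E := FiniteField.Extension F 2 d
  have hdim : finrank F E = d := FiniteField.finrank_extension F 2 d
  have hcard : Nat.card E = Fintype.card F ^ d := by
    rw [FiniteField.natCard_extension, Nat.card_eq_fintype_card]
  obtain ⟨w, hw⟩ := IsCyclic.exists_ofOrder_eq_natCard (α := Eˣ)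
  rw [Nat.card_units, hcard] at hw
  set Q : QuadraticForm F (E × E) := LinearMap.BilinMap.toQuadraticMap
    ((Algebra.traceForm F E).compl₁₂ (LinearMap.fst F E E) (LinearMap.snd F E E)) with hQ
  have hQa : ∀ p : E × E, Q p = Algebra.trace F E (p.1 * p.2) := fun p => rfl
  let f : End F (E × E) := (LinearMap.mulLeft F (w : E)).prodMap (LinearMap.mulLeft F ((w⁻¹ : Eˣ) : E))
  have hp : ∀ p p' : E × E, QuadraticMap.polar ⇑Q p p' =
      Algebra.trace F E (p.1 * p'.2) + Algebra.trace F E (p'.1 * p.2) := fun p p' => by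
    simp only [QuadraticMap.polar, hQa, Prod.fst_add, Prod.snd_add, add_mul, mul_add, map_add]
    ring
  have key : ∀ p : E × E, (∀ p', QuadraticMap.polar ⇑Q p p' = 0) → p = 0 := fun p hp' => by
    refine Prod.ext ((traceForm_nondegenerate F E).1 _ fun y => ?_) ((traceForm_nondegenerate F E).1 _ fun y => ?_)
    · simpa [hp] using hp' (0, y)
    · simpa [hp, mul_comm] using hp' (y, 0)
  refine exists_blk Q f d false (fun p => ?_) ?_
    ⟨key, fun p h => key p fun p' => by rw [QuadraticMap.polar_comm]; exact h p'⟩ ?_ ?_ fun k hk => ?_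
  · rw [hQa, hQa]
    show Algebra.trace F E ((w : E) * p.1 * (((w⁻¹ : Eˣ) : E) * p.2)) = _
    rw [mul_mul_mul_comm, ← Units.val_mul, mul_inv_cancel, Units.val_one, one_mul]
  · rw [Module.finrank_prod, hdim]; ring
  · have := Module.finite_of_finite (M := E) F
    have := Fintype.ofFinite E
    let e : {p : E × E // Q p = 0} ≃ Σ x : E, {y : E // Algebra.trace F E (x * y) = 0} :=
      { toFun := fun p => ⟨p.1.1, p.1.2, p.2⟩
        invFun := fun s => ⟨(s.1, s.2.1), s.2.2⟩
        left_inv := fun _ => rfl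
        right_inv := fun _ => rfl }
    have hker : ∀ x : E, x ≠ 0 →
        Nat.card {y : E // Algebra.trace F E (x * y) = 0} = Fintype.card F ^ (d - 1) := by
      intro x hx
      set φ : E →ₗ[F] F := Algebra.traceForm F E x
      have hφ : φ ≠ 0 := fun h0 => hx ((traceForm_nondegenerate F E).1 x fun y => LinearMap.congr_fun h0 y)
      have h1 := LinearMap.finrank_range_add_finrank_ker φ
      rw [LinearMap.range_eq_top.2 (LinearMap.surjective hφ), finrank_top, Module.finrank_self, hdim] at h1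
      rw [show Nat.card {y : E // Algebra.trace F E (x * y) = 0} = Nat.card (LinearMap.ker φ) from rfl,
        Module.natCard_eq_pow_finrank (K := F), Nat.card_eq_fintype_card]
      congr 1
      omega
    have hE : Fintype.card E = Fintype.card F ^ d := by rw [← Nat.card_eq_fintype_card, hcard]
    rw [Nat.card_congr e, Nat.card_sigma, Fintype.sum_eq_add_sum_compl (0 : E),
      Finset.sum_congr rfl (fun x hx => hker x (by simpa using hx)), Finset.sum_const, Finset.card_compl,
      Finset.card_singleton, hE, smul_eq_mul]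
    simp only [zero_mul, map_zero]
    rw [Nat.card_congr (Equiv.subtypeUnivEquiv fun _ => trivial), hcard]
    have h1 : 1 ≤ Fintype.card F ^ d := Nat.one_le_pow _ _ Fintype.card_pos
    push_cast [Nat.cast_sub h1]
    obtain ⟨i, rfl⟩ := Nat.exists_eq_add_of_le' (show 1 ≤ d from hd)
    rw [Nat.add_sub_cancel]
    simp [sgnOf]
    ring
  · by_cases hw1 : w = 1
    · have : f = 1 := LinearMap.ext fun p => by simp [f, hw1]
      rw [this, sub_self, LinearMap.range_zero, finrank_bot]
      exact Even.zero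
    · have e : f - 1 = (LinearMap.mulLeft F (w : E) - 1).prodMap (LinearMap.mulLeft F ((w⁻¹ : Eˣ) : E) - 1) :=
        LinearMap.ext fun p => rfl
      rw [e, LinearMap.range_prodMap, finrank_submodule_prod,
        range_mul_sub_one (by simpa using hw1), range_mul_sub_one (fun h => hw1 (inv_eq_one.1 (Units.ext h))),
        finrank_top]
      exact ⟨_, rfl⟩
  · rw [prod_pow] at hk
    have h1 := congrArg Prod.fst (LinearMap.congr_fun hk ((1, 0) : E × E))
    simp only [LinearMap.prodMap_apply, LinearMap.pow_mulLeft, LinearMap.mulLeft_apply, mul_one,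
      Module.End.one_apply] at h1
    rw [tExp, if_neg (by simp), ← hw, orderOf_dvd_iff_pow_eq_one]
    exact Units.ext (by rw [Units.val_pow_eq_pow_val, Units.val_one, h1])

/-- The non-split torus. -/
theorem exists_nonsplit_torus {e : ℕ} (he : 0 < e) :
    ∃ B : Blk F, B.m = e ∧ B.b = true ∧ B.Ev ∧ B.Per (tExp (Fintype.card F) (e, true)) := by
  classical
  have : Fact (Nat.Prime 2) := ⟨Nat.prime_two⟩
  have : NeZero (2 * e) := ⟨by omega⟩
  let E := FiniteField.Extension F 2 (2 * e)
  have hdim : finrank F E = 2 * e := FiniteField.finrank_extension F 2 (2 * e)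
  have hcard : Nat.card E = Fintype.card F ^ (2 * e) := by
    rw [FiniteField.natCard_extension, Nat.card_eq_fintype_card]
  have : Finite E := Module.finite_of_finite F
  have := Fintype.ofFinite E
  obtain ⟨g, hg⟩ := IsCyclic.exists_ofOrder_eq_natCard (α := Eˣ)
  rw [Nat.card_units, hcard] at hg
  set q := Fintype.card F with hq
  obtain ⟨a, -, hqa⟩ := FiniteField.card F 2
  have hqe : 2 ≤ q ^ e := le_trans Fintype.one_lt_card (Nat.le_self_pow he.ne' q)
  have hsq : q ^ (2 * e) - 1 = (q ^ e - 1) * (q ^ e + 1) := by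
    rw [show q ^ (2 * e) = (q ^ e) ^ 2 by rw [← pow_mul, mul_comm], mul_comm, ← Nat.sq_sub_sq, one_pow]
  set z : Eˣ := g ^ (q ^ e - 1) with hz
  have hord : orderOf z = q ^ e + 1 := by
    rw [hz, orderOf_pow' _ (by omega), hg, hsq, Nat.gcd_mul_right_left, Nat.mul_div_cancel_left _ (by omega)]
  let : CharP E 2 := charP_of_injective_algebraMap (algebraMap F E).injective 2
  let ψ : E →+* E := iterateFrobenius E 2 (a * e)
  have hψ : ∀ x, ψ x = x ^ q ^ e := fun x => by
    rw [hq, hqa, ← pow_mul]; exact iterateFrobenius_def 2 (a * e) x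
  have hψψ : ∀ x : E, ψ (ψ x) = x := fun x => by
    have hc : Fintype.card E = q ^ (2 * e) := by rw [← Nat.card_eq_fintype_card, hcard]
    rw [hψ, hψ, ← pow_mul, ← pow_add, ← two_mul, ← hc, FiniteField.pow_card]
  let J : E →ₐ[F] E := ⟨ψ, fun c => by show ψ (algebraMap F E c) = _; rw [hψ, ← map_pow, FiniteField.pow_card_pow]⟩
  have hJ : ∀ x, J x = ψ x := fun _ => rfl
  let Jeq : E ≃ₐ[F] E := AlgEquiv.ofBijective J
    ⟨J.toRingHom.injective, Finite.surjective_of_injective J.toRingHom.injective⟩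
  have hθ : (g : E) + ψ (g : E) ≠ 0 := fun h0 => by
    have h1 : g ^ (q ^ e - 1) = 1 := Units.ext (by
      rw [Units.val_pow_eq_pow_val, Units.val_one]
      refine mul_right_cancel₀ g.ne_zero ?_
      rw [← pow_succ, Nat.sub_add_cancel (by omega), one_mul, ← hψ]
      exact (CharTwo.add_eq_zero.1 h0).symm)
    rw [← hz] at h1
    rw [h1, orderOf_one] at hord
    omega
  let B : LinearMap.BilinForm F E :=
    LinearMap.mk₂ F (fun x y => Algebra.trace F E ((g : E) * J x * y))
      (fun x x' y => by simp [mul_add, add_mul]) (fun c x y => by simp [mul_smul_comm, smul_mul_assoc])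
      (fun x y y' => by simp [mul_add]) (fun c x y => by simp [mul_smul_comm])
  set Q : QuadraticForm F E := LinearMap.BilinMap.toQuadraticMap B
  have hQa : ∀ x, Q x = Algebra.trace F E ((g : E) * J x * x) := fun x => rfl
  have hp : ∀ x y, QuadraticMap.polar ⇑Q x y = Algebra.trace F E (((g : E) + ψ (g : E)) * J x * y) := by
    intro x y
    rw [LinearMap.BilinMap.polar_toQuadraticMap]
    show Algebra.trace F E ((g : E) * J x * y) + Algebra.trace F E ((g : E) * J y * x) = _
    rw [← Algebra.trace_eq_of_algEquiv Jeq ((g : E) * J y * x), ← map_add]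
    congr 1
    show (g : E) * J x * y + J ((g : E) * J y * x) = _
    rw [map_mul, map_mul, hJ (g : E), hJ (J y), hJ y, hψψ]
    ring
  have key : ∀ x : E, (∀ y, QuadraticMap.polar ⇑Q x y = 0) → x = 0 := fun x hx => by
    have h0 : ((g : E) + ψ (g : E)) * J x = 0 := (traceForm_nondegenerate F E).1 _ fun y => by
      have := hx y
      rw [hp] at this
      exact this
    exact J.toRingHom.injective (((mul_eq_zero.1 h0).resolve_left hθ).trans (map_zero J).symm)
  have hnd : (QuadraticMap.polarBilin Q).Nondegenerate :=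
    ⟨key, fun x h => key x fun y => by rw [QuadraticMap.polar_comm]; exact h y⟩
  have hzq : J (z : E) * (z : E) = 1 := by
    rw [hJ, hψ, ← pow_succ, ← hord, ← Units.val_pow_eq_pow_val, pow_orderOf_eq_one, Units.val_one]
  have hiso : ∀ x, Q ((z : E) * x) = Q x := fun x => by
    rw [hQa, hQa, map_mul J]
    congr 1
    linear_combination ((g : E) * J x * x) * hzq
  -- the nonzero zeros form cosets of the torus
  have hmod : ∃ j : ℕ, Nat.card {x : E // Q x = 0} = (q ^ e + 1) * j + 1 := by
    let T : Set (Eˣ ⧸ Subgroup.zpowers z) := QuotientGroup.mk '' {x : Eˣ | Q (x : E) = 0}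
    have hzinv : ∀ (i : ℕ) (x : E), Q (((z ^ i : Eˣ) : E) * x) = Q x := by
      intro i
      induction i with
      | zero => intro x; simp
      | succ i ih => intro x; rw [pow_succ, Units.val_mul, mul_assoc, ih, hiso]
    have hT : QuotientGroup.mk ⁻¹' T = {x : Eˣ | Q (x : E) = 0} := by
      refine Set.ext fun x => ⟨?_, fun hx => ⟨x, hx, rfl⟩⟩
      rintro ⟨y, hy, hxy⟩
      obtain ⟨i, hi⟩ := (isOfFinOrder_of_finite z).mem_powers_iff_mem_zpowers.2 (QuotientGroup.eq.1 hxy)
      show Q (x : E) = 0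
      rw [show x = z ^ i * y by rw [show z ^ i = y⁻¹ * x from hi, mul_comm y⁻¹, inv_mul_cancel_right],
        Units.val_mul, hzinv]
      exact hy
    have h1 : Nat.card {x : Eˣ // Q (x : E) = 0} = (q ^ e + 1) * Nat.card T := by
      rw [← hord, ← Nat.card_zpowers, ← Nat.card_prod]
      refine Nat.card_congr (Equiv.trans ?_ (QuotientGroup.preimageMkEquivSubgroupProdSet _ T))
      exact Equiv.setCongr hT.symm
    refine ⟨Nat.card T, ?_⟩
    rw [← h1, ← Finite.card_option]
    exact Nat.card_congr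
      { toFun := fun x => if h : x.1 = 0 then none else some ⟨Units.mk0 x.1 h, x.2⟩
        invFun := fun o => o.elim ⟨0, QuadraticMap.map_zero Q⟩ fun u => ⟨u.1, u.2⟩
        left_inv := fun x => by
          by_cases h : x.1 = 0
          · simp only [h, dite_true, Option.elim_none]; exact Subtype.ext h.symm
          · simp only [h, dite_false, Option.elim_some]; rfl
        right_inv := fun o => by
          rcases o with - | u
          · simp
          · simp [u.1.ne_zero] }
  have hz1 : (z : E) ≠ 1 := fun h => by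
    rw [Units.ext (h.trans Units.val_one.symm), orderOf_one] at hord
    omega
  refine exists_blk Q (LinearMap.mulLeft F (z : E)) e true hiso hdim hnd ?_ ?_ fun k hk => ?_
  · obtain ⟨a', b', hab⟩ := Semisimple.exists_binary_anisotropic (F := F)
    rcases QForm.exists_iso_plus_or_minus hab e Q hnd hdim with ⟨φ, hφ⟩ | ⟨-, φ, hφ⟩
    · exfalso
      obtain ⟨i, rfl⟩ := Nat.exists_eq_add_of_le' (show 1 ≤ e from he)
      obtain ⟨j, hj⟩ := hmod
      rw [Forms.card_zeros_congr φ (Q' := Forms.quadPlus (i + 1) F) (fun v => by rw [Forms.quadPlus_apply, hφ]),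
        Forms.card_quadPlus_zeros, ← hq, add_left_inj] at hj
      have hodd : Nat.Coprime (q ^ (i + 1) + 1) 2 :=
        Nat.coprime_two_right.2 ((Nat.even_pow.2 ⟨even_card, by omega⟩).add_one)
      have hd : q ^ (i + 1) + 1 ∣ 2 * (q ^ i + 1) := by
        have e1 : (q ^ (i + 1) + 1) * (q ^ i + 1) =
            (q ^ (i + 1) - 1) * (q ^ i + 1) + 2 * (q ^ i + 1) := by
          rw [← add_mul]; congr 1; omega
        exact (Nat.dvd_add_right (Dvd.intro j hj.symm)).1 (e1 ▸ dvd_mul_right _ _)
      have hle := Nat.le_of_dvd (by omega) (hodd.dvd_of_dvd_mul_left hd)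
      have : q ^ i * 1 < q ^ i * q := Nat.mul_lt_mul_of_pos_left Fintype.one_lt_card (pow_pos Fintype.card_pos i)
      rw [mul_one, ← pow_succ] at this
      omega
    · obtain ⟨i, rfl⟩ := Nat.exists_eq_add_of_le' (show 1 ≤ e from he)
      rw [Forms.card_zeros_congr φ (Q' := Forms.quadMinus (i + 1 - 1) F a' b')
        (fun v => by rw [Forms.quadMinus_apply, hφ]), Forms.card_quadMinus_zeros_aux _ hab, Nat.add_sub_cancel]
      simp [sgnOf]
      ring
  · rw [range_mul_sub_one hz1, finrank_top, hdim]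
    exact even_two_mul e
  · have h1 := LinearMap.congr_fun hk (1 : E)
    simp only [LinearMap.pow_mulLeft, LinearMap.mulLeft_apply, mul_one, Module.End.one_apply] at h1
    rw [tExp, if_pos rfl, ← hord, orderOf_dvd_iff_pow_eq_one]
    exact Units.ext (by rw [Units.val_pow_eq_pow_val, Units.val_one, h1])

/-- The parity of the number of non-split types. -/
def par (T : Finset (ℕ × Bool)) : Bool := decide (Odd (T.filter fun t => t.2 = true).card)

/-- The torus product. -/
theorem exists_tori (T : Finset (ℕ × Bool)) (hT : ∀ t ∈ T, 0 < t.1) :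
    ∃ B : Blk F, B.m = ∑ t ∈ T, t.1 ∧ B.b = par T ∧ B.Ev ∧ B.Per (T.lcm (tExp (Fintype.card F))) := by
  induction T using Finset.induction_on with
  | empty => exact ⟨plusBlk 0, rfl, rfl, ev_of_eq_one rfl, fun k _ => by simp⟩
  | @insert t T ht ih =>
    obtain ⟨B, hm, hb, hev, hper⟩ := ih fun x hx => hT x (Finset.mem_insert_of_mem hx)
    obtain ⟨C, hCm, hCb, hCev, hCper⟩ : ∃ C : Blk F, C.m = t.1 ∧ C.b = t.2 ∧ C.Ev ∧
        C.Per (tExp (Fintype.card F) t) := by
      obtain ⟨d, s⟩ := t
      cases s with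
      | false => exact exists_split_torus (hT _ (Finset.mem_insert_self _ _))
      | true => exact exists_nonsplit_torus (hT _ (Finset.mem_insert_self _ _))
    refine ⟨C.prod B, ?_, ?_, ev_prod hCev hev, ?_⟩
    · show C.m + B.m = _
      rw [Finset.sum_insert ht, hCm, hm]
    · show (C.b != B.b) = _
      rw [hCb, hb, par, par, Finset.filter_insert]
      cases t.2 with
      | false => simp
      | true =>
        rw [if_pos rfl, Finset.card_insert_of_notMem (fun h => ht (Finset.mem_filter.1 h).1)]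
        simp [Nat.odd_add_one, -Nat.not_odd_iff_even]
    · rw [Finset.lcm_insert]
      exact per_prod hCper hper

omit [CharP F 2] in
theorem even_pow_sub_one {q d : ℕ} (hq : Even q) (hd : 0 < d) (hq0 : 0 < q) : Odd (q ^ d - 1) :=
  Nat.Even.sub_odd (Nat.one_le_pow _ _ hq0) (Nat.even_pow.2 ⟨hq, hd.ne'⟩) odd_one

theorem odd_lcm (T : Finset (ℕ × Bool)) (hT : ∀ t ∈ T, 0 < t.1) : Odd (T.lcm (tExp (Fintype.card F))) := by
  induction T using Finset.induction_on with
  | empty => simp
  | @insert t T _ ih =>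
    rw [Finset.lcm_insert]
    refine Odd.of_dvd_nat ?_ (Nat.lcm_dvd_mul _ _)
    refine Odd.mul ?_ (ih fun x hx => hT x (Finset.mem_insert_of_mem hx))
    rw [tExp]
    split
    · exact (Nat.even_pow.2 ⟨even_card, (hT t (Finset.mem_insert_self _ _)).ne'⟩).add_one
    · exact even_pow_sub_one even_card (hT t (Finset.mem_insert_self _ _)) Fintype.card_pos

theorem lcm_two_pow (T : Finset (ℕ × Bool)) (hT : ∀ t ∈ T, 0 < t.1) (c : ℕ) :
    Nat.lcm (T.lcm (tExp (Fintype.card F))) (2 ^ c) = 2 ^ c * T.lcm (tExp (Fintype.card F)) := by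
  rw [(Nat.Coprime.pow_right c (Nat.coprime_two_right.2 (odd_lcm T hT))).lcm_eq_mul, mul_comm]

/-- An isometry with order a multiple of `2 ^ c * lcm`. -/
theorem exists_per (T : Finset (ℕ × Bool)) (hT : ∀ t ∈ T, 0 < t.1) {c m : ℕ} (hc : c ≤ 3)
    (hm : ∑ t ∈ T, t.1 + c ≤ m) :
    ∃ B : Blk F, B.m = m ∧ B.Per (2 ^ c * T.lcm (tExp (Fintype.card F))) := by
  obtain ⟨j, rfl⟩ := Nat.exists_eq_add_of_le hm
  obtain ⟨C, hCm, hC⟩ : ∃ C : Blk F, C.m = c ∧ C.Per (2 ^ c) := by
    interval_cases c
    · exact ⟨plusBlk 0, rfl, per_one⟩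
    · obtain ⟨C, h1, -, -, h2, -⟩ := exists_refl (F := F) false
      exact ⟨C, h1, h2⟩
    · obtain ⟨C, h1, -, -, h2, -⟩ := exists_quad4 (F := F)
      exact ⟨C, h1, h2⟩
    · obtain ⟨C, h1, h2⟩ := exists_oct6 (F := F)
      exact ⟨C, h1, h2⟩
  obtain ⟨B, hBm, -, -, hB⟩ := exists_tori (F := F) T hT
  refine ⟨(B.prod C).prod (plusBlk j), ?_, ?_⟩
  · show B.m + C.m + j = _
    rw [hBm, hCm]
  · have := per_prod (per_prod hB hC) (per_one (B := plusBlk (F := F) j))
    rwa [Nat.lcm_one_right, lcm_two_pow T hT c] at this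

/-- An isometry of a minus space with even rank of `f - 1`, and a vector doubling up to `2 ^ c * lcm`. -/
theorem exists_dbl (T : Finset (ℕ × Bool)) (hT : ∀ t ∈ T, 0 < t.1) {c m : ℕ} (hc : c ≤ 3)
    (hm : ∑ t ∈ T, t.1 + c ≤ m) (h0 : c = 0 → ∑ t ∈ T, t.1 = m → par T = true) :
    ∃ B : Blk F, B.m = m ∧ B.b = true ∧ B.Ev ∧ B.Dbl (2 ^ c * T.lcm (tExp (Fintype.card F))) := by
  obtain ⟨B, hBm, hBb, hBev, hB⟩ := exists_tori (F := F) T hT
  -- the complementary space
  suffices h : (∑ t ∈ T, t.1 = m ∧ c = 0) ∨ ∃ C : Blk F, B.m + C.m = m ∧ C.b = !B.b ∧ C.Ev ∧ C.Dbl (2 ^ c) by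
    rcases h with ⟨hd, rfl⟩ | ⟨C, hCm, hCb, hCev, hC⟩
    · exact ⟨B, by rw [hBm, hd], by rw [hBb, h0 rfl hd], hBev, by rw [pow_zero, one_mul]; exact hB.dbl⟩
    · refine ⟨B.prod C, hCm, ?_, ev_prod hBev hCev, ?_⟩
      · show (B.b != C.b) = true
        rw [hCb]; cases B.b <;> rfl
      · have := dbl_prod hB hC
        rwa [lcm_two_pow T hT c] at this
  obtain ⟨j, hj⟩ := Nat.exists_eq_add_of_le hm
  interval_cases c
  · rcases Nat.eq_zero_or_pos j with rfl | hj0
    · exact Or.inl ⟨by omega, rfl⟩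
    · obtain ⟨C, h1, h2, h3⟩ := exists_pad (F := F) (j := j) (!B.b) fun _ => hj0
      exact Or.inr ⟨C, by omega, h2, ev_of_eq_one h3, (pow_zero 2).symm ▸ per_one.dbl⟩
  · obtain ⟨C, h1, h2, h3⟩ := exists_pad (F := F) (j := j + 1) (!B.b) fun _ => by omega
    exact Or.inr ⟨C, by omega, h2, ev_of_eq_one h3, dbl_two_of_eq_one h3 (by omega)⟩
  · obtain ⟨R, hRm, hRb, hR2, hRp, hRr, v, hv⟩ := exists_refl (F := F) (!B.b)
    obtain ⟨S, hSm, hSb, hS2, -, hSr, -, -⟩ := exists_refl (F := F) false
    let P := plusBlk (F := F) j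
    have hev : (R.prod S).Ev := ev_prod_odd (by rw [hRr]; exact odd_one) (by rw [hSr]; exact odd_one)
    have hd : (R.prod S).Dbl 4 := by
      refine dbl_two_pow (a := 1) (prod_f_pow_eq_one (by rwa [pow_one]) (by rwa [pow_one])) (by
        have := per_prod hRp (per_one (B := S))
        rwa [Nat.lcm_one_right] at this) ((v, 0) : R.V × S.V) fun h => hv ?_
      have := sum_prod_f_pow_fst _ _ _ h
      rwa [pow_one, Finset.sum_range_succ, Finset.sum_range_one, pow_zero, pow_one] at this
    refine Or.inr ⟨P.prod (R.prod S), ?_, ?_, ev_prod (ev_of_eq_one rfl) hev, ?_⟩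
    · show B.m + (j + (R.m + S.m)) = m
      omega
    · show (false != (R.b != S.b)) = !B.b
      rw [hRb, hSb]; cases B.b <;> rfl
    · have := dbl_prod (per_one (B := P)) hd
      rwa [Nat.lcm_one_left] at this
  · obtain ⟨R, hRm, hRb, hR2, -, hRr, -, -⟩ := exists_refl (F := F) (!B.b)
    obtain ⟨S, hSm, hSb, hS4, hSp, hSr, v, hv⟩ := exists_quad4 (F := F)
    let P := plusBlk (F := F) j
    have hev : (S.prod R).Ev := ev_prod_odd (by rw [hSr]; decide) (by rw [hRr]; exact odd_one)
    have hd : (S.prod R).Dbl 8 := by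
      refine dbl_two_pow (a := 2) (prod_f_pow_eq_one hS4
        (by rw [show 2 ^ 2 = 2 * 2 from rfl, pow_mul, hR2, one_pow])) (by
        have := per_prod hSp (per_one (B := R))
        rwa [Nat.lcm_one_right] at this) ((v, 0) : S.V × R.V) fun h => hv ?_
      exact sum_prod_f_pow_fst _ _ _ h
    refine Or.inr ⟨P.prod (S.prod R), ?_, ?_, ev_prod (ev_of_eq_one rfl) hev, ?_⟩
    · show B.m + (j + (S.m + R.m)) = m
      omega
    · show (false != (S.b != R.b)) = !B.b
      rw [hRb, hSb]; cases B.b <;> rfl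
    · have := dbl_prod (per_one (B := P)) hd
      rwa [Nat.lcm_one_left] at this

end Cfsg.Agent.Spectrum.QuadBlocks
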