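import Cfsg.Agent.Lib.Spectrum.SL2Kron

/-!
`SL(2, q²)` with the involutory Frobenius: tori and kernels of tensor representations.
-/

set_option autoImplicit false
set_option maxHeartbeats 400000

open Matrix
open scoped MatrixGroups Kronecker

namespace Cfsg.Agent.Spectrum.SL2Kron

variable {K : Type} [Field K]

theorem sq_one_of_scalar (g : SL(2, K)) {c : K} (h : g.1 = c • 1) : c * c = 1 := by
  have := g.2
  rwa [h, Matrix.det_smul, Matrix.det_one, mul_one, Fintype.card_fin, sq] at this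

theorem pow_eq_of_sq {c : K} (hc : c * c = 1) {k : ℕ} (hk : Odd k) : c ^ k = c := by
  obtain ⟨j, rfl⟩ := hk
  rw [pow_succ, pow_mul, sq, hc, one_pow, one_mul]

theorem exists_scalar_of_pow {L : Type*} [Field L] (ι : K →+* L) (g : SL(2, K)) {a : L} (ha : a ≠ 0)
    (ha2 : a ^ 2 ≠ 1) (hat : a + a⁻¹ = ι g.1.trace) {k : ℕ} (hk : a ^ (2 * k) = 1) :
    ∃ c : K, (g ^ k).1 = c • 1 := by
  rw [show 2 * k = k * 2 by ring, pow_mul] at hk
  rcases sq_eq_one_iff.1 hk with h | h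
  · exact ⟨1, by rw [Matrix.SpecialLinearGroup.coe_pow, pow_eq_scalar ι g ha ha2 hat (one_mul 1) (by rw [h, map_one])]⟩
  · exact ⟨-1, by rw [Matrix.SpecialLinearGroup.coe_pow,
      pow_eq_scalar (c := -1) ι g ha ha2 hat (by ring) (by rw [h, map_neg, map_one])]⟩

theorem pow_p_scalar (p : ℕ) [Fact p.Prime] [CharP K p] (hp : p ≠ 2) (g : SL(2, K)) {c : K} (hc : c * c = 1)
    (h : (g.1 - c • 1) * (g.1 - c • 1) = 0) : (g ^ p).1 = c • 1 := by
  have h2 : (g.1 - c • 1) ^ p = 0 := by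
    rw [← Nat.add_sub_cancel' (Fact.out : p.Prime).two_le, pow_add, sq, h, zero_mul]
  rw [sub_pow_char_of_commute _ ((Commute.one_right g.1).smul_right c), sub_eq_zero, smul_pow, one_pow,
    pow_eq_of_sq hc ((Fact.out : p.Prime).odd_of_ne_two hp)] at h2
  rw [Matrix.SpecialLinearGroup.coe_pow, h2]

theorem eq_scalar_of_kron_eq_one {m n : Type*} [DecidableEq m] [DecidableEq n] (i₀ : m) (j₀ : n)
    {A : Matrix m m K} {B : Matrix n n K} (h : A ⊗ₖ B = 1) : ∃ c : K, A = c • 1 := by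
  have e : ∀ i i', A i i' * B j₀ j₀ = (1 : Matrix m m K) i i' := fun i i' => by
    have := congrFun (congrFun h (i, j₀)) (i', j₀)
    simpa [Matrix.one_apply] using this
  have h0 : B j₀ j₀ ≠ 0 := fun h0 => by simpa [h0] using e i₀ i₀
  refine ⟨(B j₀ j₀)⁻¹, Matrix.ext fun i i' => ?_⟩
  rw [Matrix.smul_apply, smul_eq_mul, ← e, mul_comm (A i i'), ← mul_assoc, inv_mul_cancel₀ h0, one_mul]

theorem pow_two_mul_eq_one (g : SL(2, K)) {k : ℕ} {c : K} (h : (g ^ k).1 = c • 1) : g ^ (2 * k) = 1 := by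
  apply Subtype.ext
  rw [mul_comm, pow_mul, Matrix.SpecialLinearGroup.coe_pow, h, smul_pow, one_pow, sq,
    sq_one_of_scalar _ h, one_smul]
  rfl

theorem exists_nonsplit [Fintype K] :
    ∃ g : SL(2, K), ∀ k, g ^ k = 1 → Fintype.card K + 1 ∣ k := by
  obtain ⟨g, h4, hc⟩ := PSL2.exists_torus_card_add_one K
  have := PSL2.isCyclic_cent h4
  obtain ⟨t, ht⟩ := IsCyclic.exists_ofOrder_eq_natCard (α := PSL2.cent g)
  refine ⟨t, fun k hk => ?_⟩
  rw [← hc, ← ht, ← Subgroup.orderOf_coe]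
  exact orderOf_dvd_of_pow_eq_one hk

end Cfsg.Agent.Spectrum.SL2Kron
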