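import Cfsg.Agent.Lib.PSL2.Torus

/-!
Kronecker products of elements of `SL(2, K)`: eigenvalues, fixed points, unipotent parts.
-/

set_option autoImplicit false
set_option maxHeartbeats 400000

open Matrix
open scoped MatrixGroups Kronecker

namespace Cfsg.Agent.Spectrum.SL2Kron

/-- No nonzero fixed vector. -/
def Fpf {R : Type*} [CommRing R] {n : Type*} [Fintype n] (M : Matrix n n R) : Prop :=
  ∀ v : n → R, M *ᵥ v = v → v = 0

section Field

variable {L : Type*} [Field L] {m n : Type*} [Fintype m] [DecidableEq m] [Fintype n] [DecidableEq n]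

theorem fpf_of_quad {B : Matrix n n L} {a b s : L} (hB : (B - a • 1) * (B - b • 1) = 0)
    (ha : s * a ≠ 1) (hb : s * b ≠ 1) : Fpf (s • B) := by
  intro v hv
  rw [Matrix.smul_mulVec] at hv
  have h : ((B - a • 1) * (B - b • 1)) *ᵥ v = 0 := by rw [hB, Matrix.zero_mulVec]
  rw [← Matrix.mulVec_mulVec, Matrix.sub_mulVec B (b • 1), Matrix.smul_mulVec, Matrix.one_mulVec,
    Matrix.sub_mulVec, Matrix.mulVec_sub, Matrix.mulVec_sub, Matrix.smul_mulVec, Matrix.one_mulVec,
    Matrix.smul_mulVec, Matrix.one_mulVec, Matrix.mulVec_smul] at h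
  have h' : ((1 - s * a) * (1 - s * b)) • v = 0 := by
    have h1 : (s * s) • (B *ᵥ (B *ᵥ v)) = v := by
      rw [← smul_smul, ← Matrix.mulVec_smul, hv, hv]
    have h2 := congrArg (fun w => (s * s) • w) h
    simp only [smul_sub, smul_zero, smul_smul] at h2
    rw [h1, show s * s * b = (s * b) * s by ring, show s * s * a = (s * a) * s by ring,
      show s * s * (a * b) = (s * a) * (s * b) by ring, mul_smul (s * b) s, mul_smul (s * a) s, hv] at h2
    rw [← h2]
    module
  exact (smul_eq_zero.1 h').resolve_left (mul_ne_zero (sub_ne_zero.2 ha.symm) (sub_ne_zero.2 hb.symm))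

theorem fpf_kron {A : Matrix m m L} {B : Matrix n n L} {a b : L} (hab : a ≠ b)
    (hA : (A - a • 1) * (A - b • 1) = 0) (ha : Fpf (a • B)) (hb : Fpf (b • B)) : Fpf (A ⊗ₖ B) := by
  have hA' : (A - b • 1) * (A - a • 1) = 0 := by
    rw [← hA]
    simp only [sub_mul, mul_sub, smul_mul_assoc, mul_smul_comm, one_mul, mul_one]
    module
  have key : ∀ c d : L, (A - c • 1) * (A - d • 1) = 0 → Fpf (c • B) → ∀ v, (A ⊗ₖ B) *ᵥ v = v →
      ((A - d • 1) ⊗ₖ (1 : Matrix n n L)) *ᵥ v = 0 := by
    intro c d hcd hc v hv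
    set w := ((A - d • 1) ⊗ₖ (1 : Matrix n n L)) *ᵥ v with hw
    have hA1 : A * (A - d • 1) = c • (A - d • 1) := by
      rw [← sub_eq_zero, ← hcd, sub_mul, smul_mul_assoc, one_mul]
    have hcom : A * (A - d • 1) = (A - d • 1) * A := by
      simp only [sub_mul, mul_sub, smul_mul_assoc, mul_smul_comm, one_mul, mul_one]
    have hwf : ((1 : Matrix m m L) ⊗ₖ (c • B)) *ᵥ w = w := by
      rw [hw, Matrix.mulVec_mulVec, ← Matrix.mul_kronecker_mul, one_mul, mul_one, Matrix.kronecker_smul,
        ← Matrix.smul_kronecker, ← hA1, hcom]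
      conv_lhs => rw [← one_mul B, Matrix.mul_kronecker_mul, ← Matrix.mulVec_mulVec, hv]
    funext ij
    obtain ⟨i, j⟩ := ij
    refine congrFun (hc (fun j' => w (i, j')) (funext fun k => ?_)) j
    conv_rhs => rw [← hwf]
    simp [Matrix.mulVec, dotProduct, Fintype.sum_prod_type, Matrix.one_apply, ite_mul]
  intro v hv
  have h := congrArg₂ (· - ·) (key a b hA ha v hv) (key b a hA' hb v hv)
  simp only [sub_zero] at h
  rw [← Matrix.sub_mulVec, show (A - b • 1) ⊗ₖ (1 : Matrix n n L) - (A - a • 1) ⊗ₖ (1 : Matrix n n L) =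
    (a - b) • 1 by
      ext ⟨i, j⟩ ⟨i', j'⟩
      simp [Matrix.one_apply]
      split_ifs <;> simp_all] at h
  rw [Matrix.smul_mulVec, Matrix.one_mulVec] at h
  exact (smul_eq_zero.1 h).resolve_left (sub_ne_zero.2 hab)

omit [DecidableEq n] in
theorem fpf_of_map {K : Type*} [Field K] {M : Matrix n n K} (ι : K →+* L) (h : Fpf (M.map ι)) : Fpf M := by
  intro v hv
  have h1 := h (ι ∘ v) (funext fun i => by rw [← RingHom.map_mulVec, hv]; rfl)
  exact funext fun i => ι.injective (by rw [Pi.zero_apply, map_zero]; exact congrFun h1 i)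

theorem sum_eq_zero_of_fpf {M : Matrix n n L} (hM : Fpf M) {k : ℕ} (hk : M ^ k = 1) :
    ∑ i ∈ Finset.range k, M ^ i = 0 := by
  have h : M * ∑ i ∈ Finset.range k, M ^ i = ∑ i ∈ Finset.range k, M ^ i := by
    have h1 := mul_geom_sum M k
    rwa [hk, sub_self, sub_mul, one_mul, sub_eq_zero] at h1
  refine Matrix.ext_iff_mulVec.2 fun v => ?_
  rw [Matrix.zero_mulVec]
  exact hM _ (by rw [Matrix.mulVec_mulVec, h])

end Field

section Ring

variable {R : Type*} [Ring R]

theorem geom_sum_char (K : Type*) [Field K] [Algebra K R] (p : ℕ) [hp : Fact p.Prime] [CharP K p] (x : R) :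
    ∑ i ∈ Finset.range p, x ^ i = (x - 1) ^ (p - 1) := by
  have h : ∑ i ∈ Finset.range p, (Polynomial.X : Polynomial K) ^ i = (Polynomial.X - 1) ^ (p - 1) := by
    refine mul_right_cancel₀ (b := (Polynomial.X : Polynomial K) - 1)
      (by simpa using Polynomial.X_sub_C_ne_zero (1 : K)) ?_
    rw [geom_sum_mul, ← pow_succ, Nat.sub_add_cancel hp.out.one_le, sub_pow_char, one_pow]
  simpa using congrArg (Polynomial.aeval x) h

theorem cube_eq_zero {x y : R} (hxy : Commute x y) (hx : x * x = 0) (hy : y * y = 0) :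
    (x + y + x * y) ^ 3 = 0 := by
  have hyx : ∀ z, y * (x * z) = x * (y * z) := fun z => by rw [← mul_assoc, ← hxy.eq, mul_assoc]
  have hx' : ∀ z, x * (x * z) = 0 := fun z => by rw [← mul_assoc, hx, zero_mul]
  have hy' : ∀ z, y * (y * z) = 0 := fun z => by rw [← mul_assoc, hy, zero_mul]
  simp only [pow_succ, pow_zero, one_mul, add_mul, mul_add, mul_assoc, hyx, hx', hy', hx, hy, ← hxy.eq,
    mul_zero, zero_mul, add_zero]

end Ring

section Two

variable {K : Type*} [Field K]

/-- Cayley–Hamilton on `SL(2, K)`. -/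
theorem quad (g : SL(2, K)) : g.1 * g.1 = g.1.trace • g.1 - 1 := by
  have hd := PSL2.det_eq g
  ext i j
  fin_cases i <;> fin_cases j <;> simp [Matrix.mul_apply, Fin.sum_univ_two, Matrix.trace_fin_two] <;>
    first | ring1 | linear_combination hd | linear_combination -hd

/-- The factorisation over a root. -/
theorem quad_root {L : Type*} [Field L] (ι : K →+* L) (g : SL(2, K)) {a : L} (ha : a ≠ 0)
    (hat : a + a⁻¹ = ι g.1.trace) : (g.1.map ι - a • 1) * (g.1.map ι - a⁻¹ • 1) = 0 := by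
  have h := congrArg (fun M : Matrix (Fin 2) (Fin 2) K => ι.mapMatrix M) (quad g)
  simp only [map_mul, map_sub, map_one, RingHom.mapMatrix_apply] at h
  rw [show (g.1.trace • g.1).map ι = ι g.1.trace • g.1.map ι from
    Matrix.ext fun i j => map_mul ι _ _, ← hat] at h
  simp only [sub_mul, mul_sub, smul_mul_assoc, mul_smul_comm, one_mul, mul_one, h]
  match_scalars <;> simp [ha]

/-- Powers from a root. -/
theorem pow_of_root {L : Type*} [Field L] {n : Type*} [Fintype n] [DecidableEq n] {A : Matrix n n L}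
    {a b : L} (hA : (A - a • 1) * (A - b • 1) = 0) (k : ℕ) :
    (a - b) • A ^ k = a ^ k • (A - b • 1) - b ^ k • (A - a • 1) := by
  induction k with
  | zero => simp; module
  | succ k ih =>
    have h2 : A * A = (a + b) • A - (a * b) • 1 := by
      rw [← sub_eq_zero, ← hA]
      simp only [sub_mul, mul_sub, smul_mul_assoc, mul_smul_comm, one_mul, mul_one]
      module
    rw [pow_succ, ← smul_mul_assoc, ih]
    simp only [sub_mul, smul_mul_assoc, one_mul, h2, pow_succ]
    module

theorem pow_eq_scalar {L : Type*} [Field L] (ι : K →+* L) (g : SL(2, K)) {a : L} (ha : a ≠ 0)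
    (ha2 : a ^ 2 ≠ 1) (hat : a + a⁻¹ = ι g.1.trace) {k : ℕ} {c : K} (hc : c * c = 1) (hk : a ^ k = ι c) :
    g.1 ^ k = c • 1 := by
  have hne : a - a⁻¹ ≠ 0 := fun h => ha2 (by rw [sub_eq_zero] at h; rw [sq]; nth_rw 2 [h]; exact mul_inv_cancel₀ ha)
  have h := pow_of_root (quad_root ι g ha hat) k
  have hk' : a⁻¹ ^ k = ι c := by
    rw [inv_pow, hk]; exact inv_eq_of_mul_eq_one_right (by rw [← map_mul, hc, map_one])
  rw [hk, hk', ← smul_sub, show (g.1.map ι - a⁻¹ • (1 : Matrix (Fin 2) (Fin 2) L)) - (g.1.map ι - a • 1) =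
    (a - a⁻¹) • 1 by module, smul_comm] at h
  have h1 : (g.1.map ι) ^ k = ι c • 1 := smul_right_injective _ hne h
  refine Matrix.map_injective ι.injective ?_
  show (g.1 ^ k).map ι = (c • (1 : Matrix (Fin 2) (Fin 2) K)).map ι
  rw [show (g.1 ^ k).map ι = g.1.map ι ^ k from map_pow ι.mapMatrix g.1 k, h1]
  ext i j
  simp [Matrix.one_apply]
  split_ifs <;> simp

/-- A root of the characteristic polynomial, or a scalar times a unipotent. -/
theorem cases (L : Type*) [Field L] [IsAlgClosed L] (ι : K →+* L) (g : SL(2, K)) :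
    (∃ c : K, c * c = 1 ∧ (g.1 - c • 1) * (g.1 - c • 1) = 0) ∨
      ∃ a : L, a ≠ 0 ∧ a ^ 2 ≠ 1 ∧ a + a⁻¹ = ι g.1.trace := by
  obtain ⟨a, ha⟩ := IsAlgClosed.exists_root
    (Polynomial.X ^ 2 - Polynomial.C (ι g.1.trace) * Polynomial.X + 1) (by
      rw [show (Polynomial.X ^ 2 - Polynomial.C (ι g.1.trace) * Polynomial.X + 1 : Polynomial L).degree = 2 by
        compute_degree!]
      norm_num)
  simp only [Polynomial.IsRoot, Polynomial.eval_add, Polynomial.eval_sub, Polynomial.eval_pow,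
    Polynomial.eval_mul, Polynomial.eval_C, Polynomial.eval_X, Polynomial.eval_one] at ha
  have ha0 : a ≠ 0 := fun h => by simp [h] at ha
  have hat : a + a⁻¹ = ι g.1.trace := by field_simp; linear_combination ha
  by_cases h2 : a ^ 2 = 1
  · left
    rcases sq_eq_one_iff.1 h2 with rfl | rfl
    · refine ⟨1, one_mul 1, ?_⟩
      have ht : g.1.trace = 2 := ι.injective (by rw [← hat, inv_one, map_ofNat]; norm_num)
      simp only [sub_mul, mul_sub, one_smul, one_mul, mul_one, quad g, ht]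
      module
    · refine ⟨-1, by ring, ?_⟩
      have ht : g.1.trace = -2 := ι.injective (by rw [← hat, inv_neg, inv_one, map_neg, map_ofNat]; norm_num)
      simp only [sub_mul, mul_sub, neg_smul, one_smul, neg_mul, mul_neg, one_mul, mul_one, quad g, ht]
      module
  · exact Or.inr ⟨a, ha0, h2, hat⟩

theorem root_exp {L : Type*} [Field L] (p : ℕ) [Fact p.Prime] [CharP L p] {a t : L} (ha : a ≠ 0)
    (hat : a + a⁻¹ = t) (e : ℕ) (ht : t ^ p ^ e = t) : a ^ (p ^ e - 1) = 1 ∨ a ^ (p ^ e + 1) = 1 := by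
  have h1 : 0 < p ^ e := Nat.pow_pos (Fact.out : p.Prime).pos
  rw [← hat, add_pow_char_pow, inv_pow] at ht
  have h0 : a ^ p ^ e ≠ 0 := pow_ne_zero _ ha
  have h : (a ^ p ^ e - a) * (a ^ p ^ e * a - 1) = 0 := by
    field_simp at ht
    linear_combination ht
  rcases mul_eq_zero.1 h with h | h <;> rw [sub_eq_zero] at h
  · left
    refine mul_right_cancel₀ ha ?_
    rw [← pow_succ, Nat.sub_add_cancel h1, h, one_mul]
  · right; rw [pow_succ, h]

end Two

end Cfsg.Agent.Spectrum.SL2Kron
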