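import Cfsg.Agent.Lib.Forms.SympOrthCover
import Cfsg.Agent.Lib.GL.ElementOrders
import Cfsg.Agent.Lib.GL.SympOrders

/-!
# Orders realised in orthogonal groups inside `Sp_{2m}(q)`, `q` even

`Realised m k s`: some matrix of order divisible by `k` fixes a quadratic form `tw w` polarising to
the standard alternating form, of plus type iff `s`.  Realisations add up along orthogonal sums.
-/

set_option autoImplicit false
set_option linter.unusedSectionVars false

namespace Cfsg.Agent.Spectrum.SympBlocks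

open Cfsg.Agent.Forms Cfsg.Agent.Forms.SympOrthCover
open scoped Matrix
open Cfsg.Agent.GL

variable {F : Type*} [Field F] [Fintype F] [CharP F 2]

/-- See the module description. -/
def Realised (F : Type*) [Field F] [Fintype F] [CharP F 2] (m k : ℕ) (s : Prop) : Prop :=
  ∃ g : Matrix.GeneralLinearGroup (Fin m ⊕ Fin m) F, ∃ w : Fin m ⊕ Fin m → F,
    (∀ v, tw w ((g : Matrix (Fin m ⊕ Fin m) (Fin m ⊕ Fin m) F) *ᵥ v) = tw w v) ∧
      (AS (quadPlus m F w) ↔ s) ∧ k ∣ orderOf g

theorem Realised.congr {m k : ℕ} {s t : Prop} (h : Realised F m k s) (hst : s ↔ t) :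
    Realised F m k t := by
  obtain ⟨g, w, h1, h2, h3⟩ := h
  exact ⟨g, w, h1, h2.trans hst, h3⟩

theorem sympForm_eq (m : ℕ) (u v : Fin m ⊕ Fin m → F) :
    sympForm m F u v = ∑ i, (u (.inl i) * v (.inr i) + u (.inr i) * v (.inl i)) := by
  unfold sympForm Matrix.J
  simp [dotProduct, Matrix.mulVec, Fintype.sum_sum_type, Matrix.fromBlocks, Finset.sum_add_distrib,
    CharTwo.neg_eq, Matrix.one_apply]

theorem quadPlus_eq (m : ℕ) (v : Fin m ⊕ Fin m → F) :
    quadPlus m F v = ∑ i, v (.inl i) * v (.inr i) := quadPlus_apply v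

/-- Orthogonal sum. -/
theorem Realised.sum {a b j k : ℕ} {s t : Prop} (h1 : Realised F a j s) (h2 : Realised F b k t) :
    Realised F (a + b) (Nat.lcm j k) (s ↔ t) := by
  classical
  obtain ⟨g₁, w₁, hg₁, hs, hj⟩ := h1
  obtain ⟨g₂, w₂, hg₂, ht, hk⟩ := h2
  let σ : (Fin a ⊕ Fin a) ⊕ (Fin b ⊕ Fin b) ≃ Fin (a + b) ⊕ Fin (a + b) :=
    (Equiv.sumSumSumComm _ _ _ _).trans (finSumFinEquiv.sumCongr finSumFinEquiv)
  let blk : Matrix (Fin a ⊕ Fin a) (Fin a ⊕ Fin a) F × Matrix (Fin b ⊕ Fin b) (Fin b ⊕ Fin b) F →*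
      Matrix (Fin (a + b) ⊕ Fin (a + b)) (Fin (a + b) ⊕ Fin (a + b)) F :=
    { toFun := fun A => Matrix.reindexAlgEquiv F F σ (Matrix.fromBlocks A.1 0 0 A.2)
      map_one' := by rw [Prod.fst_one, Prod.snd_one, Matrix.fromBlocks_one, map_one]
      map_mul' := fun A B => by
        rw [← map_mul, Matrix.fromBlocks_multiply]
        simp }
  have hinj : Function.Injective blk := fun A B h => by
    obtain ⟨h1, -, -, h2⟩ := Matrix.fromBlocks_inj.1 ((Matrix.reindexAlgEquiv F F σ).injective h)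
    exact Prod.ext h1 h2
  let Φ := (Units.map blk).comp MulEquiv.prodUnits.symm.toMonoidHom
  refine ⟨Φ (g₁, g₂), fun i => Sum.elim w₁ w₂ (σ.symm i), fun v => ?_, ?_, ?_⟩
  · have hsplit : ∀ (w v : Fin (a + b) ⊕ Fin (a + b) → F),
        tw w v = quadPlus a F (fun i => v (σ (.inl i))) + quadPlus b F (fun i => v (σ (.inr i))) +
          ((sympForm a F (fun i => w (σ (.inl i))) fun i => v (σ (.inl i))) ^ 2 +
            (sympForm b F (fun i => w (σ (.inr i))) fun i => v (σ (.inr i))) ^ 2) := by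
      intro w v
      have h11 : ∀ i, σ (.inl (.inl i)) = .inl (Fin.castAdd b i) := fun _ => rfl
      have h12 : ∀ i, σ (.inl (.inr i)) = .inr (Fin.castAdd b i) := fun _ => rfl
      have h21 : ∀ i, σ (.inr (.inl i)) = .inl (Fin.natAdd a i) := fun _ => rfl
      have h22 : ∀ i, σ (.inr (.inr i)) = .inr (Fin.natAdd a i) := fun _ => rfl
      rw [tw, ← sq]
      simp only [quadPlus_eq, sympForm_eq, Fin.sum_univ_add, h11, h12, h21, h22]
      rw [CharTwo.add_sq]
    have hΦ : ((Φ (g₁, g₂) : Matrix.GeneralLinearGroup (Fin (a + b) ⊕ Fin (a + b)) F) :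
        Matrix (Fin (a + b) ⊕ Fin (a + b)) (Fin (a + b) ⊕ Fin (a + b)) F) =
        (Matrix.fromBlocks (g₁ : Matrix (Fin a ⊕ Fin a) (Fin a ⊕ Fin a) F) 0 0
          (g₂ : Matrix (Fin b ⊕ Fin b) (Fin b ⊕ Fin b) F)).submatrix σ.symm σ.symm := rfl
    rw [hsplit, hsplit, hΦ]
    have e1 : (fun i => ((Matrix.fromBlocks (g₁ : Matrix (Fin a ⊕ Fin a) (Fin a ⊕ Fin a) F) 0 0
        (g₂ : Matrix (Fin b ⊕ Fin b) (Fin b ⊕ Fin b) F)).submatrix σ.symm σ.symm *ᵥ v) (σ (.inl i))) =
        (g₁ : Matrix (Fin a ⊕ Fin a) (Fin a ⊕ Fin a) F) *ᵥ fun i => v (σ (.inl i)) := by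
      funext i
      rw [Matrix.submatrix_mulVec_equiv, Function.comp_apply, σ.symm_apply_apply, Equiv.symm_symm]
      simp [Matrix.fromBlocks_mulVec, Function.comp_def]
    have e2 : (fun i => ((Matrix.fromBlocks (g₁ : Matrix (Fin a ⊕ Fin a) (Fin a ⊕ Fin a) F) 0 0
        (g₂ : Matrix (Fin b ⊕ Fin b) (Fin b ⊕ Fin b) F)).submatrix σ.symm σ.symm *ᵥ v) (σ (.inr i))) =
        (g₂ : Matrix (Fin b ⊕ Fin b) (Fin b ⊕ Fin b) F) *ᵥ fun i => v (σ (.inr i)) := by
      funext i
      rw [Matrix.submatrix_mulVec_equiv, Function.comp_apply, σ.symm_apply_apply, Equiv.symm_symm]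
      simp [Matrix.fromBlocks_mulVec, Function.comp_def]
    rw [e1, e2]
    simp only [Equiv.symm_apply_apply, Sum.elim_inl, Sum.elim_inr]
    have h1 := hg₁ fun i => v (σ (.inl i))
    have h2 := hg₂ fun i => v (σ (.inr i))
    rw [tw, tw, ← sq, ← sq] at h1 h2
    linear_combination h1 + h2
  · rw [quadPlus_eq, Fin.sum_univ_add]
    have e : ∀ i, σ.symm (.inl (Fin.castAdd b i)) = .inl (.inl i) ∧
        σ.symm (.inr (Fin.castAdd b i)) = .inl (.inr i) := fun i =>
      ⟨σ.symm_apply_eq.2 (by simp [σ]), σ.symm_apply_eq.2 (by simp [σ])⟩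
    have e' : ∀ i, σ.symm (.inl (Fin.natAdd a i)) = .inr (.inl i) ∧
        σ.symm (.inr (Fin.natAdd a i)) = .inr (.inr i) := fun i =>
      ⟨σ.symm_apply_eq.2 (by simp [σ]), σ.symm_apply_eq.2 (by simp [σ])⟩
    simp only [(e _).1, (e _).2, (e' _).1, (e' _).2, Sum.elim_inl, Sum.elim_inr, ← quadPlus_eq]
    rw [as_add_iff, hs, ht]
  · have hΦi : Function.Injective Φ :=
      (Units.map_injective hinj).comp MulEquiv.prodUnits.symm.injective
    rw [orderOf_injective Φ hΦi, Prod.orderOf_mk]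
    exact Nat.lcm_dvd (hj.trans (Nat.dvd_lcm_left _ _)) (hk.trans (Nat.dvd_lcm_right _ _))

/-- The split torus. -/
theorem realised_split (d : ℕ) (hd : 0 < d) : Realised F d (Fintype.card F ^ d - 1) True := by
  obtain ⟨A, hA⟩ := GL.exists_orderOf_card_pow_sub_one (F := F) hd (le_refl d)
  let ψ : Matrix.GeneralLinearGroup (Fin d) F →* Matrix (Fin d ⊕ Fin d) (Fin d ⊕ Fin d) F :=
    { toFun := fun B => Matrix.fromBlocks (B : Matrix (Fin d) (Fin d) F) 0 0
        ((B⁻¹ : Matrix.GeneralLinearGroup (Fin d) F) : Matrix (Fin d) (Fin d) F)ᵀ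
      map_one' := by simp [Matrix.fromBlocks_one]
      map_mul' := fun B C => by
        rw [Matrix.fromBlocks_multiply, mul_inv_rev, Units.val_mul, Units.val_mul, Matrix.transpose_mul]
        simp }
  have hψ : Function.Injective ψ.toHomUnits := fun B C h => by
    exact Units.ext (Matrix.fromBlocks_inj.1 (congrArg Units.val h)).1
  refine ⟨ψ.toHomUnits A, 0, fun v => ?_, iff_true_intro ⟨0, by rw [map_zero]; ring⟩, ?_⟩
  · have h0 : ∀ x, tw (0 : Fin d ⊕ Fin d → F) x = quadPlus d F x := fun x => by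
      rw [tw, show sympForm d F 0 x = 0 from zero_dotProduct _, mul_zero, add_zero]
    rw [h0, h0, MonoidHom.coe_toHomUnits]
    change quadPlus d F (Matrix.fromBlocks _ 0 0 _ *ᵥ v) = _
    rw [quadPlus_eq, quadPlus_eq, Matrix.fromBlocks_mulVec]
    simp only [Sum.elim_inl, Sum.elim_inr, Matrix.zero_mulVec, add_zero, zero_add]
    change (_ *ᵥ (v ∘ Sum.inl)) ⬝ᵥ (_ *ᵥ (v ∘ Sum.inr)) = (v ∘ Sum.inl) ⬝ᵥ (v ∘ Sum.inr)
    rw [Matrix.mulVec_transpose, dotProduct_comm, ← Matrix.dotProduct_mulVec, Matrix.mulVec_mulVec,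
      ← Units.val_mul, inv_mul_cancel, Units.val_one, Matrix.one_mulVec, dotProduct_comm]
  · rw [orderOf_injective _ hψ, hA]

/-- The number of singular vectors of the standard plus form. -/
theorem card_singular (m : ℕ) (hm : 0 < m) :
    Nat.card {v : Fin m ⊕ Fin m → F // quadPlus m F v = 0} =
      Fintype.card F ^ m + (Fintype.card F ^ m - 1) * Fintype.card F ^ (m - 1) := by
  classical
  let e : {v : Fin m ⊕ Fin m → F // quadPlus m F v = 0} ≃
      Σ x : Fin m → F, {y : Fin m → F // x ⬝ᵥ y = 0} :=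
    { toFun := fun v => ⟨v.1 ∘ Sum.inl, v.1 ∘ Sum.inr, (quadPlus_eq m v.1).symm.trans v.2⟩
      invFun := fun p => ⟨Sum.elim p.1 p.2.1, by rw [quadPlus_eq]; exact p.2.2⟩
      left_inv := fun v => Subtype.ext (Sum.elim_comp_inl_inr v.1)
      right_inv := fun p => rfl }
  rw [Nat.card_congr e, Nat.card_sigma, ← Finset.add_sum_erase _ _ (Finset.mem_univ (0 : Fin m → F))]
  have h0 : Nat.card {y : Fin m → F // (0 : Fin m → F) ⬝ᵥ y = 0} = Fintype.card F ^ m := by
    rw [Nat.card_congr (Equiv.subtypeUnivEquiv fun y => zero_dotProduct y), Nat.card_eq_fintype_card,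
      Fintype.card_pi_const]
  have hx : ∀ x ∈ Finset.univ.erase (0 : Fin m → F),
      Nat.card {y : Fin m → F // x ⬝ᵥ y = 0} = Fintype.card F ^ (m - 1) := by
    intro x hx
    obtain ⟨i, hi⟩ := Function.ne_iff.1 (Finset.ne_of_mem_erase hx)
    let L : (Fin m → F) →ₗ[F] F :=
      { toFun := fun y => x ⬝ᵥ y
        map_add' := fun y z => dotProduct_add x y z
        map_smul' := fun c y => by simp [dotProduct_smul] }
    have hsur : Function.Surjective L := fun c => ⟨Pi.single i (c / x i), by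
      change x ⬝ᵥ _ = c
      rw [dotProduct_single, mul_div_cancel₀ c hi]⟩
    have hr := L.finrank_range_add_finrank_ker
    rw [LinearMap.range_eq_top.2 hsur, finrank_top, Module.finrank_self, Module.finrank_fin_fun] at hr
    rw [show Nat.card {y : Fin m → F // x ⬝ᵥ y = 0} = Nat.card L.ker from rfl,
      Module.natCard_eq_pow_finrank (K := F), Nat.card_eq_fintype_card]
    congr 1
    omega
  rw [h0, Finset.sum_congr rfl hx, Finset.sum_const, Finset.card_erase_of_mem (Finset.mem_univ _),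
    Finset.card_univ, Fintype.card_pi_const, smul_eq_mul]

/-- An element of order `q ^ e + 1` acting semiregularly fixes only forms of minus type. -/
theorem realised_of_semiregular {e : ℕ} (he : 0 < e)
    {g : Matrix.GeneralLinearGroup (Fin e ⊕ Fin e) F} (hg : g ∈ spGL e F)
    (hord : orderOf g = Fintype.card F ^ e + 1)
    (hfree : ∀ (i : ℕ) (v : Fin e ⊕ Fin e → F), v ≠ 0 →
      ((g ^ i : Matrix.GeneralLinearGroup (Fin e ⊕ Fin e) F) :
        Matrix (Fin e ⊕ Fin e) (Fin e ⊕ Fin e) F) *ᵥ v = v → g ^ i = 1) :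
    Realised F e (Fintype.card F ^ e + 1) False := by
  classical
  set q := Fintype.card F with hq
  have hq2 : 2 ∣ q := by
    rw [← CharP.cast_eq_zero_iff F 2]; exact Nat.cast_card_eq_zero F
  have hqe : 2 ∣ q ^ e := dvd_pow hq2 he.ne'
  set N := q ^ e + 1 with hN
  have hNF : (N : F) = 1 := by
    obtain ⟨c, hc⟩ := hqe
    rw [hN, hc, Nat.cast_add, Nat.cast_mul, Nat.cast_ofNat, CharTwo.two_eq_zero, zero_mul, zero_add,
      Nat.cast_one]
  -- the average of the translates of the standard form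
  let Q : (Fin e ⊕ Fin e → F) → F := fun v => ∑ i ∈ Finset.range N,
    quadPlus e F (((g ^ i : Matrix.GeneralLinearGroup (Fin e ⊕ Fin e) F) :
      Matrix (Fin e ⊕ Fin e) (Fin e ⊕ Fin e) F) *ᵥ v)
  have hQ : IsForm Q := by
    refine ⟨fun c v => ?_, fun u v => ?_⟩
    · rw [Finset.mul_sum]
      exact Finset.sum_congr rfl fun i _ => ((isForm_quad (F := F)).comp (pow_mem hg i)).smul c v
    · simp only [Q]
      rw [Finset.sum_congr rfl fun i _ => ((isForm_quad (F := F)).comp (pow_mem hg i)).add u v,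
        Finset.sum_add_distrib, Finset.sum_add_distrib, Finset.sum_const, Finset.card_range,
        nsmul_eq_mul, hNF, one_mul]
  have hQg : ∀ v, Q ((g : Matrix (Fin e ⊕ Fin e) (Fin e ⊕ Fin e) F) *ᵥ v) = Q v := by
    intro v
    let u : ℕ → F := fun i => quadPlus e F (((g ^ i : Matrix.GeneralLinearGroup (Fin e ⊕ Fin e) F) :
      Matrix (Fin e ⊕ Fin e) (Fin e ⊕ Fin e) F) *ᵥ v)
    have hu : u N = u 0 := by
      simp only [u]
      rw [← hord, pow_orderOf_eq_one, pow_zero]
    have hshift : Q ((g : Matrix (Fin e ⊕ Fin e) (Fin e ⊕ Fin e) F) *ᵥ v) =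
        ∑ i ∈ Finset.range N, u (i + 1) := Finset.sum_congr rfl fun i _ => by
      rw [Matrix.mulVec_mulVec, ← Units.val_mul, ← pow_succ]
    have hsum : ∑ i ∈ Finset.range N, u (i + 1) + u 0 = ∑ i ∈ Finset.range N, u i + u N := by
      rw [← Finset.sum_range_succ', ← Finset.sum_range_succ]
    rw [hu] at hsum
    rw [hshift]
    exact add_right_cancel hsum
  obtain ⟨w, hw⟩ := hQ.exists_tw
  refine ⟨g, w, fun v => by rw [← hw, ← hw, hQg], iff_false_intro fun has => ?_, hord ▸ dvd_rfl⟩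
  -- otherwise `g` permutes the singular vectors of the standard plus form semiregularly
  have hP : Plus Q := by rw [funext hw]; exact (plus_tw_iff w).2 has
  obtain ⟨h, -, hh⟩ := exists_equiv (isForm_quad (F := F)) hQ (iff_of_true hP plus_quad)
  let S := {v : Fin e ⊕ Fin e → F // Q v = 0}
  have hS : Nat.card S = q ^ e + (q ^ e - 1) * q ^ (e - 1) := by
    rw [← card_singular e he]
    exact Nat.card_congr
      { toFun := fun v => ⟨(h : Matrix _ _ F) *ᵥ v.1, (hh v.1).trans v.2⟩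
        invFun := fun v => ⟨((h⁻¹ : Matrix.GeneralLinearGroup (Fin e ⊕ Fin e) F) : Matrix _ _ F) *ᵥ v.1,
          (hh _).symm.trans (by rw [mulVec_inv_mulVec]; exact v.2)⟩
        left_inv := fun v => Subtype.ext (inv_mulVec_mulVec h v.1)
        right_inv := fun v => Subtype.ext (mulVec_inv_mulVec h v.1) }
  let S' := {v : S // v.1 ≠ 0}
  have hQzero : Q 0 = 0 := by
    have := hQ.smul 0 0
    rw [zero_smul] at this
    rw [this, mul_zero, zero_mul]
  have hS' : Nat.card S = Nat.card S' + 1 := by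
    have := Nat.card_congr (Equiv.sumCompl fun v : S => v.1 ≠ 0)
    rw [Nat.card_sum] at this
    rw [← this]
    congr 1
    rw [Nat.card_eq_one_iff_unique]
    exact ⟨⟨fun a b => Subtype.ext (Subtype.ext ((not_ne_iff.1 a.2).trans (not_ne_iff.1 b.2).symm))⟩,
      ⟨⟨⟨0, hQzero⟩, not_ne_iff.2 rfl⟩⟩⟩
  let G := Subgroup.zpowers g
  have hGpow : ∀ (i : ℕ) v, Q (((g ^ i : Matrix.GeneralLinearGroup (Fin e ⊕ Fin e) F) :
      Matrix (Fin e ⊕ Fin e) (Fin e ⊕ Fin e) F) *ᵥ v) = Q v := by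
    intro i
    induction i with
    | zero => intro v; simp
    | succ i ih =>
      intro v
      rw [pow_succ', Units.val_mul, ← Matrix.mulVec_mulVec, hQg]
      exact ih v
  have hG : ∀ (x : G) v, Q (((x : Matrix.GeneralLinearGroup (Fin e ⊕ Fin e) F) :
      Matrix (Fin e ⊕ Fin e) (Fin e ⊕ Fin e) F) *ᵥ v) = Q v := by
    rintro ⟨x, hx⟩ v
    obtain ⟨i, rfl⟩ := (mem_powers_iff_mem_zpowers (x := g)).2 hx
    exact hGpow i v
  let _ : MulAction G S' :=
    { smul := fun x v => ⟨⟨((x : Matrix.GeneralLinearGroup (Fin e ⊕ Fin e) F) : Matrix _ _ F) *ᵥ v.1.1,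
        by rw [hG]; exact v.1.2⟩, fun h0 => v.2 (by
          have := congrArg (fun u => (Units.val
            (x : Matrix.GeneralLinearGroup (Fin e ⊕ Fin e) F)⁻¹) *ᵥ u) h0
          simpa [inv_mulVec_mulVec] using this)⟩
      one_smul := fun v => Subtype.ext (Subtype.ext (Matrix.one_mulVec _))
      mul_smul := fun x y v => Subtype.ext (Subtype.ext (by
        change Units.val (((x * y : G) : Matrix.GeneralLinearGroup (Fin e ⊕ Fin e) F)) *ᵥ v.1.1 =
          Units.val (x : Matrix.GeneralLinearGroup (Fin e ⊕ Fin e) F) *ᵥ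
            (Units.val (y : Matrix.GeneralLinearGroup (Fin e ⊕ Fin e) F) *ᵥ v.1.1)
        rw [Matrix.mulVec_mulVec, ← Units.val_mul, ← Subgroup.coe_mul])) }
  have hstab : ∀ v : S', MulAction.stabilizer G v = ⊥ := by
    intro v
    rw [eq_bot_iff]
    rintro ⟨x, hx⟩ hfix
    obtain ⟨i, rfl⟩ := (mem_powers_iff_mem_zpowers (x := g)).2 hx
    exact Subgroup.mem_bot.2 (Subtype.ext (hfree i v.1.1 v.2
      (congrArg (fun u : S' => u.1.1) hfix)))
  have hdvd : N ∣ Nat.card S' := by
    refine ⟨Nat.card (Quotient (MulAction.orbitRel G S')), ?_⟩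
    rw [Nat.card_congr (MulAction.selfEquivSigmaOrbitsQuotientStabilizer G S')]
    have : Fintype (Quotient (MulAction.orbitRel G S')) := Fintype.ofFinite _
    rw [Nat.card_sigma, Finset.sum_congr rfl fun v _ => show Nat.card (G ⧸ MulAction.stabilizer G
      (Quotient.out v)) = N by
        rw [hstab, Nat.card_congr (QuotientGroup.quotientBot (G := G)).toEquiv, Nat.card_zpowers, hord]]
    rw [Finset.sum_const, Finset.card_univ, Nat.card_eq_fintype_card, smul_eq_mul, mul_comm]
  -- but `q ^ e + 1` does not divide `(q ^ e - 1) (q ^ (e - 1) + 1)`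
  obtain ⟨c, hc⟩ := hqe
  obtain ⟨f, rfl⟩ : ∃ f, e = f + 1 := ⟨e - 1, by omega⟩
  set A := q ^ f
  have hA : q ^ (f + 1) = q * A := pow_succ' q f
  have hApos : 0 < A := Nat.pos_of_ne_zero (pow_ne_zero _ Fintype.card_ne_zero)
  have h2q : 2 ≤ q := Fintype.one_lt_card
  have hlt : 2 * A ≤ q * A := Nat.mul_le_mul_right A h2q
  have hcop : N ∣ 2 * (A + 1) := by
    have h1 : Nat.card S' = (q ^ (f + 1) - 1) * (A + 1) := by
      rw [Nat.mul_add, mul_one]
      simp only [Nat.add_sub_cancel] at hS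
      rw [show q ^ f = A from rfl] at hS
      omega
    rw [h1] at hdvd
    obtain ⟨t, ht⟩ : ∃ t, q ^ (f + 1) = t + 1 := ⟨q ^ (f + 1) - 1, by rw [hA]; omega⟩
    rw [hN, ht, Nat.add_sub_cancel] at hdvd
    rw [hN, ht]
    have h3 : t + 1 + 1 ∣ (t + 2) * (A + 1) := dvd_mul_right _ _
    have h4 := Nat.dvd_sub h3 hdvd
    rwa [← Nat.sub_mul, Nat.add_sub_cancel_left] at h4
  obtain ⟨t, ht⟩ := hcop
  rw [hN, hc] at ht
  rcases t with _ | _ | t
  · omega
  · omega
  · have : 2 * (2 * c + 1) ≤ (2 * c + 1) * (t + 1 + 1) := by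
      rw [mul_comm]; exact Nat.mul_le_mul_left _ (by omega)
    rw [hA] at hc
    omega

/-- The non-split torus. -/
theorem realised_nonsplit (e : ℕ) (he : 0 < e) : Realised F e (Fintype.card F ^ e + 1) False := by
  have : Fact (Nat.Prime 2) := ⟨Nat.prime_two⟩
  obtain ⟨a, -, hqp⟩ := FiniteField.card F 2
  set q := Fintype.card F with hq
  have : NeZero (2 * e) := ⟨by omega⟩
  let E := FiniteField.Extension F 2 (2 * e)
  have : CharP E 2 := charP_of_injective_algebraMap (algebraMap F E).injective 2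
  let b : Module.Basis (Fin (2 * e)) F E :=
    Module.finBasisOfFinrankEq F E (FiniteField.finrank_extension F 2 (2 * e))
  obtain ⟨g, hg⟩ := IsCyclic.exists_ofOrder_eq_natCard (α := Eˣ)
  rw [Nat.card_units, FiniteField.natCard_extension, ← Fintype.card_eq_nat_card, ← hq] at hg
  have hqe : 2 ≤ q ^ e := le_trans Fintype.one_lt_card (Nat.le_self_pow he.ne' q)
  have hcard : q ^ (2 * e) - 1 = (q ^ e - 1) * (q ^ e + 1) := by
    rw [show q ^ (2 * e) = (q ^ e) ^ 2 by rw [← pow_mul, mul_comm], mul_comm, ← Nat.sq_sub_sq, one_pow]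
  set z : Eˣ := g ^ (q ^ e - 1) with hz
  have hord : orderOf (z : E) = q ^ e + 1 := by
    rw [orderOf_units, hz, orderOf_pow' _ (by omega), hg, hcard, Nat.gcd_mul_right_left,
      Nat.mul_div_cancel_left _ (by omega)]
  have hzq : (z : E) ^ (q ^ e + 1) = 1 := by rw [← hord, pow_orderOf_eq_one]
  let ψ : E →+* E := iterateFrobenius E 2 (a * e)
  have hψ : ∀ x, ψ x = x ^ q ^ e := fun x => by
    rw [hqp, ← pow_mul]; exact iterateFrobenius_def 2 (a * e) x
  have hψam : ∀ c : F, ψ (algebraMap F E c) = algebraMap F E c := fun c => by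
    rw [hψ, ← map_pow, FiniteField.pow_card_pow]
  have hψψ : ∀ x : E, ψ (ψ x) = x := by
    intro x
    have := Fintype.ofFinite E
    have hc : Fintype.card E = q ^ (2 * e) := by
      rw [Fintype.card_eq_nat_card, FiniteField.natCard_extension, ← Fintype.card_eq_nat_card]
    rw [hψ, hψ, ← pow_mul, ← pow_add, ← two_mul, ← hc, FiniteField.pow_card]
  have htr : ∀ w : E, Algebra.trace F E (ψ w) = Algebra.trace F E w := by
    intro w
    apply (algebraMap F E).injective
    conv_rhs => rw [← hψam]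
    rw [FiniteField.algebraMap_trace_eq_sum_pow, FiniteField.algebraMap_trace_eq_sum_pow, map_sum]
    exact Finset.sum_congr rfl fun i _ => (map_pow ψ w _).symm
  -- an element negated by the conjugation
  set γ : E := (g : E) - ψ (g : E) with hγdef
  have hγ : ψ γ = -γ := by rw [hγdef, map_sub, hψψ, neg_sub]
  have hγ0 : γ ≠ 0 := by
    intro h0
    have h1 : (g : E) ^ (q ^ e - 1) = 1 := by
      refine mul_right_cancel₀ g.ne_zero ?_
      rw [← pow_succ, Nat.sub_add_cancel (by omega), one_mul, ← hψ]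
      exact (sub_eq_zero.1 h0).symm
    rw [← Units.val_pow_eq_pow_val, ← hz] at h1
    rw [h1, orderOf_one] at hord
    omega
  let X' : (Fin (2 * e) → F) ≃ₗ[F] E := b.equivFun.symm
  let h : (Fin (2 * e) → F) → (Fin (2 * e) → F) → F := fun u v =>
    Algebra.trace F E (γ * (X' u * ψ (X' v)))
  have hskew : ∀ u v, h v u = -h u v := fun u v => by
    show Algebra.trace F E _ = -Algebra.trace F E _
    rw [← htr (γ * (X' u * ψ (X' v))), map_mul ψ, map_mul ψ, hψψ, hγ, ← map_neg, neg_mul, neg_neg, mul_comm (X' v)]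
  have hh : IsReflexiveSesq (RingHom.id F) h :=
    { invol := fun _ => rfl
      add_left := fun u u' v => by simp [h, add_mul, mul_add]
      smul_left := fun c u v => by simp [h]
      add_right := fun u v v' => by simp [h, mul_add]
      smul_right := fun c u v => by
        show Algebra.trace F E (γ * (X' u * ψ (X' (c • v)))) = _
        rw [map_smul, Algebra.smul_def, map_mul ψ, hψam, ← Algebra.smul_def, mul_smul_comm, mul_smul_comm,
          map_smul, smul_eq_mul, RingHom.id_apply]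
      refl := fun u v huv => by rw [hskew, huv, neg_zero]
      nondeg := fun v hv => by
        have : γ * ψ (X' v) = 0 := (traceForm_nondegenerate F E).2 _ fun x => by
          have := hv (X'.symm x)
          simpa [h, Algebra.traceForm_apply, mul_left_comm] using this
        simpa [hγ0] using this }
  obtain ⟨Φ, hΦ⟩ := exists_to_standard_symp (d := e) (Fintype.card_fin _) hh (fun v => by
    have hw : ψ (X' v * ψ (X' v)) = X' v * ψ (X' v) := by rw [map_mul, hψψ, mul_comm]
    show Algebra.trace F E _ = 0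
    rw [hγdef, sub_mul, map_sub, sub_eq_zero]
    conv_rhs => rw [← hw, ← map_mul ψ, htr])
  set M := Φ (Algebra.leftMulMatrix b (z : E)) with hM
  let ρ : E →* Matrix (Fin e ⊕ Fin e) (Fin e ⊕ Fin e) F :=
    (MonoidHomClass.toMonoidHom Φ).comp (MonoidHomClass.toMonoidHom (Algebra.leftMulMatrix b))
  let g₀ : Matrix.GeneralLinearGroup (Fin e ⊕ Fin e) F := Units.map ρ z
  have hρ : Function.Injective ρ := Φ.injective.comp (Algebra.leftMulMatrix_injective b)
  have hg₀ : g₀ ∈ spGL e F := by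
    refine mem_spGL_iff.2 (hΦ _ fun u v => ?_)
    have hX : ∀ u, X' (Algebra.leftMulMatrix b (z : E) *ᵥ u) = (z : E) * X' u := fun u => by
      rw [LinearEquiv.symm_apply_eq]
      conv_lhs => rw [show u = ⇑(b.repr (X' u)) from (b.equivFun.apply_symm_apply u).symm]
      exact Algebra.leftMulMatrix_mulVec_repr b _ _
    change Algebra.trace F E (γ * (X' (Algebra.leftMulMatrix b (z : E) *ᵥ u) *
      ψ (X' (Algebra.leftMulMatrix b (z : E) *ᵥ v)))) = Algebra.trace F E (γ * (X' u * ψ (X' v)))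
    rw [hX, hX, hψ, hψ]
    rw [show γ * ((z : E) * X' u * ((z : E) * X' v) ^ q ^ e) =
        (z : E) ^ (q ^ e + 1) * (γ * (X' u * X' v ^ q ^ e)) by
      rw [mul_pow, pow_succ]; ring, hzq, one_mul]
  refine realised_of_semiregular he hg₀ ?_ fun i v hv hfix => ?_
  · rw [orderOf_injective (Units.map ρ) (Units.map_injective hρ), ← orderOf_units, hord]
  · rw [← map_pow] at hfix ⊢
    have hz1 : ((z ^ i : Eˣ) : E) = 1 := by
      by_contra hne
      have hu : IsUnit (ρ ((z ^ i : Eˣ) : E) - 1) := by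
        have hu0 : IsUnit (((z ^ i : Eˣ) : E) - 1) := isUnit_iff_ne_zero.2 (sub_ne_zero.2 hne)
        have := (hu0.map (Algebra.leftMulMatrix b)).map Φ
        rwa [map_sub, map_one, map_sub, map_one] at this
      have h0 : (ρ ((z ^ i : Eˣ) : E) - 1) *ᵥ v = 0 := by
        rw [Matrix.sub_mulVec, Matrix.one_mulVec, sub_eq_zero]
        exact hfix
      exact hv ((Matrix.mulVec_injective_iff_isUnit.2 hu) (h0.trans (Matrix.mulVec_zero _).symm))
    rw [Units.val_eq_one.1 hz1, map_one]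

theorem three_eq_one : (3 : F) = 1 := by linear_combination CharTwo.two_eq_zero (R := F)

theorem four_eq_zero : (4 : F) = 0 := by linear_combination 2 * CharTwo.two_eq_zero (R := F)

/-- Unipotent blocks in dimension two. -/
theorem realised_unip_one (s : Prop) : Realised F 1 2 s := by
  classical
  obtain ⟨k, hk⟩ := exists_not_as (F := F)
  let β : F := if s then 0 else k
  let M : Matrix (Fin 1 ⊕ Fin 1) (Fin 1 ⊕ Fin 1) F := Matrix.fromBlocks !![1] !![1] 0 !![1]
  have hM : M * M = 1 := by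
    ext i j
    rcases i with i | i <;> rcases j with j | j <;> fin_cases i <;> fin_cases j <;>
      simp [M, Matrix.mul_apply, Fintype.sum_sum_type, CharTwo.add_self_eq_zero]
  refine ⟨⟨M, M, hM, hM⟩, Sum.elim ![β] ![1], fun v => ?_, ?_, ?_⟩
  · simp [tw, quadPlus_eq, sympForm_eq, M, Matrix.mulVec, dotProduct, Fintype.sum_sum_type]
    ring_nf
    simp [CharTwo.two_eq_zero, three_eq_one]
  · simp only [quadPlus_eq, Finset.univ_unique, Finset.sum_singleton, Sum.elim_inl, Sum.elim_inr]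
    by_cases hs : s <;> simp [β, hs, hk]
    exact ⟨0, by simp⟩
  · refine dvd_of_eq (orderOf_eq_prime (Units.ext ?_) fun h => ?_).symm
    · change M ^ 2 = 1
      rw [sq, hM]
    · have h' := congrArg Units.val h
      change M = 1 at h'
      have := congrFun (congrFun h' (.inl 0)) (.inr 0)
      simp [M] at this

/-- Unipotent blocks in dimension four. -/
theorem realised_unip_two (s : Prop) : Realised F 2 4 s := by
  classical
  obtain ⟨k, hk⟩ := exists_not_as (F := F)
  let β : F := if s then 0 else k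
  let c : F := β ^ 2
  let M : Matrix (Fin 2 ⊕ Fin 2) (Fin 2 ⊕ Fin 2) F :=
    Matrix.fromBlocks !![1, 1; 0, 1] !![c, 1; 0, 1] 0 !![1, 0; 1, 1]
  let M2 : Matrix (Fin 2 ⊕ Fin 2) (Fin 2 ⊕ Fin 2) F := Matrix.fromBlocks 1 !![1, 1; 1, 0] 0 1
  have hM : M * M = M2 := by
    ext i j
    rcases i with i | i <;> rcases j with j | j <;> fin_cases i <;> fin_cases j <;>
      simp [M, M2, Matrix.mul_apply, Fintype.sum_sum_type, Fin.sum_univ_two] <;> ring_nf
    all_goals simp [CharTwo.two_eq_zero, three_eq_one]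
  have hM4 : M2 * M2 = 1 := by
    rw [show M2 = Matrix.fromBlocks 1 !![1, 1; 1, 0] 0 1 from rfl, Matrix.fromBlocks_multiply,
      ← Matrix.fromBlocks_one]
    simp [CharTwo.add_self_eq_zero]
  have hinv : M * (M * M2) = 1 := by rw [← mul_assoc, hM, hM4]
  refine ⟨⟨M, M * M2, hinv, mul_eq_one_comm.1 hinv⟩, Sum.elim ![0, β] ![0, 1], fun v => ?_, ?_, ?_⟩
  · simp [tw, quadPlus_eq, sympForm_eq, M, Matrix.mulVec, dotProduct, Fintype.sum_sum_type,
      Fin.sum_univ_two, c]
    ring_nf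
    simp [CharTwo.two_eq_zero, three_eq_one]
  · simp only [quadPlus_eq, Fin.sum_univ_two, Sum.elim_inl, Sum.elim_inr]
    by_cases hs : s <;> simp [β, hs, hk]
    exact ⟨0, by simp⟩
  · refine dvd_of_eq (orderOf_eq_prime_pow (p := 2) (n := 1) (fun h => ?_) (Units.ext ?_)).symm
    · have h' := congrArg Units.val h
      change M ^ 2 = 1 at h'
      rw [sq, hM] at h'
      have := congrFun (congrFun h' (.inl 0)) (.inr 0)
      simp [M2] at this
    · change M ^ 4 = 1
      rw [show (4 : ℕ) = 2 * 2 from rfl, pow_mul, sq M, hM, sq, hM4]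

/-- Unipotent blocks in dimension six. -/
theorem realised_unip_three (s : Prop) : Realised F 3 8 s := by
  classical
  obtain ⟨k, hk⟩ := exists_not_as (F := F)
  let β : F := if s then 0 else k
  let c : F := β ^ 2
  let M : Matrix (Fin 3 ⊕ Fin 3) (Fin 3 ⊕ Fin 3) F :=
    Matrix.fromBlocks !![1, 1, 1; 0, 1, 1; 0, 0, 1] !![0, c, 1; 0, c, 1; 0, 0, 1] 0
      !![1, 0, 0; 1, 1, 0; 0, 1, 1]
  let M2 : Matrix (Fin 3 ⊕ Fin 3) (Fin 3 ⊕ Fin 3) F :=
    Matrix.fromBlocks !![1, 0, 1; 0, 1, 0; 0, 0, 1] !![c, 1 + c, 0; c, 1, 1; 0, 1, 0] 0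
      !![1, 0, 0; 0, 1, 0; 1, 0, 1]
  let M4 : Matrix (Fin 3 ⊕ Fin 3) (Fin 3 ⊕ Fin 3) F :=
    Matrix.fromBlocks 1 !![0, 1, 0; 1, 0, 0; 0, 0, 0] 0 1
  have hM : M * M = M2 := by
    ext i j
    rcases i with i | i <;> rcases j with j | j <;> fin_cases i <;> fin_cases j <;>
      simp [M, M2, Matrix.mul_apply, Fintype.sum_sum_type, Fin.sum_univ_three] <;> ring_nf
    all_goals simp [CharTwo.two_eq_zero, three_eq_one, four_eq_zero]
  have hM2 : M2 * M2 = M4 := by
    ext i j
    rcases i with i | i <;> rcases j with j | j <;> fin_cases i <;> fin_cases j <;>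
      simp [M4, M2, Matrix.mul_apply, Fintype.sum_sum_type, Fin.sum_univ_three] <;> ring_nf
    all_goals simp [CharTwo.two_eq_zero, three_eq_one]
  have hM8 : M4 * M4 = 1 := by
    rw [show M4 = Matrix.fromBlocks 1 !![0, 1, 0; 1, 0, 0; 0, 0, 0] 0 1 from rfl,
      Matrix.fromBlocks_multiply, ← Matrix.fromBlocks_one]
    simp [CharTwo.add_self_eq_zero]
  have hinv : M * (M * (M2 * M4)) = 1 := by rw [← mul_assoc, hM, ← mul_assoc, hM2, hM8]
  refine ⟨⟨M, M * (M2 * M4), hinv, mul_eq_one_comm.1 hinv⟩, Sum.elim ![0, 0, β] ![0, 0, 1],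
    fun v => ?_, ?_, ?_⟩
  · simp [tw, quadPlus_eq, sympForm_eq, M, Matrix.mulVec, dotProduct, Fintype.sum_sum_type,
      Fin.sum_univ_three, c]
    ring_nf
    simp [CharTwo.two_eq_zero, three_eq_one]
  · simp only [quadPlus_eq, Fin.sum_univ_three, Sum.elim_inl, Sum.elim_inr]
    by_cases hs : s <;> simp [β, hs, hk]
    exact ⟨0, by simp⟩
  · refine dvd_of_eq (orderOf_eq_prime_pow (p := 2) (n := 2) (fun h => ?_) (Units.ext ?_)).symm
    · have h' := congrArg Units.val h
      change M ^ 4 = 1 at h'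
      rw [show (4 : ℕ) = 2 * 2 from rfl, pow_mul, sq M, hM, sq, hM2] at h'
      have := congrFun (congrFun h' (.inl 0)) (.inr 1)
      simp [M4] at this
    · change M ^ 8 = 1
      rw [show (8 : ℕ) = 2 * 2 * 2 from rfl, pow_mul, pow_mul, sq M, hM, sq M2, hM2, sq, hM8]

end Cfsg.Agent.Spectrum.SympBlocks
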