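import Cfsg.Agent.Lib.GL.TorusCriterion

/-!
Element orders of isometries in characteristic two: an isometry is killed by `2 ^ c` times the lcm of
torus exponents `q ^ d ± 1`, with a bound on the sum of the `d`.
-/

set_option autoImplicit false

open Polynomial UniqueFactorizationMonoid
open Cfsg.Agent.GL
open scoped Classical

namespace Cfsg.Agent.Spectrum.SympCrit

/-- `q ^ d + 1` for `(d, true)`, `q ^ d - 1` for `(d, false)`. -/
def tExp (q : ℕ) (t : ℕ × Bool) : ℕ := if t.2 then q ^ t.1 + 1 else q ^ t.1 - 1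

theorem tExp_pos {q : ℕ} (hq : 2 ≤ q) {t : ℕ × Bool} (ht : 0 < t.1) : 0 < tExp q t := by
  have : 2 ≤ q ^ t.1 := hq.trans (Nat.le_self_pow ht.ne' q)
  unfold tExp
  split <;> omega

theorem lcm_tExp_pos {q : ℕ} (hq : 2 ≤ q) {T : Finset (ℕ × Bool)} (hT : ∀ t ∈ T, 0 < t.1) :
    0 < T.lcm (tExp q) :=
  Nat.pos_of_ne_zero fun h => by
    obtain ⟨t, ht, h0⟩ := Finset.lcm_eq_zero_iff.1 h
    exact (tExp_pos hq (hT t ht)).ne' h0

variable {F : Type*} [Field F]

/-- The type of an irreducible factor. -/
noncomputable def ty (f : F[X]) : ℕ × Bool :=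
  if f ∣ conjRev (RingHom.id F) f then (f.natDegree / 2, true) else (f.natDegree, false)

variable [Fintype F] [CharP F 2] {ι : Type*} [Fintype ι] [DecidableEq ι] {h : (ι → F) → (ι → F) → F}
  {A : Matrix ι ι F}

/-- The irreducible factors of the minimal polynomial other than `X - 1`. -/
noncomputable def others (A : Matrix ι ι F) : Finset F[X] :=
  (normalizedFactors (minpoly F A)).toFinset.filter fun f => f ≠ X - C 1

theorem mem_others {f : F[X]} :
    f ∈ others A ↔ f ∈ normalizedFactors (minpoly F A) ∧ f ≠ X - C 1 := by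
  rw [others, Finset.mem_filter, Multiset.mem_toFinset]

omit [Fintype F] [CharP F 2] in
theorem minpoly_coeff_zero (hh : IsReflexiveSesq (RingHom.id F) h) (hA : Preserves h A) :
    (minpoly F A).coeff 0 ≠ 0 := by
  intro h0
  obtain ⟨w, hw⟩ := minpoly_dvd_conjRev hh hA
  have h3 := congrArg (fun P : F[X] => P.coeff 0) hw
  simp only [mul_coeff_zero, coeff_zero_conjRev, RingHom.id_apply, h0, zero_mul,
    (minpoly.monic (Algebra.IsIntegral.isIntegral A)).leadingCoeff] at h3
  exact one_ne_zero h3

omit [Fintype F] [CharP F 2] in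
theorem factor_facts (hh : IsReflexiveSesq (RingHom.id F) h) (hA : Preserves h A) {f : F[X]}
    (hf : f ∈ normalizedFactors (minpoly F A)) :
    f.Monic ∧ Irreducible f ∧ f ∣ minpoly F A ∧ f.coeff 0 ≠ 0 := by
  classical
  have h1 := irreducible_of_normalized_factor f hf
  have h2 := dvd_of_mem_normalizedFactors hf
  refine ⟨?_, h1, h2, fun h0 => minpoly_coeff_zero hh hA ?_⟩
  · rw [← normalize_normalized_factor f hf]
    exact monic_normalize h1.ne_zero
  · obtain ⟨u, hu⟩ := h2
    rw [hu, mul_coeff_zero, h0, zero_mul]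

/-- Each factor other than `X - 1` has positive type and root of order dividing its torus exponent. -/
theorem ty_spec (hh : IsReflexiveSesq (RingHom.id F) h) (hA : Preserves h A) {f : F[X]}
    (hf : f ∈ others A) :
    0 < (ty f).1 ∧ f ∣ X ^ tExp (Fintype.card F) (ty f) - 1 ∧
      (f ∣ conjRev (RingHom.id F) f → f.natDegree = 2 * (ty f).1) ∧
      (¬ f ∣ conjRev (RingHom.id F) f → f.natDegree = (ty f).1) := by
  classical
  obtain ⟨hf1, hf2⟩ := mem_others.1 hf
  obtain ⟨hm, hirr, -, h0⟩ := factor_facts hh hA hf1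
  have := Fact.mk hirr
  by_cases hs : f ∣ conjRev (RingHom.id F) f
  · rw [ty, if_pos hs]
    rcases root_pow_of_self_rev hm hirr h0 hs with ⟨hd, h2⟩ | ⟨e, he, hde, hpow⟩
    · exfalso
      have : CharP (AdjoinRoot f) 2 :=
        charP_of_injective_algebraMap (algebraMap F (AdjoinRoot f)).injective 2
      have hr : AdjoinRoot.root f = 1 := CharTwo.sq_injective (h2.trans (one_pow 2).symm)
      have hdvd : f ∣ X - C 1 := by
        rw [← AdjoinRoot.mk_eq_zero, map_sub, AdjoinRoot.mk_X, hr, AdjoinRoot.mk_C, map_one, sub_self]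
      exact hf2 (Polynomial.eq_of_monic_of_associated hm (monic_X_sub_C 1)
        (hirr.associated_of_dvd (irreducible_X_sub_C 1) hdvd))
    · refine ⟨by simp only; omega, ?_, fun _ => by simp only; omega, fun h => absurd hs h⟩
      rw [dvd_X_pow_sub_one_iff, tExp, if_pos rfl,
        show f.natDegree / 2 = e by omega]
      exact hpow
  · rw [ty, if_neg hs]
    refine ⟨hirr.natDegree_pos, ?_, fun h => absurd h hs, fun _ => rfl⟩
    have hr0 : AdjoinRoot.root f ≠ 0 := fun he => h0 (by
      have hX : f ∣ X := AdjoinRoot.mk_eq_zero.1 (by rw [AdjoinRoot.mk_X, he])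
      have := (hirr.associated_of_dvd Polynomial.irreducible_X hX).symm.dvd
      rwa [X_dvd_iff] at this)
    have := root_pow_normIndex_mul hm hirr hr0
    rw [normIndex_mul] at this
    rw [dvd_X_pow_sub_one_iff, tExp]
    simpa using this

omit [Fintype F] [CharP F 2] in
theorem count_le_of_pow_dvd {P g : F[X]} {e : ℕ} (hP : P ≠ 0) (hg : Irreducible g)
    (hn : normalize g = g) (h : g ^ e ∣ P) : e ≤ (normalizedFactors P).count g := by
  have := (dvd_iff_normalizedFactors_le_normalizedFactors (pow_ne_zero e hg.ne_zero) hP).1 h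
  rw [normalizedFactors_pow, normalizedFactors_irreducible hg, hn, Multiset.nsmul_singleton] at this
  exact Multiset.le_count_iff_replicate_le.2 this

omit [Fintype F] [CharP F 2] in
theorem pow_count_dvd (P f : F[X]) : f ^ (normalizedFactors P).count f ∣ P := by
  by_cases hP : P = 0
  · simp [hP]
  refine dvd_trans ?_ (prod_normalizedFactors hP).dvd
  have h := Multiset.le_count_iff_replicate_le.1 (le_refl ((normalizedFactors P).count f))
  have := Multiset.prod_dvd_prod_of_le h
  rwa [Multiset.prod_replicate] at this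

/-- The partner of a factor which is not self-conjugate. -/
theorem exists_partner (hh : IsReflexiveSesq (RingHom.id F) h) (hA : Preserves h A) {f : F[X]}
    (hf : f ∈ others A) (hs : ¬ f ∣ conjRev (RingHom.id F) f) :
    ∃ g ∈ others A, g ≠ f ∧ g.natDegree = f.natDegree ∧ ty g = ty f ∧
      ((normalizedFactors (minpoly F A)).count f ≤
        (normalizedFactors (minpoly F A)).count g) := by
  classical
  obtain ⟨hf1, hf2⟩ := mem_others.1 hf
  obtain ⟨hm, hirr, hdvd, h0⟩ := factor_facts hh hA hf1
  have hμ : minpoly F A ≠ 0 := minpoly.ne_zero (Algebra.IsIntegral.isIntegral A)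
  have hμ0 := minpoly_coeff_zero hh hA
  have hback : ∀ {P : F[X]}, P ∣ minpoly F A → conjRev (RingHom.id F) P ∣ minpoly F A := by
    intro P hP
    refine (conjRev_dvd _ hP).trans ?_
    have := conjRev_dvd (RingHom.id F) (minpoly_dvd_conjRev hh hA)
    rwa [conjRev_conjRev hh.invol hμ0] at this
  have hirr' := irreducible_conjRev hh.invol hirr h0
  set g := normalize (conjRev (RingHom.id F) f) with hg
  have hassoc : Associated g (conjRev (RingHom.id F) f) := normalize_associated _
  have hgirr : Irreducible g := hassoc.symm.irreducible hirr'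
  have hgdeg : g.natDegree = f.natDegree := by
    rw [hg, natDegree_eq_of_degree_eq degree_normalize, natDegree_conjRev _ h0]
  have hgn : normalize g = g := normalize_idem _
  have hne : g ≠ f := fun e => hs (by
    conv_lhs => rw [← e]
    exact hassoc.dvd)
  have hcount : (normalizedFactors (minpoly F A)).count f ≤ (normalizedFactors (minpoly F A)).count g :=
    count_le_of_pow_dvd hμ hgirr hgn (by
      refine ((hassoc.pow_pow (n := _)).dvd).trans ?_
      rw [← conjRev_pow]
      exact hback (pow_count_dvd _ _))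
  have hgmem : g ∈ normalizedFactors (minpoly F A) :=
    Multiset.count_pos.1 (lt_of_lt_of_le (Multiset.count_pos.2 hf1) hcount)
  have hgs : ¬ g ∣ conjRev (RingHom.id F) g := by
    intro hd
    apply hs
    have hf' : f ∣ conjRev (RingHom.id F) g := by
      have h1 := conjRev_dvd (RingHom.id F) hassoc.symm.dvd
      rwa [conjRev_conjRev hh.invol h0] at h1
    have hgirr' : Irreducible (conjRev (RingHom.id F) g) :=
      irreducible_conjRev hh.invol hgirr (factor_facts hh hA hgmem).2.2.2
    exact ((hirr.associated_of_dvd hgirr' hf').trans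
      (hgirr.associated_of_dvd hgirr' hd).symm).dvd.trans hassoc.dvd
  refine ⟨g, mem_others.2 ⟨hgmem, ?_⟩, hne, hgdeg, ?_, hcount⟩
  · intro e
    refine hgs ?_
    rw [e]
    refine dvd_of_eq ?_
    rw [conjRev, Polynomial.map_id, CharTwo.sub_eq_add, Polynomial.C_1]
    rw [reverse, natDegree_X_add_C (R := F) 1 |> fun h => (by simpa using h : (X + 1 : F[X]).natDegree = 1)]
    simp [reflect_add, reflect_monomial, add_comm]
  · rw [ty, ty, if_neg hs, if_neg hgs, hgdeg]

/-- The types of the factors. -/
noncomputable def types (A : Matrix ι ι F) : Finset (ℕ × Bool) :=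
  (others A).image ty

theorem types_pos (hh : IsReflexiveSesq (RingHom.id F) h) (hA : Preserves h A) :
    ∀ t ∈ types A, 0 < t.1 := by
  classical
  intro t ht
  obtain ⟨f, hf, rfl⟩ := Finset.mem_image.1 ht
  exact (ty_spec hh hA hf).1

theorem types_sum (hh : IsReflexiveSesq (RingHom.id F) h) (hA : Preserves h A) :
    2 * ∑ t ∈ types A, t.1 ≤ ∑ f ∈ others A, f.natDegree := by
  classical
  rw [Finset.mul_sum, types, ← Finset.sum_fiberwise_of_maps_to
    (g := ty) (fun f hf => Finset.mem_image_of_mem ty hf) (fun f => f.natDegree)]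
  refine Finset.sum_le_sum fun t ht => ?_
  obtain ⟨f, hf, rfl⟩ := Finset.mem_image.1 ht
  obtain ⟨-, -, hself, hnon⟩ := ty_spec hh hA hf
  have hfm : f ∈ (others A).filter fun x => ty x = ty f := Finset.mem_filter.2 ⟨hf, rfl⟩
  by_cases hs : f ∣ conjRev (RingHom.id F) f
  · exact (hself hs).symm.le.trans (Finset.single_le_sum (f := fun x : F[X] => x.natDegree)
      (fun _ _ => Nat.zero_le _) hfm)
  · obtain ⟨g, hg, hne, hd, hty, -⟩ := exists_partner hh hA hf hs
    refine le_trans ?_ (Finset.sum_le_sum_of_subset (f := fun x : F[X] => x.natDegree)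
      (s := {f, g}) ?_)
    · rw [Finset.sum_pair hne.symm, hd, hnon hs]; omega
    · intro x hx
      rcases Finset.mem_insert.1 hx with rfl | hx
      · exact hfm
      · rw [Finset.mem_singleton.1 hx]
        exact Finset.mem_filter.2 ⟨hg, hty⟩

/-- A bound on multiplicities gives an exponent. -/
theorem pow_lcm_eq_one (hh : IsReflexiveSesq (RingHom.id F) h) (hA : Preserves h A) {c : ℕ}
    (hc : ∀ f ∈ normalizedFactors (minpoly F A),
      (normalizedFactors (minpoly F A)).count f ≤ 2 ^ c) :
    A ^ (2 ^ c * (types A).lcm (tExp (Fintype.card F))) = 1 := by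
  classical
  set L := (types A).lcm (tExp (Fintype.card F))
  have hμ : minpoly F A ≠ 0 := minpoly.ne_zero (Algebra.IsIntegral.isIntegral A)
  rw [pow_eq_one_iff_minpoly]
  refine (prod_normalizedFactors hμ).symm.dvd.trans ?_
  rw [Finset.prod_multiset_count]
  refine Finset.prod_dvd_of_coprime (fun f hf g hg hne => ?_) fun f hf => ?_
  · rw [Finset.mem_coe, Multiset.mem_toFinset] at hf hg
    obtain ⟨hfm, hfi, -, -⟩ := factor_facts hh hA hf
    obtain ⟨hgm, hgi, -, -⟩ := factor_facts hh hA hg
    exact (hfi.coprime_iff_not_dvd.2 fun hd => hne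
      (Polynomial.eq_of_monic_of_associated hfm hgm (hfi.associated_of_dvd hgi hd))).pow
  · rw [Multiset.mem_toFinset] at hf
    rw [mul_comm, pow_mul, show (X ^ L) ^ 2 ^ c - (1 : F[X]) = (X ^ L - 1) ^ 2 ^ c by
      rw [sub_pow_char_pow, one_pow]]
    refine (pow_dvd_pow f (hc f hf)).trans (pow_dvd_pow_of_dvd ?_ _)
    by_cases h1 : f = X - C 1
    · rw [h1, C_1]; exact sub_one_dvd_pow_sub_one X L
    · have hfo : f ∈ others A := mem_others.2 ⟨hf, h1⟩
      exact dvd_X_pow_of_dvd (Finset.dvd_lcm (Finset.mem_image_of_mem ty hfo)) (ty_spec hh hA hfo).2.1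

theorem count_le_natDegree {P f : F[X]} (hP : P ≠ 0) (hf : f ∈ normalizedFactors P) :
    (normalizedFactors P).count f ≤ P.natDegree := by
  have h := natDegree_le_of_dvd (pow_count_dvd P f) hP
  rw [natDegree_pow] at h
  exact le_trans (Nat.le_mul_of_pos_right _ (irreducible_of_normalized_factor f hf).natDegree_pos) h

/-- Element orders of isometries in dimension at most eight. -/
theorem exists_crit (hh : IsReflexiveSesq (RingHom.id F) h) (hA : Preserves h A) {m : ℕ}
    (hι : Fintype.card ι ≤ 2 * m) (hm : m ≤ 4) :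
    ∃ (T : Finset (ℕ × Bool)) (c : ℕ), (∀ t ∈ T, 0 < t.1) ∧ ∑ t ∈ T, t.1 + c ≤ m ∧ c ≤ 3 ∧
      A ^ (2 ^ c * T.lcm (tExp (Fintype.card F))) = 1 := by
  classical
  have hμ : minpoly F A ≠ 0 := minpoly.ne_zero (Algebra.IsIntegral.isIntegral A)
  set N := normalizedFactors (minpoly F A) with hN
  have hdeg : (minpoly F A).natDegree ≤ 2 * m :=
    ((natDegree_le_of_dvd (Matrix.minpoly_dvd_charpoly A) (Matrix.charpoly_monic A).ne_zero).trans
      (Matrix.charpoly_natDegree_eq_dim A).le).trans hι
  have hsum : ∑ f ∈ N.toFinset, N.count f * f.natDegree ≤ 2 * m := by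
    refine le_trans (le_of_eq ?_) hdeg
    rw [← natDegree_eq_of_degree_eq (degree_eq_degree_of_associated (prod_normalizedFactors hμ)),
      natDegree_multiset_prod _ (zero_notMem_normalizedFactors _), Finset.sum_multiset_map_count]
    simp only [smul_eq_mul, hN]
  set e0 := N.count (X - C 1) with he0
  have hsplit : ∑ f ∈ others A, N.count f * f.natDegree + e0 ≤ 2 * m := by
    refine le_trans ?_ hsum
    rw [← Finset.sum_filter_add_sum_filter_not N.toFinset (fun f => f ≠ X - C 1)]
    refine add_le_add (le_of_eq ?_) ?_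
    · rfl
    · by_cases h1 : X - C 1 ∈ N
      · refine le_trans (le_of_eq ?_) (Finset.single_le_sum (f := fun x : F[X] => N.count x * x.natDegree)
          (fun _ _ => Nat.zero_le _) (Finset.mem_filter.2 ⟨Multiset.mem_toFinset.2 h1, by simp⟩))
        rw [natDegree_X_sub_C, mul_one]
      · rw [he0, Multiset.count_eq_zero.2 h1]; exact Nat.zero_le _
  have htypes := types_sum hh hA
  set d := ∑ t ∈ types A, t.1 with hd
  obtain ⟨e, he1, hee, hbound⟩ : ∃ e, 1 ≤ e ∧ (∀ f ∈ others A, N.count f ≤ e) ∧
      2 * d + 2 * (e - 1) + e0 ≤ 2 * m := by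
    rcases (others A).eq_empty_or_nonempty with h0 | hne
    · refine ⟨1, le_rfl, by simp [h0], ?_⟩
      rw [h0] at htypes hsplit
      simp only [Finset.sum_empty] at htypes hsplit
      omega
    · obtain ⟨f, hf, hmax⟩ := (others A).exists_max_image (fun f => N.count f) hne
      have hpos : ∀ x ∈ others A, 1 ≤ N.count x := fun x hx => Multiset.count_pos.2 (mem_others.1 hx).1
      refine ⟨N.count f, hpos f hf, hmax, ?_⟩
      have hkey : ∑ x ∈ others A, (N.count x - 1) * x.natDegree + ∑ x ∈ others A, x.natDegree =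
          ∑ x ∈ others A, N.count x * x.natDegree := by
        rw [← Finset.sum_add_distrib]
        refine Finset.sum_congr rfl fun x hx => ?_
        rw [← Nat.succ_mul, Nat.succ_eq_add_one, Nat.sub_add_cancel (hpos x hx)]
      have h2e : 2 * (N.count f - 1) ≤ ∑ x ∈ others A, (N.count x - 1) * x.natDegree := by
        obtain ⟨hty, -, hself, hnon⟩ := ty_spec hh hA hf
        by_cases hs : f ∣ conjRev (RingHom.id F) f
        · refine le_trans ?_ (Finset.single_le_sum (f := fun x : F[X] => (N.count x - 1) * x.natDegree)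
            (fun _ _ => Nat.zero_le _) hf)
          rw [mul_comm]
          exact Nat.mul_le_mul_left _ (by rw [hself hs]; omega)
        · obtain ⟨g, hg, hne, hdeg', -, hcount⟩ := exists_partner hh hA hf hs
          refine le_trans ?_ (Finset.sum_le_sum_of_subset
            (f := fun x : F[X] => (N.count x - 1) * x.natDegree) (s := {f, g})
            (Finset.insert_subset hf (Finset.singleton_subset_iff.2 hg)))
          rw [Finset.sum_pair hne.symm, hdeg', two_mul]
          have : 1 ≤ f.natDegree := by rw [hnon hs]; exact hty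
          have := le_antisymm (hmax g hg) hcount
          rw [this]
          nlinarith
      omega
  have hM : max e e0 ≤ 8 := by omega
  refine ⟨types A, Nat.clog 2 (max e e0), types_pos hh hA, ?_,
    Nat.clog_le_of_le_pow hM, pow_lcm_eq_one hh hA fun f hf => ?_⟩
  · rw [← hd]
    have hclog : ∀ M, M ≤ 8 → 2 * Nat.clog 2 M ≤ M + 1 ∧ Nat.clog 2 M + 1 ≤ max M 1 := by
      intro M hM
      interval_cases M <;> simp [Nat.clog] <;> decide
    have := hclog _ hM
    omega
  · refine le_trans ?_ (Nat.le_pow_clog one_lt_two _)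
    by_cases h1 : f = X - C 1
    · subst h1; exact le_max_right _ _
    · exact (hee f (mem_others.2 ⟨hf, h1⟩)).trans (le_max_left _ _)

/-- A bound from a fixed-point part: the odd part, and the degrees left. -/
theorem exists_crit_ker (hh : IsReflexiveSesq (RingHom.id F) h) (hA : Preserves h A) (M : ℕ) :
    ∃ (T : Finset (ℕ × Bool)) (N : ℕ), (∀ t ∈ T, 0 < t.1) ∧
      2 * ∑ t ∈ T, t.1 + Module.finrank F (LinearMap.ker (((A - 1) ^ M).mulVecLin)) ≤ Fintype.card ι ∧
      A ^ (2 ^ N * T.lcm (tExp (Fintype.card F))) = 1 := by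
  classical
  have hμ : minpoly F A ≠ 0 := minpoly.ne_zero (Algebra.IsIntegral.isIntegral A)
  refine ⟨types A, (minpoly F A).natDegree, types_pos hh hA, ?_, pow_lcm_eq_one hh hA fun f hf =>
    (count_le_natDegree hμ hf).trans Nat.lt_two_pow_self.le⟩
  refine le_trans (add_le_add (types_sum hh hA) le_rfl) ?_
  set a : Module.End F (ι → F) := Matrix.toLinAlgEquiv' A with ha
  set E : Submodule F (ι → F) := LinearMap.ker (((A - 1) ^ M).mulVecLin) with hE
  have hEa : ∀ v, v ∈ E ↔ ((a - 1) ^ M) v = 0 := fun v => by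
    rw [hE, LinearMap.mem_ker, ha, ← map_one (Matrix.toLinAlgEquiv' (R := F) (n := ι)), ← map_sub, ← map_pow]
    rfl
  have hcomm : Commute a ((a - 1) ^ M) := ((Commute.refl a).sub_right (Commute.one_right a)).pow_right M
  have hinv : E ≤ E.comap a := fun v hv => by
    rw [Submodule.mem_comap, hEa, ← Module.End.mul_apply, ← hcomm.eq, Module.End.mul_apply, (hEa v).1 hv,
      map_zero]
  set b := E.mapQ E a hinv with hb
  set P := b.charpoly with hP
  have hPd : P.natDegree + Module.finrank F E = Fintype.card ι := by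
    rw [hP, LinearMap.charpoly_natDegree, ← Module.finrank_fintype_fun_eq_card F]
    exact E.finrank_quotient_add_finrank
  have hpow : ∀ (k : ℕ) v, (b ^ k) (E.mkQ v) = E.mkQ ((a ^ k) v) := by
    intro k
    induction k with
    | zero => intro v; rfl
    | succ k ih => intro v; rw [pow_succ', pow_succ', Module.End.mul_apply, ih, Module.End.mul_apply]; rfl
  have haev : ∀ v, E.mkQ (aeval a P v) = 0 := by
    intro v
    have h0 : (aeval b P) (E.mkQ v) = 0 := by rw [hP, b.aeval_self_charpoly, LinearMap.zero_apply]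
    rw [← h0, aeval_eq_sum_range, aeval_eq_sum_range, LinearMap.sum_apply, LinearMap.sum_apply, map_sum]
    exact Finset.sum_congr rfl fun i _ => by rw [LinearMap.smul_apply, LinearMap.smul_apply, map_smul, hpow]
  have hdvd : minpoly F A ∣ (X - C 1) ^ M * P := by
    rw [← Matrix.minpoly_toLin', show Matrix.toLin' A = a from rfl, minpoly.dvd_iff]
    refine LinearMap.ext fun v => ?_
    rw [map_mul, Module.End.mul_apply, LinearMap.zero_apply, map_pow, map_sub, aeval_X, aeval_C, map_one]
    exact (hEa _).1 ((Submodule.Quotient.mk_eq_zero E).1 (haev v))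
  have hS : ∏ f ∈ others A, f ∣ P := by
    refine Finset.prod_dvd_of_coprime (fun f hf g hg hne => ?_) fun f hf => ?_
    · obtain ⟨hfm, hfi, -, -⟩ := factor_facts hh hA (mem_others.1 hf).1
      obtain ⟨hgm, hgi, -, -⟩ := factor_facts hh hA (mem_others.1 hg).1
      exact hfi.coprime_iff_not_dvd.2 fun hd => hne
        (Polynomial.eq_of_monic_of_associated hfm hgm (hfi.associated_of_dvd hgi hd))
    · obtain ⟨hf1, hf2⟩ := mem_others.1 hf
      obtain ⟨hfm, hfi, hfd, -⟩ := factor_facts hh hA hf1
      refine (hfi.prime.dvd_or_dvd (hfd.trans hdvd)).resolve_left fun h1 => hf2 ?_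
      exact Polynomial.eq_of_monic_of_associated hfm (monic_X_sub_C 1)
        (hfi.associated_of_dvd (irreducible_X_sub_C 1) (hfi.prime.dvd_of_dvd_pow h1))
  have hP0 : P ≠ 0 := (LinearMap.charpoly_monic b).ne_zero
  have := natDegree_le_of_dvd hS hP0
  rw [natDegree_prod _ _ fun f hf => (factor_facts hh hA (mem_others.1 hf).1).2.1.ne_zero] at this
  omega

end Cfsg.Agent.Spectrum.SympCrit
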