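import Cfsg.Agent.Lib.GL.IsometryBound

/-!
# The exponent of an isometry in characteristic two from the orbits of its elementary divisors
-/

set_option autoImplicit false

open Matrix Polynomial UniqueFactorizationMonoid

namespace Cfsg.Agent.Spectrum.SympOrbits

open Cfsg.Agent.GL

variable {F : Type*} [Field F] [Fintype F] {ι : Type*} [Fintype ι] [DecidableEq ι]

local notation "rev" => conjRev (RingHom.id F)

/-- The order of a root attached to an orbit of degree `d`. -/
def tor (q d : ℕ) (s : Bool) : ℕ := if s then q ^ d - 1 else q ^ d + 1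

/-- The orbits of elementary divisors: degrees `d`, multiplicities `ν`, kinds `s`, and the
multiplicity `ν₀` of the eigenvalue one. -/
theorem exists_orbits [CharP F 2] [Nonempty ι] {h : (ι → F) → (ι → F) → F}
    (hh : IsReflexiveSesq (RingHom.id F) h) {A : Matrix ι ι F} (hA : Preserves h A) (hdet : A.det ≠ 0) :
    ∃ (T : Finset F[X]) (d ν : F[X] → ℕ) (s : F[X] → Bool) (ν₀ : ℕ),
      (∀ f ∈ T, 0 < d f ∧ 0 < ν f) ∧ 2 * (∑ f ∈ T, d f * ν f) + ν₀ ≤ Fintype.card ι ∧
      ∀ e, ν₀ ≤ 2 ^ e → (∀ f ∈ T, ν f ≤ 2 ^ e) →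
        ∀ L, (∀ f ∈ T, tor (Fintype.card F) (d f) (s f) ∣ L) → A ^ (L * 2 ^ e) = 1 := by
  classical
  have : Fact (Nat.Prime 2) := ⟨Nat.prime_two⟩
  set q := Fintype.card F with hqdef
  have hint : IsIntegral F A := Algebra.IsIntegral.isIntegral A
  set μ := minpoly F A with hμdef
  have hμ0 : μ ≠ 0 := minpoly.ne_zero hint
  have hμm : μ.Monic := minpoly.monic hint
  have hμχ : μ ∣ A.charpoly := Matrix.minpoly_dvd_charpoly A
  have hχ0 : A.charpoly.coeff 0 ≠ 0 := fun h0 => hdet (by
    rw [Matrix.det_eq_sign_charpoly_coeff, h0, mul_zero])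
  have hdeg : μ.natDegree ≤ Fintype.card ι :=
    (natDegree_le_of_dvd hμχ (Matrix.charpoly_monic A).ne_zero).trans (Matrix.charpoly_natDegree_eq_dim A).le
  have hc0 : ∀ P, P ∣ μ → P.coeff 0 ≠ 0 := fun P hP h0 => hχ0 (by
    obtain ⟨c, hc⟩ := hP.trans hμχ
    rw [hc, mul_coeff_zero, h0, zero_mul])
  have hsymm : ∀ P, P ∣ μ → rev P ∣ μ := by
    intro P hP
    refine (conjRev_dvd _ hP).trans ?_
    have := conjRev_dvd (RingHom.id F) (minpoly_dvd_conjRev hh hA)
    rwa [conjRev_conjRev hh.invol (hc0 μ dvd_rfl)] at this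
  -- the irreducible factors and their multiplicities
  set S := (normalizedFactors μ).toFinset with hS
  let ν : F[X] → ℕ := fun f => (normalizedFactors μ).count f
  have hmem : ∀ f ∈ S, Irreducible f ∧ f.Monic ∧ f ∣ μ ∧ 1 ≤ ν f := by
    intro f hf
    rw [hS, Multiset.mem_toFinset] at hf
    have hi := irreducible_of_normalized_factor f hf
    refine ⟨hi, ?_, dvd_of_mem_normalizedFactors hf, Multiset.one_le_count_iff_mem.2 hf⟩
    rw [← normalize_normalized_factor f hf]
    exact Polynomial.monic_normalize hi.ne_zero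
  have hprod : Associated (∏ f ∈ S, f ^ ν f) μ := by
    rw [hS, ← Finset.prod_multiset_count]
    exact prod_normalizedFactors hμ0
  have hsum : ∑ f ∈ S, f.natDegree * ν f ≤ Fintype.card ι := by
    refine le_trans (le_of_eq ?_) hdeg
    rw [← natDegree_eq_of_degree_eq (degree_eq_degree_of_associated hprod),
      natDegree_prod _ _ fun f hf => pow_ne_zero _ (hmem f hf).1.ne_zero]
    exact Finset.sum_congr rfl fun f _ => by rw [natDegree_pow, mul_comm]
  have hcount : ∀ g : F[X], Irreducible g → ∀ k, g ^ k ∣ μ → k ≤ ν (normalize g) := by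
    intro g hg k hk
    rw [dvd_iff_normalizedFactors_le_normalizedFactors (pow_ne_zero _ hg.ne_zero) hμ0,
      normalizedFactors_pow, normalizedFactors_irreducible hg, Multiset.nsmul_singleton] at hk
    exact Multiset.le_count_iff_replicate_le.2 hk
  let r : F[X] → F[X] := fun f => normalize (rev f)
  have hrev : ∀ f ∈ S, r f ∈ S ∧ r (r f) = f ∧ (r f).natDegree = f.natDegree ∧ ν f ≤ ν (r f) := by
    intro f hf
    obtain ⟨hi, hmo, hd, h1⟩ := hmem f hf
    have h0 := hc0 f hd
    have hg := irreducible_conjRev hh.invol hi h0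
    have hpd : rev f ^ ν f ∣ μ := by
      rw [← conjRev_pow]
      refine hsymm _ ((Finset.dvd_prod_of_mem (fun f => f ^ ν f) hf).trans hprod.dvd)
    have hle := hcount _ hg _ hpd
    refine ⟨?_, ?_, ?_, hle⟩
    · rw [hS, Multiset.mem_toFinset, ← Multiset.one_le_count_iff_mem]
      exact h1.trans hle
    · have h2 := associated_conjRev (normalize_associated (rev f))
      rw [conjRev_conjRev hh.invol h0] at h2
      show normalize (rev (normalize (rev f))) = f
      rw [normalize_eq_normalize h2.dvd h2.symm.dvd, hmo.normalize_eq_self]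
    · show (normalize (rev f)).natDegree = _
      rw [natDegree_eq_of_degree_eq (degree_eq_degree_of_associated (normalize_associated _)),
        natDegree_conjRev _ h0]
  have hνr : ∀ f ∈ S, ν (r f) = ν f := fun f hf => by
    obtain ⟨h1, h2, -, h4⟩ := hrev f hf
    have h5 := (hrev _ h1).2.2.2
    rw [h2] at h5
    omega
  have hself : ∀ f ∈ S, r f = f → (∃ c : F, c * c = 1 ∧ f = X - C c) ∨
      ∃ a, 0 < a ∧ f.natDegree = 2 * a ∧ f ∣ X ^ (q ^ a + 1) - 1 := by
    intro f hf he
    obtain ⟨hi, hmo, hd, -⟩ := hmem f hf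
    refine selfRev_facts hmo hi (hc0 f hd) ?_
    calc f = normalize (rev f) := he.symm
      _ ∣ rev f := (normalize_associated _).dvd
  -- representatives: self-reciprocal of even degree, one from each pair
  let idx : F[X] → ℕ := fun f => S.toList.idxOf f
  have hidx : ∀ f ∈ S, ∀ g, idx f = idx g → f = g := fun f hf g h =>
    (List.idxOf_inj (Finset.mem_toList.2 hf)).1 h
  let T₁ := S.filter fun f => r f = f ∧ ¬ ∃ c : F, c * c = 1 ∧ f = X - C c
  let T₂ := S.filter fun f => idx f < idx (r f)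
  let T₃ := S.filter fun f => r f = f ∧ ∃ c : F, c * c = 1 ∧ f = X - C c
  let T₂' := S.filter fun f => idx (r f) < idx f
  have hcases : ∀ f ∈ S, f ∈ T₁ ∨ f ∈ T₂ ∨ f ∈ T₂' ∨ f ∈ T₃ := by
    intro f hf
    rcases lt_trichotomy (idx f) (idx (r f)) with h | h | h
    · exact Or.inr (Or.inl (Finset.mem_filter.2 ⟨hf, h⟩))
    · have he := (hidx f hf _ h).symm
      by_cases hc : ∃ c : F, c * c = 1 ∧ f = X - C c
      · exact Or.inr (Or.inr (Or.inr (Finset.mem_filter.2 ⟨hf, he, hc⟩)))
      · exact Or.inl (Finset.mem_filter.2 ⟨hf, he, hc⟩)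
    · exact Or.inr (Or.inr (Or.inl (Finset.mem_filter.2 ⟨hf, h⟩)))
  have hT1 : ∀ f ∈ T₁, 0 < f.natDegree / 2 ∧ f.natDegree = 2 * (f.natDegree / 2) ∧
      f ∣ X ^ (q ^ (f.natDegree / 2) + 1) - 1 := by
    intro f hf
    obtain ⟨hfS, he, hno⟩ := Finset.mem_filter.1 hf
    obtain ⟨a, ha, hda, hdv⟩ := (hself f hfS he).resolve_left hno
    rw [hda, Nat.mul_div_cancel_left _ two_pos]
    exact ⟨ha, rfl, hdv⟩
  let a : F[X] → ℕ := fun f => if r f = f then f.natDegree / 2 else f.natDegree
  have ha1 : ∀ f ∈ T₁, a f = f.natDegree / 2 := fun f hf => if_pos (Finset.mem_filter.1 hf).2.1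
  have ha2 : ∀ f ∈ T₂, a f = f.natDegree := fun f hf => if_neg fun he => by
    have := (Finset.mem_filter.1 hf).2
    rw [he] at this
    exact lt_irrefl _ this
  -- the weights
  have hweight : 2 * ∑ f ∈ T₁, a f * ν f + 2 * ∑ f ∈ T₂, a f * ν f + ∑ f ∈ T₃, ν f ≤
      Fintype.card ι := by
    refine le_trans ?_ hsum
    have hd₁ : Disjoint T₁ T₂ := Finset.disjoint_filter.2 fun f _ h1 h2 => by
      rw [h1.1] at h2; exact lt_irrefl _ h2
    have hd₂ : Disjoint (T₁ ∪ T₂) T₂' := by
      refine Finset.disjoint_union_left.2 ⟨Finset.disjoint_filter.2 fun f _ h1 h2 => ?_,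
        Finset.disjoint_filter.2 fun f _ h1 h2 => lt_asymm h1 h2⟩
      rw [h1.1] at h2; exact lt_irrefl _ h2
    have hd₃ : Disjoint (T₁ ∪ T₂ ∪ T₂') T₃ := by
      refine Finset.disjoint_union_left.2 ⟨Finset.disjoint_union_left.2
        ⟨Finset.disjoint_filter.2 fun f _ h1 h2 => h1.2 h2.2,
          Finset.disjoint_filter.2 fun f _ h1 h2 => ?_⟩, Finset.disjoint_filter.2 fun f _ h1 h2 => ?_⟩
      · rw [h2.1] at h1; exact lt_irrefl _ h1
      · rw [h2.1] at h1; exact lt_irrefl _ h1
    refine le_trans (le_of_eq ?_) (Finset.sum_le_sum_of_subset (f := fun f => f.natDegree * ν f)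
      (s := T₁ ∪ T₂ ∪ T₂' ∪ T₃) fun f hf => ?_)
    · rw [Finset.sum_union hd₃, Finset.sum_union hd₂, Finset.sum_union hd₁]
      have e1 : ∑ f ∈ T₁, f.natDegree * ν f = 2 * ∑ f ∈ T₁, a f * ν f := by
        rw [Finset.mul_sum]
        exact Finset.sum_congr rfl fun f hf => by
          rw [ha1 f hf, ← mul_assoc, ← (hT1 f hf).2.1]
      have e2 : ∑ f ∈ T₂, f.natDegree * ν f = ∑ f ∈ T₂, a f * ν f :=
        Finset.sum_congr rfl fun f hf => by rw [ha2 f hf]
      have e3 : ∑ f ∈ T₂', f.natDegree * ν f = ∑ f ∈ T₂, a f * ν f := by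
        rw [← e2]
        refine Finset.sum_nbij' r r (fun f hf => ?_) (fun f hf => ?_) (fun f hf => ?_) (fun f hf => ?_)
          (fun f hf => ?_) <;> obtain ⟨hfS, hlt⟩ := Finset.mem_filter.1 hf
        · exact Finset.mem_filter.2 ⟨(hrev f hfS).1, by rw [(hrev f hfS).2.1]; exact hlt⟩
        · exact Finset.mem_filter.2 ⟨(hrev f hfS).1, by rw [(hrev f hfS).2.1]; exact hlt⟩
        · exact (hrev f hfS).2.1
        · exact (hrev f hfS).2.1
        · rw [(hrev f hfS).2.2.1, hνr f hfS]
      have e4 : ∑ f ∈ T₃, f.natDegree * ν f = ∑ f ∈ T₃, ν f :=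
        Finset.sum_congr rfl fun f hf => by
          obtain ⟨-, -, c, -, rfl⟩ := Finset.mem_filter.1 hf
          rw [natDegree_X_sub_C, one_mul]
      rw [e1, e2, e3, e4]; ring
    · simp only [Finset.mem_union] at hf
      rcases hf with ((h | h) | h) | h <;> exact (Finset.mem_filter.1 h).1
  have hd12 : Disjoint T₁ T₂ := Finset.disjoint_filter.2 fun f _ h1 h2 => by
    rw [h1.1] at h2; exact lt_irrefl _ h2
  refine ⟨T₁ ∪ T₂, a, ν, fun f => decide (f ∈ T₂), ∑ f ∈ T₃, ν f, fun f hf => ?_, ?_,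
    fun e h0 he L hL => ?_⟩
  · rcases Finset.mem_union.1 hf with h | h
    · exact ⟨by rw [ha1 f h]; exact (hT1 f h).1, (hmem f (Finset.mem_filter.1 h).1).2.2.2⟩
    · exact ⟨by rw [ha2 f h]; exact (hmem f (Finset.mem_filter.1 h).1).1.natDegree_pos,
        (hmem f (Finset.mem_filter.1 h).1).2.2.2⟩
  · rw [Finset.sum_union hd12]
    omega
  · have hup : ∀ {k : ℕ}, k ∣ L → (X ^ k - 1 : F[X]) ∣ X ^ L - 1 := by
      rintro k ⟨j, hj⟩
      rw [hj, pow_mul]
      exact sub_one_dvd_pow_sub_one _ _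
    have hminus : ∀ g ∈ T₂, ∀ f ∈ S, g.natDegree = f.natDegree → f ∣ X ^ L - 1 := by
      intro g hg f hf hdeg
      have hX : ¬ f ∣ X := fun hd => by
        have h1 := Polynomial.eq_of_monic_of_associated (hmem f hf).2.1 monic_X
          ((hmem f hf).1.associated_of_dvd irreducible_X hd)
        exact hc0 f (hmem f hf).2.2.1 (by rw [h1, coeff_X_zero])
      refine (irreducible_dvd_X_pow_sub_one (hmem f hf).1 hX (L := q ^ a g - 1) ?_).trans (hup ?_)
      · rw [ha2 g hg, hdeg]
      · have := hL g (Finset.mem_union_right _ hg)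
        simpa [tor, hg] using this
    have hfac : ∀ f ∈ S, ν f ≤ 2 ^ e ∧ f ∣ X ^ L - 1 := by
      intro f hf
      rcases hcases f hf with h | h | h | h
      · refine ⟨he f (Finset.mem_union_left _ h), ?_⟩
        have h2 := (hT1 f h).2.2
        rw [← ha1 f h] at h2
        refine h2.trans (hup ?_)
        have := hL f (Finset.mem_union_left _ h)
        simpa [tor, Finset.disjoint_left.1 hd12 h] using this
      · exact ⟨he f (Finset.mem_union_right _ h), hminus f h f hf rfl⟩
      · obtain ⟨hfS, hlt⟩ := Finset.mem_filter.1 h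
        have hr : r f ∈ T₂ := Finset.mem_filter.2 ⟨(hrev f hfS).1, by rw [(hrev f hfS).2.1]; exact hlt⟩
        refine ⟨?_, hminus (r f) hr f hf (hrev f hfS).2.2.1⟩
        rw [← hνr f hfS]
        exact he _ (Finset.mem_union_right _ hr)
      · refine ⟨(Finset.single_le_sum (fun _ _ => Nat.zero_le _) h).trans h0, ?_⟩
        obtain ⟨-, -, c, hc, rfl⟩ := Finset.mem_filter.1 h
        have hc1 : c = 1 := by
          rcases mul_self_eq_one_iff.1 hc with h' | h'
          · exact h'
          · rw [h', CharTwo.neg_eq]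
        refine dvd_iff_isRoot.2 ?_
        simp [hc1]
    have h1 : μ ∣ (X ^ L - 1) ^ 2 ^ e := by
      refine hprod.symm.dvd.trans (Finset.prod_dvd_of_coprime (fun f hf g hg hfg => ?_) fun f hf => ?_)
      · refine IsCoprime.pow ((hmem f hf).1.coprime_iff_not_dvd.2 fun hd => hfg ?_)
        exact Polynomial.eq_of_monic_of_associated (hmem f hf).2.1 (hmem g hg).2.1
          ((hmem f hf).1.associated_of_dvd (hmem g hg).1 hd)
      · exact (pow_dvd_pow _ (hfac f hf).1).trans (pow_dvd_pow_of_dvd (hfac f hf).2 _)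
    rw [sub_pow_char_pow, one_pow, ← pow_mul] at h1
    obtain ⟨u, hu⟩ := h1
    have h3 := congrArg (aeval A) hu
    rwa [map_mul, minpoly.aeval, zero_mul, map_sub, map_pow, aeval_X, map_one, sub_eq_zero] at h3

end Cfsg.Agent.Spectrum.SympOrbits
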