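import Cfsg.Agent.Lib.Spectrum.SympBlocks
import Cfsg.Agent.Lib.Spectrum.SympOrbits

/-!
# Element orders of `Sp₈(q)`, `q` even

Every element has order dividing a member of `maxOrders q`, and every member is realised in the
orthogonal group of minus type.
-/

set_option autoImplicit false
set_option linter.unusedSectionVars false

namespace Cfsg.Agent.Spectrum.SympEight

open Cfsg.Agent.GL Cfsg.Agent.Spectrum.SympOrbits Cfsg.Agent.Spectrum.SympBlocks
open scoped Matrix

/-- Orders covering all element orders of `Sp₈(q)`. -/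
def maxOrders (q : ℕ) : Finset ℕ :=
  {q ^ 4 + 1, q ^ 4 - 1, (q ^ 3 + 1) * (q - 1), (q ^ 3 - 1) * (q + 1), (q ^ 3 + 1) * 2, (q ^ 3 - 1) * 2,
    (q ^ 2 + 1) * (q + 1) * 2, (q ^ 2 + 1) * (q - 1) * 2, (q ^ 2 + 1) * 4, (q ^ 2 - 1) * 4,
    (q + 1) * 8, (q - 1) * 8}

theorem tor_one_dvd_sq {q : ℕ} (s : Bool) : tor q 1 s ∣ q ^ 2 - 1 := by
  have h : q ^ 2 - 1 = (q + 1) * (q - 1) := by rw [← Nat.sq_sub_sq, one_pow]
  rw [h]
  cases s <;> simp [tor]

theorem tor_two_dvd (q : ℕ) (s : Bool) : tor q 2 s ∣ q ^ 4 - 1 := by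
  have h : q ^ 4 - 1 = (q ^ 2 + 1) * (q ^ 2 - 1) := by
    rw [← Nat.sq_sub_sq, one_pow, ← pow_mul]
  rw [h]
  cases s <;> simp [tor]

theorem tor_one_dvd_three {q : ℕ} (t s : Bool) :
    tor q 1 s ∣ if t then (q ^ 3 - 1) * (q + 1) else (q ^ 3 + 1) * (q - 1) := by
  have h1 : q - 1 ∣ q ^ 3 - 1 := by simpa using Nat.sub_one_dvd_pow_sub_one q 3
  have h2 : q + 1 ∣ q ^ 3 + 1 := by simpa using Odd.nat_add_dvd_pow_add_pow q 1 (n := 3) (by decide)
  cases t <;> cases s <;> simp only [tor, pow_one, Bool.false_eq_true, if_false, if_true]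
  · exact Dvd.dvd.mul_right h2 _
  · exact dvd_mul_left _ _
  · exact dvd_mul_left _ _
  · exact Dvd.dvd.mul_right h1 _

/-- The combinatorics of orbit degrees and multiplicities. -/
theorem exists_maxOrder {α : Type*} (q : ℕ) (T : Finset α) (d ν : α → ℕ) (s : α → Bool) (ν₀ : ℕ)
    (hpos : ∀ f ∈ T, 0 < d f ∧ 0 < ν f) (hw : 2 * (∑ f ∈ T, d f * ν f) + ν₀ ≤ 8) :
    ∃ e L, L * 2 ^ e ∈ maxOrders q ∧ ν₀ ≤ 2 ^ e ∧ (∀ f ∈ T, ν f ≤ 2 ^ e) ∧
      ∀ f ∈ T, tor q (d f) (s f) ∣ L := by
  classical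
  set W := ∑ f ∈ T, d f * ν f
  set D := ∑ f ∈ T, d f with hD
  have hterm : ∀ f ∈ T, d f * ν f ≤ W := fun f hf =>
    Finset.single_le_sum (f := fun g => d g * ν g) (fun _ _ => Nat.zero_le _) hf
  have hνW : ∀ f ∈ T, ν f ≤ W := fun f hf =>
    le_trans (Nat.le_mul_of_pos_left _ (hpos f hf).1) (hterm f hf)
  have hDW : D ≤ W := Finset.sum_le_sum fun f hf => Nat.le_mul_of_pos_right _ (hpos f hf).2
  have hgap : ∀ f ∈ T, D + ν f ≤ W + 1 := by
    intro f hf
    rw [hD, ← Finset.add_sum_erase T _ hf]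
    have h1 : ∑ g ∈ T.erase f, d g ≤ ∑ g ∈ T.erase f, d g * ν g := Finset.sum_le_sum fun g hg =>
      Nat.le_mul_of_pos_right _ (hpos g (Finset.mem_of_mem_erase hg)).2
    have h2 : W = d f * ν f + ∑ g ∈ T.erase f, d g * ν g :=
      (Finset.add_sum_erase T _ hf).symm
    obtain ⟨k, hk⟩ : ∃ k, ν f = k + 1 := ⟨ν f - 1, by have := (hpos f hf).2; omega⟩
    have h3 : k ≤ d f * k := Nat.le_mul_of_pos_left _ (hpos f hf).1
    rw [hk] at h2 ⊢
    rw [mul_add, mul_one] at h2
    omega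
  have hd : ∀ f ∈ T, d f ≤ D := fun f hf => Finset.single_le_sum (fun _ _ => Nat.zero_le _) hf
  have hd2 : ∀ f ∈ T, ∀ g ∈ T, g ≠ f → d f + d g ≤ D := fun f hf g hg hne => by
    rw [hD, ← Finset.add_sum_erase T _ hf]
    exact Nat.add_le_add_left (Finset.single_le_sum (fun _ _ => Nat.zero_le _)
      (Finset.mem_erase.2 ⟨hne, hg⟩)) _
  by_cases h5 : 4 < ν₀
  · -- the unipotent part has order eight
    have hD1 : D ≤ 1 := by omega
    have hν : ∀ f ∈ T, ν f ≤ 2 ^ 3 := fun f hf => by have := hνW f hf; omega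
    rcases T.eq_empty_or_nonempty with rfl | ⟨f, hf⟩
    · exact ⟨3, q + 1, by simp [maxOrders], by omega, hν, by simp⟩
    · have hone : ∀ g ∈ T, g = f := fun g hg => by
        by_contra hne
        have := hd2 f hf g hg hne
        have := (hpos f hf).1
        have := (hpos g hg).1
        omega
      have hdf : d f = 1 := by have := hd f hf; have := (hpos f hf).1; omega
      refine ⟨3, tor q 1 (s f), ?_, by omega, hν, fun g hg => by rw [hone g hg, hdf]⟩
      cases s f <;> simp [maxOrders, tor]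
  by_cases h3 : 2 < ν₀ ∨ ∃ f ∈ T, 2 < ν f
  · -- order four
    have hD2 : D ≤ 2 := by
      rcases h3 with h | ⟨f, hf, h⟩
      · omega
      · have := hgap f hf; omega
    have hν : ∀ f ∈ T, ν f ≤ 2 ^ 2 := fun f hf => by have := hνW f hf; omega
    by_cases h2 : ∃ f ∈ T, d f = 2
    · obtain ⟨f, hf, hdf⟩ := h2
      have hone : ∀ g ∈ T, g = f := fun g hg => by
        by_contra hne
        have := hd2 f hf g hg hne
        have := (hpos g hg).1
        omega
      refine ⟨2, tor q 2 (s f), ?_, by omega, hν, fun g hg => by rw [hone g hg, hdf]⟩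
      cases s f <;> simp [maxOrders, tor]
    · refine ⟨2, q ^ 2 - 1, by simp [maxOrders], by omega, hν, fun f hf => ?_⟩
      have h1 : d f = 1 := by
        have := hd f hf
        have := (hpos f hf).1
        have : d f ≠ 2 := fun h => h2 ⟨f, hf, h⟩
        omega
      rw [h1]
      exact tor_one_dvd_sq _
  simp only [not_or, not_exists, not_and, not_lt] at h3
  by_cases h1 : 1 < ν₀ ∨ ∃ f ∈ T, 1 < ν f
  · -- order two
    have hD3 : D ≤ 3 := by
      rcases h1 with h | ⟨f, hf, h⟩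
      · omega
      · have := hgap f hf; omega
    have hν : ∀ f ∈ T, ν f ≤ 2 ^ 1 := fun f hf => by simpa using h3.2 f hf
    by_cases h33 : ∃ f ∈ T, d f = 3
    · obtain ⟨f, hf, hdf⟩ := h33
      have hone : ∀ g ∈ T, g = f := fun g hg => by
        by_contra hne
        have := hd2 f hf g hg hne
        have := (hpos g hg).1
        omega
      refine ⟨1, tor q 3 (s f), ?_, by omega, hν, fun g hg => by rw [hone g hg, hdf]⟩
      cases s f <;> simp [maxOrders, tor]
    have hle2 : ∀ f ∈ T, d f = 1 ∨ d f = 2 := fun f hf => by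
      have := hd f hf
      have := (hpos f hf).1
      have : d f ≠ 3 := fun h => h33 ⟨f, hf, h⟩
      omega
    by_cases hminus : ∃ f ∈ T, d f = 2 ∧ s f = false
    · obtain ⟨f, hf, hdf, hsf⟩ := hminus
      by_cases hg : ∃ g ∈ T, g ≠ f
      · obtain ⟨g, hgT, hne⟩ := hg
        have hdg : d g = 1 := by
          have := hd2 f hf g hgT hne
          have := (hpos g hgT).1
          omega
        have hall : ∀ x ∈ T, x = f ∨ x = g := fun x hx => by
          by_contra hnot
          rw [not_or] at hnot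
          have h4 : d f + (d g + d x) ≤ D := by
            rw [hD, ← Finset.add_sum_erase T _ hf,
              ← Finset.add_sum_erase (T.erase f) _ (Finset.mem_erase.2 ⟨hne, hgT⟩)]
            exact Nat.add_le_add_left (Nat.add_le_add_left (Finset.single_le_sum
              (fun _ _ => Nat.zero_le _)
              (Finset.mem_erase.2 ⟨hnot.2, Finset.mem_erase.2 ⟨hnot.1, hx⟩⟩)) _) _
          have := (hpos x hx).1
          omega
        refine ⟨1, (q ^ 2 + 1) * tor q 1 (s g), ?_, by omega, hν, fun x hx => ?_⟩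
        · cases s g <;> simp [maxOrders, tor]
        · rcases hall x hx with rfl | rfl
          · rw [hdf, hsf]; exact dvd_mul_of_dvd_left (by simp [tor]) _
          · rw [hdg]; exact dvd_mul_left _ _
      · refine ⟨1, (q ^ 2 + 1) * (q + 1), by simp [maxOrders], by omega, hν, fun x hx => ?_⟩
        obtain rfl : x = f := by
          by_contra hne
          exact hg ⟨x, hx, hne⟩
        rw [hdf, hsf]
        exact dvd_mul_of_dvd_left (by simp [tor]) _
    · refine ⟨2, q ^ 2 - 1, by simp [maxOrders], by omega,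
        fun f hf => le_trans (hν f hf) (by norm_num), fun f hf => ?_⟩
      rcases hle2 f hf with h | h
      · rw [h]; exact tor_one_dvd_sq _
      · have : s f = true := by
          cases hs : s f
          · exact absurd ⟨f, hf, h, hs⟩ hminus
          · rfl
        rw [h, this]
        simp [tor]
  simp only [not_or, not_exists, not_and, not_lt] at h1
  -- semisimple up to one fixed vector
  have hν : ∀ f ∈ T, ν f ≤ 2 ^ 0 := fun f hf => by simpa using h1.2 f hf
  have hD4 : D ≤ 4 := by omega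
  by_cases h4 : ∃ f ∈ T, d f = 4
  · obtain ⟨f, hf, hdf⟩ := h4
    have hone : ∀ g ∈ T, g = f := fun g hg => by
      by_contra hne
      have := hd2 f hf g hg hne
      have := (hpos g hg).1
      omega
    refine ⟨0, tor q 4 (s f), ?_, by omega, hν, fun g hg => by rw [hone g hg, hdf]⟩
    cases s f <;> simp [maxOrders, tor]
  by_cases h33 : ∃ f ∈ T, d f = 3
  · obtain ⟨f, hf, hdf⟩ := h33
    refine ⟨0, if s f then (q ^ 3 - 1) * (q + 1) else (q ^ 3 + 1) * (q - 1), ?_, by omega, hν,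
      fun g hg => ?_⟩
    · cases s f <;> simp [maxOrders]
    · by_cases hne : g = f
      · subst hne
        rw [hdf]
        cases s g <;> simp [tor]
      · have := hd2 f hf g hg hne
        have := (hpos g hg).1
        rw [show d g = 1 by omega]
        exact tor_one_dvd_three _ _
  refine ⟨0, q ^ 4 - 1, by simp [maxOrders], by omega, hν, fun f hf => ?_⟩
  have := hd f hf
  have := (hpos f hf).1
  have : d f ≠ 4 := fun h => h4 ⟨f, hf, h⟩
  have : d f ≠ 3 := fun h => h33 ⟨f, hf, h⟩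
  rcases (show d f = 1 ∨ d f = 2 by omega) with h | h <;> rw [h]
  · refine (tor_one_dvd_sq _).trans ?_
    have := tor_two_dvd q true
    simpa [tor] using this
  · exact tor_two_dvd q _

variable {F : Type*} [Field F] [Fintype F] [CharP F 2]

/-- The upper bound. -/
theorem exists_maxOrder_pow {A : Matrix (Fin 4 ⊕ Fin 4) (Fin 4 ⊕ Fin 4) F}
    (hA : Preserves (sympForm 4 F) A) (hdet : A.det ≠ 0) :
    ∃ k ∈ maxOrders (Fintype.card F), A ^ k = 1 := by
  obtain ⟨T, d, ν, s, ν₀, hpos, hw, hpow⟩ :=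
    exists_orbits (isReflexiveSesq_sympForm 4) hA hdet
  obtain ⟨e, L, hmem, h0, hν, hL⟩ := exists_maxOrder (Fintype.card F) T d ν s ν₀ hpos (by simpa using hw)
  exact ⟨_, hmem, hpow e h0 hν L hL⟩

/-- The realisations. -/
theorem realised_maxOrders {k : ℕ} (hk : k ∈ maxOrders (Fintype.card F)) :
    ∃ j, k ∣ j ∧ Realised F 4 j False := by
  set q := Fintype.card F with hq
  have h2 : 2 ∣ q := by
    rw [← CharP.cast_eq_zero_iff F 2]; exact Nat.cast_card_eq_zero F
  have hq1 : 1 < q := Fintype.one_lt_card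
  have hsplit : ∀ d, 0 < d → Realised F d (q ^ d - 1) True := realised_split
  have hns : ∀ d, 0 < d → Realised F d (q ^ d + 1) False := realised_nonsplit
  have hodd : ∀ n, 0 < n → (q ^ n + 1) % 2 = 1 ∧ (q ^ n - 1) % 2 = 1 := fun n hn => by
    have h3 : 2 ∣ q ^ n := dvd_pow h2 hn.ne'
    have := Nat.one_le_pow n q (by omega)
    omega
  have hcopPM : ∀ n, 0 < n → Nat.Coprime (q ^ n + 1) (q ^ n - 1) := fun n hn => by
    have hg2 : Nat.gcd (q ^ n + 1) (q ^ n - 1) ∣ 2 := by
      have h3 := Nat.dvd_sub (Nat.gcd_dvd_left (q ^ n + 1) (q ^ n - 1))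
        (Nat.gcd_dvd_right (q ^ n + 1) (q ^ n - 1))
      have := Nat.one_le_pow n q (by omega)
      rwa [show q ^ n + 1 - (q ^ n - 1) = 2 by omega] at h3
    rcases (Nat.dvd_prime Nat.prime_two).1 hg2 with h | h
    · exact h
    · have := Nat.gcd_dvd_left (q ^ n + 1) (q ^ n - 1)
      rw [h] at this
      have := (hodd n hn).1
      omega
  have hlcm : ∀ {a b : ℕ}, Nat.Coprime a b → a * b ∣ Nat.lcm a b := fun h => by rw [h.lcm_eq_mul]
  have hc : ∀ {a : ℕ} (j : ℕ), a % 2 = 1 → Nat.Coprime a (2 ^ j) := fun j h =>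
    Nat.Coprime.pow_right j ((Nat.coprime_two_right).2 (Nat.odd_iff.2 h))
  have hc2 : ∀ {a : ℕ}, a % 2 = 1 → Nat.Coprime a 2 := fun h => hc 1 h
  have o2p := hodd 2 two_pos
  have o3 := hodd 3 three_pos
  have o1 := hodd 1 one_pos
  simp only [pow_one] at o1
  have hq21 : q + 1 ∣ q ^ 2 - 1 ∧ q - 1 ∣ q ^ 2 - 1 := by
    rw [show q ^ 2 - 1 = (q + 1) * (q - 1) by rw [← Nat.sq_sub_sq, one_pow]]
    exact ⟨dvd_mul_right _ _, dvd_mul_left _ _⟩
  have cop3 : Nat.Coprime (q ^ 3 + 1) (q - 1) ∧ Nat.Coprime (q ^ 3 - 1) (q + 1) := by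
    have h := hcopPM 3 three_pos
    refine ⟨h.coprime_dvd_right (by simpa using Nat.sub_one_dvd_pow_sub_one q 3),
      h.symm.coprime_dvd_right (by simpa using Odd.nat_add_dvd_pow_add_pow q 1 (n := 3) (by decide))⟩
  simp only [maxOrders, Finset.mem_insert, Finset.mem_singleton] at hk
  rcases hk with rfl | rfl | rfl | rfl | rfl | rfl | rfl | rfl | rfl | rfl | rfl | rfl
  · exact ⟨_, dvd_rfl, hns 4 (by norm_num)⟩
  · refine ⟨_, ?_, ((hns 2 two_pos).sum (hsplit 2 two_pos)).congr (by simp)⟩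
    refine dvd_trans (dvd_of_eq ?_) (hlcm (hcopPM 2 two_pos))
    rw [← Nat.sq_sub_sq, one_pow, ← pow_mul]
  · refine ⟨_, ?_, ((hns 3 three_pos).sum (hsplit 1 one_pos)).congr (by simp)⟩
    rw [pow_one]; exact hlcm cop3.1
  · refine ⟨_, ?_, ((hsplit 3 three_pos).sum (hns 1 one_pos)).congr (by simp)⟩
    rw [pow_one]; exact hlcm cop3.2
  · exact ⟨_, hlcm (hc2 o3.1), ((hns 3 three_pos).sum (realised_unip_one True)).congr (by simp)⟩
  · exact ⟨_, hlcm (hc2 o3.2), ((hsplit 3 three_pos).sum (realised_unip_one False)).congr (by simp)⟩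
  · refine ⟨_, ?_, (((hns 2 two_pos).sum (hns 1 one_pos)).sum (realised_unip_one False)).congr
      (by simp)⟩
    have hcop : Nat.Coprime (q ^ 2 + 1) (q + 1) := (hcopPM 2 two_pos).coprime_dvd_right hq21.1
    rw [pow_one, hcop.lcm_eq_mul]
    exact hlcm (hc2 (by rw [Nat.mul_mod, o2p.1, o1.1]))
  · refine ⟨_, ?_, (((hns 2 two_pos).sum (hsplit 1 one_pos)).sum (realised_unip_one True)).congr
      (by simp)⟩
    have hcop : Nat.Coprime (q ^ 2 + 1) (q - 1) := (hcopPM 2 two_pos).coprime_dvd_right hq21.2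
    rw [pow_one, hcop.lcm_eq_mul]
    exact hlcm (hc2 (by rw [Nat.mul_mod, o2p.1, o1.2]))
  · exact ⟨_, hlcm (hc 2 o2p.1), ((hns 2 two_pos).sum (realised_unip_two True)).congr (by simp)⟩
  · exact ⟨_, hlcm (hc 2 o2p.2), ((hsplit 2 two_pos).sum (realised_unip_two False)).congr (by simp)⟩
  · refine ⟨_, ?_, ((hns 1 one_pos).sum (realised_unip_three True)).congr (by simp)⟩
    rw [pow_one]; exact hlcm (hc 3 o1.1)
  · refine ⟨_, ?_, ((hsplit 1 one_pos).sum (realised_unip_three False)).congr (by simp)⟩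
    rw [pow_one]; exact hlcm (hc 3 o1.2)

end Cfsg.Agent.Spectrum.SympEight
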