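import Cfsg.Agent.Lib.Spectrum.QuadTori
import Cfsg.Agent.Lib.PrimeGraph.Module
import Cfsg.Agent.Lib.ClassicalSimple.DicksonRank

/-!
For `F` of two-power order and `m = 2` or `4`: the groups `V ^ k ⋊ Ω⁻(2m, F)` have the same element orders
as `PSp(2m, F)`.
-/

set_option autoImplicit false
set_option maxHeartbeats 400000

open Module (finrank End)
open scoped Matrix
open Cfsg.Agent.GL Cfsg.Agent.PrimeGraph Cfsg.Agent.Spectrum.SympCrit Cfsg.Agent.Spectrum.QuadBlocks

namespace Cfsg.Agent.Spectrum.SympWitness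

universe u

/-! ### Arithmetic of the types -/

theorem coprime_pred_succ {x : ℕ} (hx : Even x) (h1 : 1 ≤ x) : Nat.Coprime (x - 1) (x + 1) := by
  have h : Odd (x - 1) := Nat.Even.sub_odd h1 hx odd_one
  rw [show x + 1 = (x - 1) + 2 by omega, Nat.coprime_self_add_right]
  exact Nat.coprime_two_right.2 h

theorem pow_two_mul_sub_one (q e : ℕ) : q ^ (2 * e) - 1 = (q ^ e - 1) * (q ^ e + 1) := by
  rw [show q ^ (2 * e) = (q ^ e) ^ 2 by rw [← pow_mul, mul_comm], mul_comm, ← Nat.sq_sub_sq, one_pow]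

theorem double_dvd {q e : ℕ} (hq : Even q) (he : 0 < e) (h0 : 0 < q) :
    q ^ (2 * e) - 1 ∣ Nat.lcm (tExp q (e, false)) (tExp q (e, true)) := by
  rw [pow_two_mul_sub_one, tExp, tExp, if_neg (by simp), if_pos rfl,
    (coprime_pred_succ (Nat.even_pow.2 ⟨hq, he.ne'⟩) (Nat.one_le_pow _ _ h0)).lcm_eq_mul]

theorem succ_dvd_cube_succ (q : ℕ) : q + 1 ∣ q ^ 3 + 1 := by
  have h : Odd 3 := by decide
  simpa using h.nat_add_dvd_pow_add_pow q 1

/-- Replacing the types of a torus of plus type. -/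
theorem exists_types (T : Finset (ℕ × Bool)) (hT : ∀ t ∈ T, 0 < t.1) {m : ℕ} (hm : m = 2 ∨ m = 4)
    (hsum : ∑ t ∈ T, t.1 ≤ m) {q : ℕ} (hq : Even q) (h0 : 0 < q) :
    ∃ T' : Finset (ℕ × Bool), (∀ t ∈ T', 0 < t.1) ∧ ∑ t ∈ T', t.1 ≤ m ∧
      (∑ t ∈ T', t.1 = m → par T' = true) ∧ T.lcm (tExp q) ∣ T'.lcm (tExp q) := by
  have hsub : T ⊆ (Finset.Icc 1 m) ×ˢ ({false, true} : Finset Bool) := fun t ht =>
    Finset.mem_product.2 ⟨Finset.mem_Icc.2 ⟨hT t ht,
      (Finset.single_le_sum (f := fun t : ℕ × Bool => t.1) (fun _ _ => Nat.zero_le _) ht).trans hsum⟩,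
      by cases t.2 <;> simp⟩
  by_cases hgood : ∑ t ∈ T, t.1 = m → par T = true
  · exact ⟨T, hT, hsum, hgood, dvd_rfl⟩
  push Not at hgood
  obtain ⟨heq, hpar⟩ := hgood
  have h2 : ({(1, false), (1, true)} : Finset (ℕ × Bool)).lcm (tExp q) =
      Nat.lcm (tExp q (1, false)) (tExp q (1, true)) := by simp [Finset.lcm_insert, lcm_eq_nat_lcm]
  have h4 : ({(2, false), (2, true)} : Finset (ℕ × Bool)).lcm (tExp q) =
      Nat.lcm (tExp q (2, false)) (tExp q (2, true)) := by simp [Finset.lcm_insert, lcm_eq_nat_lcm]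
  rcases hm with rfl | rfl
  · have hTe : T = {(2, false)} := by
      have : ∀ S ∈ ((Finset.Icc 1 2) ×ˢ ({false, true} : Finset Bool)).powerset,
          ∑ t ∈ S, t.1 = 2 → par S ≠ true → S = {(2, false)} := by decide +kernel
      exact this T (Finset.mem_powerset.2 hsub) heq hpar
    refine ⟨{(1, false), (1, true)}, by decide, by decide, fun _ => by decide, ?_⟩
    rw [hTe, Finset.lcm_singleton, normalize_eq, h2]
    exact double_dvd (e := 1) hq one_pos h0
  · have hTe : T = {(4, false)} ∨ T = {(3, false), (1, false)} ∨ T = {(3, true), (1, true)} ∨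
        T = {(2, true), (1, false), (1, true)} := by
      have : ∀ S ∈ ((Finset.Icc 1 4) ×ˢ ({false, true} : Finset Bool)).powerset,
          ∑ t ∈ S, t.1 = 4 → par S ≠ true → (S = {(4, false)} ∨ S = {(3, false), (1, false)} ∨
            S = {(3, true), (1, true)} ∨ S = {(2, true), (1, false), (1, true)}) := by decide +kernel
      exact this T (Finset.mem_powerset.2 hsub) heq hpar
    have hd1 : ∀ b, tExp q (1, b) ∣ q ^ (2 * 1) - 1 := fun b => by
      rw [pow_two_mul_sub_one]
      cases b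
      · exact dvd_mul_right _ _
      · exact dvd_mul_left _ _
    rcases hTe with rfl | rfl | rfl | rfl
    · refine ⟨{(2, false), (2, true)}, by decide, by decide, fun _ => by decide, ?_⟩
      rw [Finset.lcm_singleton, normalize_eq, h4]
      exact double_dvd (e := 2) hq two_pos h0
    · refine ⟨{(3, false)}, by decide, by decide, fun h => absurd h (by decide), ?_⟩
      refine Finset.lcm_dvd fun t ht => ?_
      rw [Finset.lcm_singleton, normalize_eq]
      rcases Finset.mem_insert.1 ht with rfl | ht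
      · exact dvd_rfl
      · rw [Finset.mem_singleton.1 ht]
        show q ^ 1 - 1 ∣ q ^ 3 - 1
        rw [pow_one]
        exact Nat.sub_one_dvd_pow_sub_one q 3
    · refine ⟨{(3, true)}, by decide, by decide, fun h => absurd h (by decide), ?_⟩
      refine Finset.lcm_dvd fun t ht => ?_
      rw [Finset.lcm_singleton, normalize_eq]
      rcases Finset.mem_insert.1 ht with rfl | ht
      · exact dvd_rfl
      · rw [Finset.mem_singleton.1 ht]
        show q ^ 1 + 1 ∣ q ^ 3 + 1
        rw [pow_one]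
        exact succ_dvd_cube_succ q
    · refine ⟨{(2, false), (2, true)}, by decide, by decide, fun _ => by decide, ?_⟩
      refine Finset.lcm_dvd fun t ht => ?_
      rw [h4]
      simp only [Finset.mem_insert, Finset.mem_singleton] at ht
      rcases ht with rfl | rfl | rfl
      · exact Nat.dvd_lcm_right _ _
      · exact (hd1 _).trans (Nat.dvd_lcm_left (tExp q (2, false)) _)
      · exact (hd1 _).trans (Nat.dvd_lcm_left (tExp q (2, false)) _)

theorem exists_order_eq_of_dvd {G : Type*} [Group G] [Finite G] {n : ℕ} (g : G) (h : n ∣ orderOf g) :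
    ∃ g' : G, orderOf g' = n :=
  ⟨g ^ (orderOf g / n), orderOf_pow_orderOf_div (orderOf_pos g).ne' h⟩

variable {F : Type u} [Field F] [Fintype F] [CharP F 2]

/-! ### The symplectic group -/

theorem center_symplectic_eq_bot {m : ℕ} (hm : 0 < m) :
    Subgroup.center (Matrix.symplecticGroup (Fin m) F) = ⊥ := by
  refine (Subgroup.eq_bot_iff_forall _).2 fun z hz => ?_
  obtain ⟨c, hc⟩ := symp_center_scalar z hz
  have h2 := symp_scalar_sq hm (c := c) (hc ▸ mem_symplectic_iff_preserves.1 z.2)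
  have h1 : c = 1 := CharTwo.sq_injective (show c ^ 2 = 1 ^ 2 by rw [sq, h2, one_pow])
  exact Subtype.ext (by rw [hc, h1, one_smul]; rfl)

theorem orderOf_mk {m : ℕ} (hm : 0 < m) (g : Matrix.symplecticGroup (Fin m) F) :
    orderOf (QuotientGroup.mk g : Cfsg.PSp m F) = orderOf g := by
  refine orderOf_injective (QuotientGroup.mk' (Subgroup.center (Matrix.symplecticGroup (Fin m) F))) ?_ g
  rw [← MonoidHom.ker_eq_bot_iff, QuotientGroup.ker_mk', center_symplectic_eq_bot hm]

/-- A block gives an element of the symplectic group. -/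
theorem exists_sp_dvd (B : Blk F) {n : ℕ} (h : B.Per n) :
    ∃ g : Matrix.symplecticGroup (Fin B.m) F, n ∣ orderOf g := by
  let e : B.V ≃ₗ[F] (Fin (2 * B.m) → F) := (Module.finBasisOfFinrankEq F B.V B.dim).equivFun
  let H : (Fin (2 * B.m) → F) → (Fin (2 * B.m) → F) → F := fun u v =>
    QuadraticMap.polar ⇑B.Q (e.symm u) (e.symm v)
  have hH : IsReflexiveSesq (RingHom.id F) H :=
    { invol := fun _ => rfl
      add_left := fun u u' v => by simp [H, QuadraticMap.polar_add_left]
      smul_left := fun c u v => by simp [H, QuadraticMap.polar_smul_left]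
      add_right := fun u v v' => by simp [H, QuadraticMap.polar_add_right]
      smul_right := fun c u v => by simp [H, QuadraticMap.polar_smul_right]
      refl := fun u v huv => by simpa [H, QuadraticMap.polar_comm] using huv
      nondeg := fun v hv => by
        have : e.symm v = 0 := B.nondeg.1 _ fun y => by
          have := hv (e y)
          simp only [H, LinearEquiv.symm_apply_apply] at this
          rw [QuadraticMap.polarBilin_apply_apply, QuadraticMap.polar_comm]
          exact this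
        simpa using this }
  obtain ⟨Φ, hΦ⟩ := exists_to_standard_symp (d := B.m) (Fintype.card_fin _) hH fun v => by
    simp [H, QuadraticMap.polar_self, CharTwo.two_eq_zero]
  set A : Matrix (Fin (2 * B.m)) (Fin (2 * B.m)) F :=
    LinearMap.toMatrixAlgEquiv' (e.conjRingEquiv B.f) with hA
  have hmul : ∀ x, A *ᵥ x = e (B.f (e.symm x)) := fun x => by
    rw [hA, ← Matrix.toLinAlgEquiv'_apply, Matrix.toLinAlgEquiv'_toMatrixAlgEquiv']
    rfl
  have hp : Preserves H A := fun u v => by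
    simp only [H, hmul, LinearEquiv.symm_apply_apply, QuadraticMap.polar, ← map_add, B.isometry]
  refine ⟨⟨Φ A, mem_symplectic_iff_preserves.2 (hΦ A hp)⟩, h _ ?_⟩
  set g : Matrix.symplecticGroup (Fin B.m) F := ⟨Φ A, mem_symplectic_iff_preserves.2 (hΦ A hp)⟩
  have h1 := congrArg Subtype.val (pow_orderOf_eq_one g)
  rw [SubmonoidClass.coe_pow, OneMemClass.coe_one, ← map_pow, map_eq_one_iff _ Φ.injective, hA, ← map_pow,
    map_eq_one_iff _ LinearMap.toMatrixAlgEquiv'.injective, ← map_pow,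
    map_eq_one_iff _ e.conjRingEquiv.injective] at h1
  exact h1

theorem exists_psp_order (T : Finset (ℕ × Bool)) (hT : ∀ t ∈ T, 0 < t.1) {c m : ℕ} (hc : c ≤ 3) (hm0 : 0 < m)
    (hm : ∑ t ∈ T, t.1 + c ≤ m) {n : ℕ} (hn : n ∣ 2 ^ c * T.lcm (tExp (Fintype.card F))) :
    ∃ x : Cfsg.PSp m F, orderOf x = n := by
  obtain ⟨B, rfl, hB⟩ := exists_per (F := F) T hT hc hm
  obtain ⟨g, hg⟩ := exists_sp_dvd B hB
  obtain ⟨g', hg'⟩ := exists_order_eq_of_dvd g (hn.trans hg)
  exact ⟨QuotientGroup.mk g', by rw [orderOf_mk hm0, hg']⟩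

/-! ### Sums of powers -/

omit [Fintype F] in
theorem sum_pow_two_pow {ι : Type*} [Fintype ι] [DecidableEq ι] [Nonempty ι] (M : Matrix ι ι F) (a : ℕ) :
    ∑ j ∈ Finset.range (2 ^ a), M ^ j = (M - 1) ^ (2 ^ a - 1) := by
  induction a with
  | zero => simp
  | succ a ih =>
    have h1 : 1 + M ^ 2 ^ a = (M - 1) ^ 2 ^ a := by
      rw [sub_pow_char_pow_of_commute _ _ (Commute.one_right M), one_pow, CharTwo.sub_eq_add, add_comm]
    rw [pow_succ, mul_two, Finset.sum_range_add, show 2 ^ a + 2 ^ a - 1 = 2 ^ a + (2 ^ a - 1) by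
      have := Nat.one_le_two_pow (n := a); omega, pow_add, ← ih, ← h1, add_mul, one_mul, Finset.mul_sum]
    simp only [pow_add]

omit [Fintype F] [CharP F 2] in
theorem sum_pow_mul {ι : Type*} [Fintype ι] [DecidableEq ι] (M : Matrix ι ι F) (P r : ℕ) :
    ∑ j ∈ Finset.range (P * r), M ^ j = (∑ j ∈ Finset.range P, M ^ j) * ∑ i ∈ Finset.range r, (M ^ P) ^ i := by
  induction r with
  | zero => simp
  | succ r ih =>
    rw [mul_add, mul_one, Finset.sum_range_add, ih, Finset.sum_range_succ, mul_add, Finset.sum_mul _ _ ((M ^ P) ^ r)]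
    congr 1
    exact Finset.sum_congr rfl fun j _ => by rw [← pow_mul, ← pow_add, add_comm]

/-- A long chain of kernels. -/
theorem finrank_ker_pow {V : Type*} [AddCommGroup V] [Module F V] [FiniteDimensional F V] (N : End F V)
    (P : ℕ) (w : V) (h0 : (N ^ P) w = 0) (h1 : (N ^ (P - 1)) w ≠ 0) :
    finrank F (LinearMap.ker N) + (P - 1) ≤ finrank F (LinearMap.ker (N ^ P)) := by
  have key : ∀ k, k + 1 ≤ P → finrank F (LinearMap.ker N) + k ≤ finrank F (LinearMap.ker (N ^ (k + 1))) := by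
    intro k hk
    induction k with
    | zero => rw [zero_add, pow_one, add_zero]
    | succ k ih =>
      refine le_trans ?_ (Nat.succ_le_of_lt (Submodule.finrank_lt_finrank_of_lt (K := F) (s := LinearMap.ker (N ^ (k + 1)))
        (t := LinearMap.ker (N ^ (k + 1 + 1))) ?_))
      · have := ih (by omega)
        omega
      · refine lt_of_le_of_ne (fun x hx => ?_) fun he => h1 ?_
        · rw [LinearMap.mem_ker] at hx ⊢
          rw [pow_succ', Module.End.mul_apply, hx, map_zero]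
        · have hx : (N ^ (P - (k + 1 + 1))) w ∈ LinearMap.ker (N ^ (k + 1 + 1)) := by
            rw [LinearMap.mem_ker, ← Module.End.mul_apply, ← pow_add, Nat.add_sub_cancel' hk, h0]
          rw [← he, LinearMap.mem_ker, ← Module.End.mul_apply, ← pow_add] at hx
          rwa [show k + 1 + (P - (k + 1 + 1)) = P - 1 by omega] at hx
  rcases P with - | p
  · exact absurd h0 (by simpa using h1)
  · simpa using key p le_rfl

omit [Fintype F] [CharP F 2] in
theorem pow_left_toAdd {X W : Type*} [Group X] [AddCommGroup W] [DistribMulAction X W] (y : ModGroup X W)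
    (k : ℕ) : (y ^ k).left.toAdd = ∑ i ∈ Finset.range k, y.right ^ i • y.left.toAdd ∧ (y ^ k).right = y.right ^ k := by
  induction k with
  | zero => simp
  | succ k ih =>
    refine ⟨?_, ?_⟩
    · rw [pow_succ, SemidirectProduct.mul_left, Finset.sum_range_succ, ← ih.1, ih.2]
      rfl
    · rw [pow_succ, SemidirectProduct.mul_right, ih.2, pow_succ]

/-! ### The witness groups -/

variable {ι : Type} [Fintype ι] [DecidableEq ι]

/-- The natural action of `Ω`. -/
@[implicit_reducible]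
def omegaAction (Q : (ι → F) → F) : DistribMulAction ↥(Cfsg.Omega F Q) (ι → F) where
  smul g v := (((g : Cfsg.isometryGroup F Q) : Matrix.GeneralLinearGroup ι F) : Matrix ι ι F) *ᵥ v
  one_smul := Matrix.one_mulVec
  mul_smul _ _ v := (Matrix.mulVec_mulVec v _ _).symm
  smul_zero _ := Matrix.mulVec_zero _
  smul_add _ := Matrix.mulVec_add _

/-- Orders in `V ^ k ⋊ Ω` are orders in the symplectic group. -/
theorem mem_psp_orders {m : ℕ} (hm : 0 < m) (hm4 : m ≤ 4) (Q : QuadraticForm F (ι → F))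
    (hQ : (QuadraticMap.polarBilin Q).Nondegenerate) (hι : Fintype.card ι = 2 * m)
    (h2 : Fintype.card F ≠ 2 ∨ Fintype.card ι ≠ 4) (k : ℕ)
    (y : letI := omegaAction (⇑Q); ModGroup ↥(Cfsg.Omega F ⇑Q) (Fin k → ι → F)) :
    ∃ x : Cfsg.PSp m F, orderOf x = orderOf y := by
  letI := omegaAction (⇑Q)
  set g := y.right
  let M : Matrix ι ι F := (((g : Cfsg.isometryGroup F ⇑Q) : Matrix.GeneralLinearGroup ι F) : Matrix ι ι F)
  let φ : ↥(Cfsg.Omega F ⇑Q) →* Matrix ι ι F :=
    ((Units.coeHom (Matrix ι ι F)).comp (Cfsg.isometryGroup F ⇑Q).subtype).comp (Cfsg.Omega F ⇑Q).subtype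
  have hφ : Function.Injective φ := fun a b h => Subtype.ext (Subtype.ext (Units.ext h))
  have hMg : M = φ g := rfl
  have hMn : M ^ orderOf g = 1 := by rw [hMg, ← map_pow, pow_orderOf_eq_one, map_one]
  have hiso : ∀ v, Q (M *ᵥ v) = Q v := fun v => (g : Cfsg.isometryGroup F ⇑Q).2 v v
  let H : (ι → F) → (ι → F) → F := fun u v => QuadraticMap.polar ⇑Q u v
  have hH : IsReflexiveSesq (RingHom.id F) H :=
    { invol := fun _ => rfl
      add_left := fun u u' v => QuadraticMap.polar_add_left _ _ _ _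
      smul_left := fun c u v => by simp [H, QuadraticMap.polar_smul_left]
      add_right := fun u v v' => QuadraticMap.polar_add_right _ _ _ _
      smul_right := fun c u v => by simp [H, QuadraticMap.polar_smul_right]
      refl := fun u v huv => by simpa [H, QuadraticMap.polar_comm] using huv
      nondeg := fun v hv => hQ.1 v fun w => by
        rw [QuadraticMap.polarBilin_apply_apply, QuadraticMap.polar_comm]; exact hv w }
  have hp : Preserves H M := fun u v => by
    simp only [H, QuadraticMap.polar, ← Matrix.mulVec_add, hiso]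
  have hW : ∀ w : Fin k → ι → F, 2 • w = 0 := fun w => by
    funext i j
    simp [CharTwo.two_eq_zero, two_nsmul, CharTwo.add_self_eq_zero]
  obtain ⟨c, hc⟩ : orderOf g ∣ orderOf y := orderOf_right_dvd y
  have hpos : 0 < orderOf g := orderOf_pos _
  have hc2 : c = 1 ∨ c = 2 :=
    (Nat.dvd_prime Nat.prime_two).1 (Nat.dvd_of_mul_dvd_mul_left hpos (hc ▸ orderOf_dvd_mul hW y))
  rcases hc2 with rfl | rfl
  · obtain ⟨T, e, hT, hsum, he, hpow⟩ := exists_crit hH hp (m := m) hι.le hm4
    refine exists_psp_order T hT he hm hsum ?_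
    rw [hc, mul_one]
    refine orderOf_dvd_of_pow_eq_one (hφ ?_)
    rw [map_pow, map_one, ← hMg]
    exact hpow
  -- the order doubles
  obtain ⟨i, hi⟩ : ∃ i, (∑ j ∈ Finset.range (orderOf g), M ^ j) *ᵥ (y.left.toAdd i) ≠ 0 := by
    by_contra! hall
    have : y ^ orderOf g = 1 := by
      refine SemidirectProduct.ext ?_ ?_
      · rw [SemidirectProduct.one_left, ← toAdd_eq_zero, (pow_left_toAdd y _).1]
        funext i
        rw [Finset.sum_apply, Pi.zero_apply, ← hall i, Matrix.sum_mulVec]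
        refine Finset.sum_congr rfl fun j _ => ?_
        rw [hMg, ← map_pow]
        rfl
      · rw [(pow_left_toAdd y _).2, SemidirectProduct.one_right]
        exact pow_orderOf_eq_one g
    have := Nat.le_of_dvd hpos (orderOf_dvd_of_pow_eq_one this)
    omega
  obtain ⟨a, r, hr, hn⟩ := Nat.exists_eq_two_pow_mul_odd hpos.ne'
  have : Nonempty ι := Fintype.card_pos_iff.1 (by omega)
  rw [hn, sum_pow_mul, sum_pow_two_pow, ← Matrix.mulVec_mulVec] at hi
  set w := (∑ j ∈ Finset.range r, (M ^ 2 ^ a) ^ j) *ᵥ (y.left.toAdd i) with hw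
  set N : End F (ι → F) := (M - 1).mulVecLin with hN
  have hNk : ∀ k, N ^ k = ((M - 1) ^ k).mulVecLin := fun k => by
    show (Matrix.toLinAlgEquiv' (M - 1)) ^ k = _
    rw [← map_pow]
    rfl
  have hzero : (N ^ 2 ^ a) w = 0 := by
    rw [hNk, Matrix.mulVecLin_apply, sub_pow_char_pow_of_commute _ _ (Commute.one_right M), one_pow, hw,
      Matrix.mulVec_mulVec, sub_mul, one_mul, Matrix.sub_mulVec, sub_eq_zero]
    congr 1
    have h1 := mul_geom_sum (M ^ 2 ^ a) r
    rw [← pow_mul, ← hn, hMn, sub_self, sub_mul, one_mul, sub_eq_zero] at h1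
    exact h1
  have hne : (N ^ (2 ^ a - 1)) w ≠ 0 := by rw [hNk]; exact hi
  have hker := finrank_ker_pow N (2 ^ a) w hzero hne
  have hK : 2 ≤ finrank F (LinearMap.ker N) := by
    have hev := (ClassicalSimple.mem_omega_iff_even_rank Q hQ h2 (g : Cfsg.isometryGroup F ⇑Q)).1 g.2
    have hrn := LinearMap.finrank_range_add_finrank_ker N
    rw [Module.finrank_fintype_fun_eq_card, hι] at hrn
    have hpos' : 0 < finrank F (LinearMap.ker N) := by
      refine Nat.pos_of_ne_zero fun h0 => hne ?_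
      have hinj : Function.Injective N := LinearMap.ker_eq_bot.1 (Submodule.finrank_eq_zero.1 h0)
      have hinj' : Function.Injective ⇑(N ^ 2 ^ a) := by
        rw [Module.End.coe_pow]; exact hinj.iterate _
      rw [show w = 0 from hinj' (hzero.trans (map_zero _).symm), map_zero]
    have hev' : Even (finrank F (LinearMap.range N)) := hev
    obtain ⟨x, hx⟩ := hev'
    omega
  obtain ⟨T, e, hT, hsum, hpow⟩ := exists_crit_ker hH hp (2 ^ a)
  rw [hι, ← hNk] at hsum
  have ha : 2 * a ≤ 2 ^ a ∧ (2 ^ a < 8 → a < 3) := by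
    refine ⟨?_, fun h => (Nat.pow_lt_pow_iff_right (a := 2) one_lt_two).1 (h.trans_le (by norm_num))⟩
    rcases a with - | a
    · simp
    · rw [pow_succ, mul_comm]
      exact Nat.mul_le_mul_right 2 Nat.lt_two_pow_self
  have h1p : 1 ≤ 2 ^ a := Nat.one_le_two_pow
  have ha2 : a < 3 := ha.2 (by omega)
  refine exists_psp_order T hT (c := a + 1) (by omega) hm (by omega) ?_
  rw [hc, hn, show 2 ^ a * r * 2 = 2 ^ (a + 1) * r by ring]
  refine mul_dvd_mul_left _ ?_
  refine (Nat.Coprime.pow_right e (Nat.coprime_two_right.2 hr)).dvd_of_dvd_mul_left ?_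
  refine (dvd_mul_left r (2 ^ a)).trans (hn ▸ ?_)
  refine orderOf_dvd_of_pow_eq_one (hφ ?_)
  rw [map_pow, map_one, ← hMg]
  exact hpow

/-- A minus block gives an element of `Ω` and a vector. -/
theorem exists_witness {m : ℕ} (hm : 0 < m) {a b : F}
    (hab : ∀ z₁ z₂ : F, z₁ ^ 2 + a * z₁ * z₂ + b * z₂ ^ 2 = 0 → z₁ = 0 ∧ z₂ = 0)
    (h2 : Fintype.card F ≠ 2 ∨ Fintype.card ((Fin (m - 1) ⊕ Fin (m - 1)) ⊕ Fin 2) ≠ 4) (k : ℕ)
    (B : Blk F) (hBm : B.m = m) (hBb : B.b = true) (hev : B.Ev) {n : ℕ} (hd : B.Dbl n) :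
    letI := omegaAction (⇑(Forms.quadMinus (m - 1) F a b))
    ∃ y : ModGroup ↥(Cfsg.Omega F ⇑(Forms.quadMinus (m - 1) F a b))
      (Fin (k + 1) → (Fin (m - 1) ⊕ Fin (m - 1)) ⊕ Fin 2 → F), n ∣ orderOf y := by
  letI := omegaAction (⇑(Forms.quadMinus (m - 1) F a b))
  set Q := Forms.quadMinus (m - 1) F a b
  obtain ⟨φ, hφ⟩ : ∃ φ : B.V ≃ₗ[F] ((Fin (m - 1) ⊕ Fin (m - 1)) ⊕ Fin 2 → F), ∀ v, Q (φ v) = B.Q v := by
    rcases QForm.exists_iso_plus_or_minus hab B.m B.Q B.nondeg B.dim with ⟨φ, hφ⟩ | ⟨-, h⟩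
    · exfalso
      have h := B.zeros
      rw [Forms.card_zeros_congr φ (Q' := Forms.quadPlus B.m F) (fun v => by rw [Forms.quadPlus_apply, hφ]),
        Forms.card_quadPlus_zeros_aux, hBb] at h
      have hq : (2 : ℤ) ≤ Fintype.card F := by exact_mod_cast (Fintype.one_lt_card : 1 < Fintype.card F)
      have hpow : 0 < (Fintype.card F : ℤ) ^ B.m := pow_pos (by omega) _
      simp only [sgnOf, if_true, pow_succ] at h
      nlinarith
    · subst hBm
      obtain ⟨φ, hφ⟩ := h
      exact ⟨φ, fun v => by rw [Forms.quadMinus_apply, hφ]⟩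
  set M : Matrix _ _ F := LinearMap.toMatrixAlgEquiv' (φ.conjRingEquiv B.f) with hM
  have hmul : ∀ x, M *ᵥ x = φ (B.f (φ.symm x)) := fun x => by
    rw [hM, ← Matrix.toLinAlgEquiv'_apply, Matrix.toLinAlgEquiv'_toMatrixAlgEquiv']
    rfl
  have hinj : Function.Injective B.f := by
    refine (injective_iff_map_eq_zero B.f).2 fun x hx => B.nondeg.1 x fun y => ?_
    have : QuadraticMap.polar ⇑B.Q (B.f x) (B.f y) = QuadraticMap.polar ⇑B.Q x y := by
      simp only [QuadraticMap.polar, ← map_add, B.isometry]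
    rw [QuadraticMap.polarBilin_apply_apply, ← this, hx, QuadraticMap.polar_zero_left]
  have hu : IsUnit M := by
    refine Matrix.mulVec_injective_iff_isUnit.1 fun x x' h => ?_
    rw [hmul, hmul] at h
    exact φ.symm.injective (hinj (φ.injective h))
  let g₀ : Cfsg.isometryGroup F ⇑Q := ⟨hu.unit, fun u v => by
    show Q (M *ᵥ u) = Q u
    rw [hmul, hφ, B.isometry, ← hφ, LinearEquiv.apply_symm_apply]⟩
  have hg₀ : g₀ ∈ Cfsg.Omega F ⇑Q := by
    rw [ClassicalSimple.mem_omega_iff_even_rank Q (Forms.quadMinus_nondegenerate _ hab) h2]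
    change Even (finrank F (LinearMap.range (M - 1).mulVecLin))
    have : (M - 1).mulVecLin = φ.toLinearMap ∘ₗ (B.f - 1) ∘ₗ φ.symm.toLinearMap := LinearMap.ext fun x => by
      rw [Matrix.mulVecLin_apply, Matrix.sub_mulVec, Matrix.one_mulVec, hmul]
      show φ (B.f (φ.symm x)) - x = φ (B.f (φ.symm x) - φ.symm x)
      rw [map_sub, LinearEquiv.apply_symm_apply]
    rw [this, LinearMap.range_comp, LinearMap.range_comp_of_range_eq_top _ φ.symm.range,
      LinearEquiv.finrank_map_eq]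
    exact hev
  obtain ⟨v, hv⟩ := hd
  let y : ModGroup ↥(Cfsg.Omega F ⇑Q) (Fin (k + 1) → (Fin (m - 1) ⊕ Fin (m - 1)) ⊕ Fin 2 → F) :=
    ⟨Multiplicative.ofAdd (fun _ => φ v), ⟨g₀, hg₀⟩⟩
  have hpow : ∀ (j : ℕ) x, (M ^ j) *ᵥ φ x = φ ((B.f ^ j) x) := fun j => by
    induction j with
    | zero => intro x; simp
    | succ j ih =>
      intro x
      rw [pow_succ', ← Matrix.mulVec_mulVec, ih, hmul, LinearEquiv.symm_apply_apply, pow_succ',
        Module.End.mul_apply]
  let ψ : ↥(Cfsg.Omega F ⇑Q) →* Matrix _ _ F :=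
    ((Units.coeHom _).comp (Cfsg.isometryGroup F ⇑Q).subtype).comp (Cfsg.Omega F ⇑Q).subtype
  have hψ : ψ y.right = M := rfl
  have hone : y ^ orderOf y = 1 := pow_orderOf_eq_one y
  refine ⟨y, hv _ ?_ ?_⟩
  · have h1 : y.right ^ orderOf y = 1 := by rw [← (pow_left_toAdd y _).2, hone]; rfl
    have h2 : M ^ orderOf y = 1 := by rw [← hψ, ← map_pow, h1, map_one]
    refine LinearMap.ext fun x => φ.injective ?_
    rw [← hpow, h2, Matrix.one_mulVec]
    rfl
  · apply φ.injective
    rw [map_sum, map_zero]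
    have h1 : ((y ^ orderOf y).left.toAdd) 0 = 0 := by rw [hone]; rfl
    rw [(pow_left_toAdd y _).1, Finset.sum_apply] at h1
    refine Eq.trans (Finset.sum_congr rfl fun j _ => ?_) h1
    rw [← hpow, ← hψ, ← map_pow]
    rfl

/-- Arbitrarily large groups with the element orders of `PSp(2m, F)`. -/
theorem exists_large {m : ℕ} (hm : m = 2 ∨ m = 4) (hF : Fintype.card F ≠ 2 ∨ m ≠ 2) (N : ℕ) :
    ∃ (H : Type) (_ : Group H) (_ : Fintype H), N < Fintype.card H ∧
      Set.range (orderOf : H → ℕ) = Set.range (orderOf : Cfsg.PSp m F → ℕ) := by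
  have hm0 : 0 < m := by omega
  obtain ⟨a, b, hab⟩ := Semisimple.exists_binary_anisotropic (F := F)
  set Q := Forms.quadMinus (m - 1) F a b with hQ
  have hι : Fintype.card ((Fin (m - 1) ⊕ Fin (m - 1)) ⊕ Fin 2) = 2 * m := by simp; omega
  have h2 : Fintype.card F ≠ 2 ∨ Fintype.card ((Fin (m - 1) ⊕ Fin (m - 1)) ⊕ Fin 2) ≠ 4 := by
    rcases hF with h | h
    · exact Or.inl h
    · exact Or.inr (by omega)
  letI := omegaAction (⇑Q)
  set G := ModGroup ↥(Cfsg.Omega F ⇑Q) (Fin (N + 1) → (Fin (m - 1) ⊕ Fin (m - 1)) ⊕ Fin 2 → F)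
  have : Finite G := inferInstance
  obtain ⟨H, _, _, ⟨e⟩⟩ := exists_small G
  refine ⟨H, inferInstance, inferInstance, ?_, Set.ext fun n => ⟨?_, ?_⟩⟩
  · rw [Fintype.card_eq_nat_card, ← Nat.card_congr e.toEquiv, card_modGroup]
    have : Nontrivial ((Fin (m - 1) ⊕ Fin (m - 1)) ⊕ Fin 2 → F) := inferInstance
    exact lt_of_lt_of_le (exists_lt_card_pow Finite.one_lt_card N) (Nat.le_mul_of_pos_right _ Nat.card_pos)
  · rintro ⟨x, rfl⟩
    obtain ⟨z, hz⟩ := mem_psp_orders hm0 (by omega) Q (Forms.quadMinus_nondegenerate _ hab) hι h2 (N + 1) (e.symm x)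
    exact ⟨z, hz.trans (e.symm.orderOf_eq x)⟩
  · rintro ⟨x, rfl⟩
    obtain ⟨g, rfl⟩ := QuotientGroup.mk_surjective x
    rw [orderOf_mk hm0]
    have hg := mem_symplectic_iff_preserves.1 g.2
    obtain ⟨T, c, hT, hsum, hc, hpow⟩ := exists_crit (isReflexiveSesq_sympForm m) hg (m := m)
      (by simp; omega) (by omega)
    have hgd : orderOf g ∣ 2 ^ c * T.lcm (tExp (Fintype.card F)) :=
      orderOf_dvd_of_pow_eq_one (Subtype.ext (by rw [SubmonoidClass.coe_pow, hpow]; rfl))
    obtain ⟨T', hT', hsum', hpar, hdvd⟩ : ∃ T' : Finset (ℕ × Bool), (∀ t ∈ T', 0 < t.1) ∧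
        ∑ t ∈ T', t.1 + c ≤ m ∧ (c = 0 → ∑ t ∈ T', t.1 = m → par T' = true) ∧
        T.lcm (tExp (Fintype.card F)) ∣ T'.lcm (tExp (Fintype.card F)) := by
      rcases Nat.eq_zero_or_pos c with rfl | hc0
      · obtain ⟨T', h1, h2, h3, h4⟩ := exists_types T hT hm (by omega) (even_card (F := F)) Fintype.card_pos
        exact ⟨T', h1, by omega, fun _ => h3, h4⟩
      · exact ⟨T, hT, hsum, fun h => by omega, dvd_rfl⟩
    obtain ⟨B, hBm, hBb, hev, hd⟩ := exists_dbl (F := F) T' hT' hc hsum' hpar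
    obtain ⟨y, hy⟩ := exists_witness hm0 hab h2 N B hBm hBb hev hd
    obtain ⟨z, hz⟩ := exists_order_eq_of_dvd y (hgd.trans ((mul_dvd_mul_left _ hdvd).trans hy))
    exact ⟨e z, by rw [e.orderOf_eq, hz]⟩

end Cfsg.Agent.Spectrum.SympWitness
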