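import Mathlib

/-!
# A solvable group with element orders the divisors of 5, 9 and 12

A group `A` of exponent 9 and class 3 over a field `K` with 81 elements, extended by `C = 5 : 4`.
The cube of an element depends on its first two coordinates through
`φ (x, y) = x³ (x y⁹ - x⁹ y)`, which vanishes at every point fixed by an element of even order.
-/

set_option autoImplicit false

namespace Cfsg.Agent.Spectrum.FiveFour

/-- Coordinates of `A`. -/
@[ext]
structure A (K : Type) where
  /-- first generator -/
  x : K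
  /-- second generator -/
  y : K
  /-- first middle coordinate of the first representation -/
  p : K
  /-- second middle coordinate of the first representation -/
  q : K
  /-- first middle coordinate of the second representation -/
  r : K
  /-- second middle coordinate of the second representation -/
  s : K
  /-- difference of the two corners -/
  w : K

variable {K : Type} [Field K] [CharP K 3]

local notation "fr" => frobenius K 3

/-- Product in `A`. -/
instance instMulA : Mul (A K) where
  mul u v := ⟨u.x + v.x, u.y + v.y, u.p + v.p + u.x * fr v.x, u.q + v.q + fr u.x * fr (fr v.y),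
    u.r + v.r + fr (fr u.x) * fr v.x, u.s + v.s + fr u.x * v.y,
    u.w + v.w + u.x * v.q + u.p * fr (fr v.y) - fr (fr u.x) * v.s - u.r * v.y⟩

/-- The unit of `A`. -/
instance instOneA : One (A K) where one := ⟨0, 0, 0, 0, 0, 0, 0⟩

/-- Inverse in `A`. -/
instance instInvA : Inv (A K) where
  inv u := ⟨-u.x, -u.y, -u.p + u.x * fr u.x, -u.q + fr u.x * fr (fr u.y),
    -u.r + fr (fr u.x) * fr u.x, -u.s + fr u.x * u.y,
    -u.w + u.x * u.q + u.p * fr (fr u.y) - fr (fr u.x) * u.s - u.r * u.y
      - u.x * (fr u.x * fr (fr u.y)) + fr (fr u.x) * (fr u.x * u.y)⟩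

theorem mul_def (u v : A K) : u * v = ⟨u.x + v.x, u.y + v.y, u.p + v.p + u.x * fr v.x,
    u.q + v.q + fr u.x * fr (fr v.y), u.r + v.r + fr (fr u.x) * fr v.x, u.s + v.s + fr u.x * v.y,
    u.w + v.w + u.x * v.q + u.p * fr (fr v.y) - fr (fr u.x) * v.s - u.r * v.y⟩ := rfl

theorem one_def : (1 : A K) = ⟨0, 0, 0, 0, 0, 0, 0⟩ := rfl

theorem inv_def (u : A K) : u⁻¹ = ⟨-u.x, -u.y, -u.p + u.x * fr u.x,
    -u.q + fr u.x * fr (fr u.y), -u.r + fr (fr u.x) * fr u.x, -u.s + fr u.x * u.y,
    -u.w + u.x * u.q + u.p * fr (fr u.y) - fr (fr u.x) * u.s - u.r * u.y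
      - u.x * (fr u.x * fr (fr u.y)) + fr (fr u.x) * (fr u.x * u.y)⟩ := rfl

/-- The group structure of `A`. -/
instance instGroupA : Group (A K) :=
  Group.ofLeftAxioms
    (fun a b c => by simp only [mul_def, map_add, A.mk.injEq]; refine ⟨?_, ?_, ?_, ?_, ?_, ?_, ?_⟩ <;> ring)
    (fun a => by simp [mul_def, one_def])
    (fun a => by
      simp only [mul_def, one_def, inv_def, map_neg, A.mk.injEq]
      refine ⟨?_, ?_, ?_, ?_, ?_, ?_, ?_⟩ <;> ring)

/-- The coordinates as a product. -/
def equivPi : A K ≃ K × K × K × K × K × K × K where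
  toFun u := (u.x, u.y, u.p, u.q, u.r, u.s, u.w)
  invFun t := ⟨t.1, t.2.1, t.2.2.1, t.2.2.2.1, t.2.2.2.2.1, t.2.2.2.2.2.1, t.2.2.2.2.2.2⟩

/-- `A` is finite. -/
instance instFintypeA [Fintype K] : Fintype (A K) := Fintype.ofEquiv _ equivPi.symm

theorem cube (u : A K) :
    u ^ 3 = ⟨0, 0, 0, 0, 0, 0, fr u.x * (u.x * fr (fr u.y) - fr (fr u.x) * u.y)⟩ := by
  have h3 : (3 : K) = 0 := by simpa using CharP.cast_eq_zero K 3
  rw [pow_succ, pow_succ, pow_one]
  simp only [mul_def, map_add, A.mk.injEq]
  refine ⟨?_, ?_, ?_, ?_, ?_, ?_, ?_⟩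
  · linear_combination u.x * h3
  · linear_combination u.y * h3
  · linear_combination (u.p + u.x * fr u.x) * h3
  · linear_combination (u.q + fr u.x * fr (fr u.y)) * h3
  · linear_combination (u.r + fr (fr u.x) * fr u.x) * h3
  · linear_combination (u.s + fr u.x * u.y) * h3
  · linear_combination (u.w + u.x * u.q + u.p * fr (fr u.y) - fr (fr u.x) * u.s - u.r * u.y) * h3

theorem pow_nine (u : A K) : u ^ 9 = 1 := by
  rw [show 9 = 3 * 3 by rfl, pow_mul, cube, cube, one_def]
  simp

/-- Scaling by a fifth root of unity. -/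
def scale (z : K) (hz : z ^ 5 = 1) : MulAut (A K) where
  toFun u := ⟨z * u.x, z * u.y, z ^ 4 * u.p, z ^ 2 * u.q, z ^ 2 * u.r, z ^ 4 * u.s, z ^ 3 * u.w⟩
  invFun u := ⟨z ^ 4 * u.x, z ^ 4 * u.y, z * u.p, z ^ 3 * u.q, z ^ 3 * u.r, z * u.s, z ^ 2 * u.w⟩
  left_inv u := by
    ext
    all_goals first
      | linear_combination u.x * hz
      | linear_combination u.y * hz
      | linear_combination u.p * hz
      | linear_combination u.q * hz
      | linear_combination u.r * hz
      | linear_combination u.s * hz
      | linear_combination u.w * hz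
  right_inv u := by
    ext
    all_goals first
      | linear_combination u.x * hz
      | linear_combination u.y * hz
      | linear_combination u.p * hz
      | linear_combination u.q * hz
      | linear_combination u.r * hz
      | linear_combination u.s * hz
      | linear_combination u.w * hz
  map_mul' u v := by
    have hf : fr z = z ^ 3 := frobenius_def ..
    have hff : fr (fr z) = z ^ 4 := by
      rw [hf, frobenius_def]
      linear_combination z ^ 4 * hz
    have hf3 : fr (z ^ 3) = z ^ 4 := by rw [← hf, hff]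
    simp only [mul_def, map_mul, hff, hf, hf3, A.mk.injEq]
    refine ⟨?_, ?_, ?_, ?_, ?_, ?_, ?_⟩
    · ring
    · ring
    · ring
    · linear_combination (-(fr u.x * fr (fr v.y)) * z ^ 2) * hz
    · linear_combination (-(fr (fr u.x) * fr v.x) * z ^ 2) * hz
    · ring
    · linear_combination (-(u.p * fr (fr v.y)) * z ^ 3 + fr (fr u.x) * v.s * z ^ 3) * hz

/-- The field automorphism acting on all coordinates. -/
noncomputable def frob [Finite K] : MulAut (A K) :=
  MulEquiv.ofBijective
    ({ toFun := fun u => ⟨fr u.x, fr u.y, fr u.p, fr u.q, fr u.r, fr u.s, fr u.w⟩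
       map_mul' := fun u v => by simp only [mul_def, map_add, map_sub, map_mul] } : A K →ₙ* A K)
    (by
      have : Fintype K := Fintype.ofFinite K
      refine Finite.injective_iff_bijective.1 fun u v h => ?_
      have hi := frobenius_inj K 3
      have := congrArg equivPi h
      simp only [equivPi, MulHom.coe_mk, Equiv.coe_fn_mk, Prod.mk.injEq, hi.eq_iff] at this
      obtain ⟨h1, h2, h3, h4, h5, h6, h7⟩ := this
      exact A.ext h1 h2 h3 h4 h5 h6 h7)

theorem frob_apply [Finite K] (u : A K) :
    frob u = ⟨fr u.x, fr u.y, fr u.p, fr u.q, fr u.r, fr u.s, fr u.w⟩ := rfl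

theorem scale_apply (z : K) (hz : z ^ 5 = 1) (u : A K) :
    scale z hz u = ⟨z * u.x, z * u.y, z ^ 4 * u.p, z ^ 2 * u.q, z ^ 2 * u.r, z ^ 4 * u.s, z ^ 3 * u.w⟩ :=
  rfl

/-- A homomorphism out of `Multiplicative (ZMod n)` from an element killed by `n`. -/
def zmodHom {M : Type*} [Monoid M] {n : ℕ} [NeZero n] (g : M) (hg : g ^ n = 1) :
    Multiplicative (ZMod n) →* M where
  toFun i := g ^ i.toAdd.val
  map_one' := by simp
  map_mul' i j := by
    rw [toAdd_mul, ZMod.val_add, ← pow_add, pow_eq_pow_mod (i.toAdd.val + j.toAdd.val) hg]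

theorem zmodHom_apply {M : Type*} [Monoid M] {n : ℕ} [NeZero n] (g : M) (hg : g ^ n = 1)
    (i : Multiplicative (ZMod n)) : zmodHom g hg i = g ^ i.toAdd.val := rfl

/-- Multiplication by `3` on `ZMod 5`. -/
def times3 : MulAut (Multiplicative (ZMod 5)) where
  toFun i := i ^ 3
  invFun i := i ^ 2
  left_inv := by decide +kernel
  right_inv := by decide +kernel
  map_mul' i j := mul_pow i j 3

/-- `C = 5 : 4`. -/
abbrev C : Type :=
  Multiplicative (ZMod 5) ⋊[zmodHom times3 (by decide +kernel : times3 ^ 4 = 1)] Multiplicative (ZMod 4)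

/-- `C` is finite. -/
instance instFintypeC : Fintype C := Fintype.ofEquiv _ SemidirectProduct.equivProd.symm

/-- Equality in `C` is decidable. -/
instance instDecidableEqC : DecidableEq C :=
  fun a b => decidable_of_iff (a.left = b.left ∧ a.right = b.right)
    ⟨fun h => SemidirectProduct.ext h.1 h.2, fun h => ⟨congrArg _ h, congrArg _ h⟩⟩

theorem z_pow_eq {z : K} (hz : z ^ 5 = 1) (m : ℕ) : z ^ m = z ^ (m % 5) := pow_eq_pow_mod m hz

variable [Fintype K]

theorem fr4 (hK : Fintype.card K = 81) (a : K) : fr (fr (fr (fr a))) = a := by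
  simp only [frobenius_def, ← pow_mul]
  rw [show 3 * 3 * 3 * 3 = Fintype.card K by rw [hK]]
  exact FiniteField.pow_card a

theorem frob_pow_four (hK : Fintype.card K = 81) : (frob : MulAut (A K)) ^ 4 = 1 := by
  refine MulEquiv.ext fun u => ?_
  simp only [pow_succ, pow_zero, one_mul, MulAut.mul_apply, frob_apply, fr4 hK, MulAut.one_apply]

theorem scale_pow_five {z : K} (hz : z ^ 5 = 1) : (scale z hz) ^ 5 = 1 := by
  refine MulEquiv.ext fun u => ?_
  simp only [pow_succ, pow_zero, one_mul, MulAut.mul_apply, scale_apply, MulAut.one_apply]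
  ext
  · linear_combination u.x * hz
  · linear_combination u.y * hz
  · linear_combination (u.p * (z ^ 15 + z ^ 10 + z ^ 5 + 1)) * hz
  · linear_combination (u.q * (z ^ 5 + 1)) * hz
  · linear_combination (u.r * (z ^ 5 + 1)) * hz
  · linear_combination (u.s * (z ^ 15 + z ^ 10 + z ^ 5 + 1)) * hz
  · linear_combination (u.w * (z ^ 10 + z ^ 5 + 1)) * hz

theorem frob_scale {z : K} (hz : z ^ 5 = 1) :
    frob * scale z hz = scale z hz ^ 3 * frob := by
  refine MulEquiv.ext fun u => ?_
  simp only [pow_succ, pow_zero, one_mul, MulAut.mul_apply, scale_apply, frob_apply, map_mul, map_pow]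
  rw [frobenius_def 3 z]
  ext <;> ring

/-- The action of `C` on `A`. -/
noncomputable def act (hK : Fintype.card K = 81) {z : K} (hz : z ^ 5 = 1) : C →* MulAut (A K) :=
  SemidirectProduct.lift (zmodHom (scale z hz) (scale_pow_five hz))
    (zmodHom frob (frob_pow_four hK)) (by
      intro j
      refine MonoidHom.ext fun i => ?_
      simp only [MonoidHom.comp_apply, MulEquiv.coe_toMonoidHom, MulAut.conj_apply, zmodHom_apply]
      have key : ∀ n m : ℕ, (frob : MulAut (A K)) ^ n * scale z hz ^ m =
          scale z hz ^ (3 ^ n * m) * frob ^ n := by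
        intro n
        induction n with
        | zero => simp
        | succ n ih =>
          intro m
          have h1 : ∀ m, frob * scale z hz ^ m = scale z hz ^ (3 * m) * frob := by
            intro m
            induction m with
            | zero => simp
            | succ m ihm =>
              rw [pow_succ, ← mul_assoc, ihm, mul_assoc, frob_scale, ← mul_assoc, ← pow_add, mul_add,
                mul_one]
          rw [pow_succ', mul_assoc, ih m, ← mul_assoc, h1, mul_assoc, ← pow_succ']
          ring_nf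
      rw [key, mul_assoc, mul_inv_cancel, mul_one]
      rw [pow_eq_pow_mod (3 ^ _ * _) (scale_pow_five hz),
        pow_eq_pow_mod (Multiplicative.toAdd ((times3 ^ j.toAdd.val) i)).val (scale_pow_five hz)]
      congr 1
      revert i j
      decide +kernel)

theorem act_apply (hK : Fintype.card K = 81) {z : K} (hz : z ^ 5 = 1) (c : C) (u : A K) :
    act hK hz c u = ((scale z hz ^ c.left.toAdd.val) ((frob ^ c.right.toAdd.val) u)) := rfl

/-- The solvable witness. -/
abbrev H (hK : Fintype.card K = 81) {z : K} (hz : z ^ 5 = 1) : Type := A K ⋊[act hK hz] C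

theorem scale_pow_xy {z : K} (hz : z ^ 5 = 1) (n : ℕ) (u : A K) :
    ((scale z hz ^ n) u).x = z ^ n * u.x ∧ ((scale z hz ^ n) u).y = z ^ n * u.y ∧
      ((scale z hz ^ n) u).p = z ^ (4 * n) * u.p ∧ ((scale z hz ^ n) u).q = z ^ (2 * n) * u.q ∧
      ((scale z hz ^ n) u).r = z ^ (2 * n) * u.r ∧ ((scale z hz ^ n) u).s = z ^ (4 * n) * u.s ∧
      ((scale z hz ^ n) u).w = z ^ (3 * n) * u.w := by
  induction n with
  | zero => simp
  | succ n ih =>
    obtain ⟨h1, h2, h3, h4, h5, h6, h7⟩ := ih
    simp only [pow_succ', MulAut.mul_apply, scale_apply, h1, h2, h3, h4, h5, h6, h7]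
    refine ⟨?_, ?_, ?_, ?_, ?_, ?_, ?_⟩ <;> ring

theorem solvable (hK : Fintype.card K = 81) {z : K} (hz : z ^ 5 = 1) :
    Group.IsSolvable (H hK hz) := by
  let v : A K →* Multiplicative (K × K) :=
    { toFun := fun u => Multiplicative.ofAdd (u.x, u.y), map_one' := rfl, map_mul' := fun _ _ => rfl }
  have : Group.IsSolvable v.ker := by
    refine Group.isSolvable_of_comm fun a b => Subtype.ext ?_
    have ha : a.1.x = 0 ∧ a.1.y = 0 := Prod.ext_iff.1 (congrArg Multiplicative.toAdd a.2)
    have hb : b.1.x = 0 ∧ b.1.y = 0 := Prod.ext_iff.1 (congrArg Multiplicative.toAdd b.2)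
    rw [Subgroup.coe_mul, Subgroup.coe_mul]
    simp only [mul_def, ha.1, ha.2, hb.1, hb.2, map_zero, mul_zero, zero_mul, add_zero, sub_zero]
    ext <;> ring
  have : Group.IsSolvable (A K) :=
    Group.isSolvable_of_ker_le_range v.ker.subtype v (by rw [Subgroup.range_subtype])
  have : Group.IsSolvable C :=
    Group.isSolvable_of_ker_le_range SemidirectProduct.inl SemidirectProduct.rightHom
      SemidirectProduct.range_inl_eq_ker_rightHom.ge
  exact Group.isSolvable_of_ker_le_range SemidirectProduct.inl SemidirectProduct.rightHom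
    SemidirectProduct.range_inl_eq_ker_rightHom.ge

variable {hK : Fintype.card K = 81} {z : K} {hz : z ^ 5 = 1}

theorem pow_case (h : H hK hz) (k : ℕ) (hk : h.right ^ k = 1) :
    (h ^ k).right = 1 ∧ h.left * act hK hz h.right (h ^ k).left = (h ^ k).left * h.left := by
  have hr : (h ^ k).right = 1 := by
    rw [← SemidirectProduct.rightHom_eq_right, map_pow]
    exact hk
  refine ⟨hr, ?_⟩
  have := congrArg SemidirectProduct.left (Commute.self_pow h k).eq
  rwa [SemidirectProduct.mul_left, SemidirectProduct.mul_left, hr, map_one, MulAut.one_apply] at this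

theorem five_case (hz1 : z ≠ 1) (h : H hK hz) (hr : h.right.right = 1) (hl : h.right.left ≠ 1) :
    h ^ 5 = 1 := by
  have hC : ∀ c : C, c.right = 1 → c ^ 5 = 1 := by decide +kernel
  obtain ⟨hr5, he⟩ := pow_case h 5 (hC _ hr)
  refine SemidirectProduct.ext ?_ hr5
  set a := (h ^ 5).left
  set l := h.left
  set n := h.right.left.toAdd.val with hn
  have hact : act hK hz h.right a = (scale z hz ^ n) a := by
    rw [act_apply, hr]
    simp [hn]
  obtain ⟨h1, h2, h3, h4, h5, h6, h7⟩ := scale_pow_xy hz n a
  rw [hact] at he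
  simp only [mul_def, A.mk.injEq, h1, h2, h3, h4, h5, h6, h7] at he
  obtain ⟨ex, ey, ep, eq', er, es, ew⟩ := he
  have hn5 : ¬ 5 ∣ n := by
    intro hd
    have hlt : n < 5 := ZMod.val_lt _
    have h0 : n = 0 := Nat.eq_zero_of_dvd_of_lt hd hlt
    exact hl (congrArg Multiplicative.ofAdd ((ZMod.val_eq_zero _).1 h0))
  have hne : ∀ m, ¬ 5 ∣ m → z ^ m ≠ 1 := by
    intro m hm he
    have : Fact (Nat.Prime 5) := ⟨by norm_num⟩
    have := orderOf_eq_prime hz hz1
    exact hm (this ▸ orderOf_dvd_of_pow_eq_one he)
  have hzero : ∀ (m : ℕ) (b : K), ¬ 5 ∣ m → z ^ m * b = b → b = 0 := by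
    intro m b hm he
    by_contra hb
    exact hne m hm (mul_right_cancel₀ hb (he.trans (one_mul b).symm))
  have ax : a.x = 0 := hzero n a.x hn5 (by linear_combination ex)
  have ay : a.y = 0 := hzero n a.y hn5 (by linear_combination ey)
  have ap : a.p = 0 := hzero (4 * n) a.p (by omega) (by
    simp only [ax, mul_zero, map_zero, add_zero, zero_mul] at ep
    linear_combination ep)
  have aq : a.q = 0 := hzero (2 * n) a.q (by omega) (by
    simp only [ax, ay, mul_zero, map_zero, add_zero, zero_mul] at eq'
    linear_combination eq')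
  have ar : a.r = 0 := hzero (2 * n) a.r (by omega) (by
    simp only [ax, mul_zero, map_zero, add_zero, zero_mul] at er
    linear_combination er)
  have as' : a.s = 0 := hzero (4 * n) a.s (by omega) (by
    simp only [ax, ay, mul_zero, map_zero, add_zero, zero_mul] at es
    linear_combination es)
  have aw : a.w = 0 := hzero (3 * n) a.w (by omega) (by
    simp only [ax, ay, ap, aq, ar, as', mul_zero, map_zero, add_zero, zero_mul, sub_zero] at ew
    linear_combination ew)
  exact A.ext ax ay ap aq ar as' aw

theorem twelve_case (h : H hK hz) (hr : h.right.right ≠ 1) : h ^ 12 = 1 := by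
  have hC : ∀ c : C, c.right ≠ 1 → c ^ 4 = 1 := by decide +kernel
  obtain ⟨hr4, he⟩ := pow_case h 4 (hC _ hr)
  set a := (h ^ 4).left with ha
  have ex := congrArg A.x he
  have ey := congrArg A.y he
  simp only [mul_def] at ex ey
  have hfix : fr a.x * (a.x * fr (fr a.y) - fr (fr a.x) * a.y) = 0 := by
    set n := h.right.left.toAdd.val
    have hm : h.right.right.toAdd.val = 1 ∨ h.right.right.toAdd.val = 2 ∨
        h.right.right.toAdd.val = 3 := by
      revert hr
      generalize h.right.right = j
      revert j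
      decide +kernel
    obtain ⟨m, hm_eq, hmm⟩ : ∃ m, h.right.right.toAdd.val = m ∧ (m = 1 ∨ m = 2 ∨ m = 3) :=
      ⟨_, rfl, hm⟩
    rw [act_apply, (scale_pow_xy hz _ _).1, hm_eq] at ex
    rw [act_apply, (scale_pow_xy hz _ _).2.1, hm_eq] at ey
    suffices hη : ∃ η : K, fr (fr a.x) = η * a.x ∧ fr (fr a.y) = η * a.y by
      obtain ⟨η, hx, hy⟩ := hη
      rw [hx, hy]
      ring
    -- `u = zⁿ fr^m u` for both coordinates gives `fr² u = η u` with a common `η`
    have cancel : ∀ u v : K, v * u = u → v * u = u := fun _ _ h => h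
    rcases hmm with rfl | rfl | rfl
    · have hx : z ^ n * fr a.x = a.x := by
        simp only [pow_one, frob_apply] at ex
        linear_combination ex
      have hy : z ^ n * fr a.y = a.y := by
        simp only [pow_one, frob_apply] at ey
        linear_combination ey
      have key : ∀ u : K, z ^ n * fr u = u → fr (fr u) = z ^ (16 * n) * u := by
        intro u hu
        have h1 : fr (z ^ n) * fr (fr u) = fr u := by rw [← map_mul, hu]
        rw [map_pow, frobenius_def 3 z] at h1
        have h20 : z ^ (20 * n) = 1 := by rw [show 20 * n = 5 * (4 * n) by ring, pow_mul, hz, one_pow]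
        linear_combination z ^ (17 * n) * h1 + z ^ (16 * n) * hu - fr (fr u) * h20
      exact ⟨_, key _ hx, key _ hy⟩
    · have hx : z ^ n * fr (fr a.x) = a.x := by
        simp only [pow_two, MulAut.mul_apply, frob_apply] at ex
        linear_combination ex
      have hy : z ^ n * fr (fr a.y) = a.y := by
        simp only [pow_two, MulAut.mul_apply, frob_apply] at ey
        linear_combination ey
      have key : ∀ u : K, z ^ n * fr (fr u) = u → fr (fr u) = z ^ (4 * n) * u := by
        intro u hu
        have h5 : z ^ (5 * n) = 1 := by rw [pow_mul, hz, one_pow]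
        linear_combination z ^ (4 * n) * hu - fr (fr u) * h5
      exact ⟨_, key _ hx, key _ hy⟩
    · have hx : z ^ n * fr (fr (fr a.x)) = a.x := by
        simp only [pow_succ, pow_zero, one_mul, MulAut.mul_apply, frob_apply] at ex
        linear_combination ex
      have hy : z ^ n * fr (fr (fr a.y)) = a.y := by
        simp only [pow_succ, pow_zero, one_mul, MulAut.mul_apply, frob_apply] at ey
        linear_combination ey
      have key : ∀ u : K, z ^ n * fr (fr (fr u)) = u → fr (fr u) = z ^ (12 * n) * u := by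
        intro u hu
        have h1 : fr (z ^ n) * fr (fr (fr (fr u))) = fr u := by rw [← map_mul, hu]
        have h2 : fr (fr (z ^ n)) * fr (fr (fr (fr (fr u)))) = fr (fr u) := by rw [← map_mul, h1]
        rw [fr4 hK, map_pow, frobenius_def 3 z] at h1
        rw [fr4 hK, map_pow, frobenius_def 3 z, map_pow, map_pow, frobenius_def 3 z] at h2
        linear_combination -h2 - z ^ (9 * n) * h1
      exact ⟨_, key _ hx, key _ hy⟩
  have h4 : h ^ 4 = SemidirectProduct.inl a := SemidirectProduct.ext rfl hr4
  rw [show 12 = 4 * 3 by rfl, pow_mul, h4, ← map_pow, cube, hfix, ← one_def, map_one]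

theorem all_killed (hz1 : z ≠ 1) (h : H hK hz) : ∃ k ∈ ({5, 9, 12} : Finset ℕ), h ^ k = 1 := by
  by_cases hr : h.right.right = 1
  · by_cases hl : h.right.left = 1
    · refine ⟨9, by simp, ?_⟩
      have : h = SemidirectProduct.inl h.left :=
        SemidirectProduct.ext rfl (SemidirectProduct.ext hl hr)
      rw [this, ← map_pow, pow_nine, map_one]
    · exact ⟨5, by simp, five_case hz1 h hr hl⟩
  · exact ⟨12, by simp, twelve_case h hr⟩

theorem exists_five : ∃ h : H hK hz, orderOf h = 5 := by
  have : Fact (Nat.Prime 5) := ⟨by norm_num⟩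
  obtain ⟨c, hc⟩ : ∃ c : C, c ^ 5 = 1 ∧ c ≠ 1 := by decide +kernel
  exact ⟨SemidirectProduct.inr c, by
    rw [orderOf_injective _ SemidirectProduct.inr_injective]; exact orderOf_eq_prime hc.1 hc.2⟩

theorem exists_nine (hz1 : z ≠ 1) : ∃ h : H hK hz, orderOf h = 9 := by
  have : Fact (Nat.Prime 3) := ⟨Nat.prime_three⟩
  refine ⟨SemidirectProduct.inl ⟨1, z, 0, 0, 0, 0, 0⟩, ?_⟩
  rw [orderOf_injective _ SemidirectProduct.inl_injective]
  refine orderOf_eq_prime_pow (p := 3) (n := 1) ?_ (pow_nine _)
  rw [pow_one, cube, one_def]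
  intro h
  have hw := congrArg A.w h
  simp only [map_one, one_mul, frobenius_def] at hw
  rw [← pow_mul, sub_eq_zero, z_pow_eq hz] at hw
  have : Fact (Nat.Prime 5) := ⟨by norm_num⟩
  have ho := orderOf_eq_prime hz hz1
  have hne : z ≠ 0 := fun e => by simp [e] at hz
  norm_num at hw
  have h3 : z ^ 3 = 1 := mul_right_cancel₀ hne (by linear_combination hw)
  have := ho ▸ orderOf_dvd_of_pow_eq_one h3
  norm_num at this

theorem exists_twelve : ∃ h : H hK hz, orderOf h = 12 := by
  have : Fact (Nat.Prime 3) := ⟨Nat.prime_three⟩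
  let a : A K := ⟨1, 0, 0, 0, 0, 0, 0⟩
  let c : C := SemidirectProduct.inr (Multiplicative.ofAdd 1)
  refine ⟨SemidirectProduct.inl a * SemidirectProduct.inr c, ?_⟩
  have hac : act hK hz c a = a := by
    rw [act_apply]
    have h1 : (1 : ZMod 4).val = 1 := rfl
    simp [c, a, h1, frob_apply, frobenius_def]
  have hcomm : Commute (SemidirectProduct.inl a : H hK hz) (SemidirectProduct.inr c) := by
    refine SemidirectProduct.ext ?_ ?_
    · simp [hac]
    · simp
  have h3 : orderOf (SemidirectProduct.inl a : H hK hz) = 3 := by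
    rw [orderOf_injective _ SemidirectProduct.inl_injective]
    refine orderOf_eq_prime ?_ ?_
    · rw [cube, one_def]
      simp [a]
    · intro h
      exact one_ne_zero (congrArg A.x h)
  have h4 : orderOf (SemidirectProduct.inr c : H hK hz) = 4 := by
    rw [orderOf_injective _ SemidirectProduct.inr_injective]
    exact (orderOf_eq_iff (by norm_num)).2 ⟨by decide +kernel, by decide +kernel⟩
  rw [hcomm.orderOf_mul_eq_mul_orderOf_of_coprime (by rw [h3, h4]; norm_num), h3, h4]

end Cfsg.Agent.Spectrum.FiveFour
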